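import Cfsg.Agent.Suzuki.Sylow

/-!
Centralisers in the Suzuki group: translations, the split torus, and the fixed-point-free elements,
whose centralisers are cyclic.
-/

set_option autoImplicit false

namespace Cfsg.Agent.Suzuki

open Matrix Cfsg.Agent.RankOne.Ovoid MulAction
open scoped Pointwise

universe u

variable {F : Type u} [Field F] [Fintype F] {m : ℕ} (hG : Good F m)

/-- Without fixed point on the ovoid. -/
def Fpf (g : Cfsg.Sz F m) : Prop := ∀ p : Cfsg.suzukiOvoid F m, g • p ≠ p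

theorem conj_fix {k g : Cfsg.Sz F m} {p : Cfsg.suzukiOvoid F m} (h : g • p = p) :
    (k * g * k⁻¹) • (k • p) = k • p := by rw [mul_smul, mul_smul, inv_smul_smul, h]

/-- An element with a fixed point is conjugate to a translation or a torus element. -/
theorem exists_conj_of_fix (hm : 1 ≤ m) (hF : Fintype.card F = 2 ^ (2 * m + 1)) {g : Cfsg.Sz F m}
    {p : Cfsg.suzukiOvoid F m} (hp : g • p = p) :
    ∃ k, k * g * k⁻¹ ∈ U hG ∨ ∃ c : Fˣ, c ≠ 1 ∧ k * g * k⁻¹ = H hG c := by
  have := pretransitive (m := m) hG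
  obtain ⟨k, hk⟩ := MulAction.exists_smul_eq (Cfsg.Sz F m) p (pI : Cfsg.suzukiOvoid F m)
  have h1 := conj_fix (k := k) hp
  rw [hk] at h1
  obtain ⟨a, b, c, hc⟩ := eq_T_mul_H hG hm hF h1
  by_cases hc1 : c = 1
  · exact ⟨k, Or.inl (by rw [hc, hc1, map_one, mul_one]; exact T_mem hG a b)⟩
  -- solve for the second fixed point
  have hl : (1 : F) - lam m (c : F) ≠ 0 := fun h => hc1 (lam_eq_one hG (sub_eq_zero.mp h).symm)
  have hs : (1 : F) - (c : F) ^ (2 ^ (m + 1)) ≠ 0 :=
    fun h => hc1 (sigma_eq_one hG (sub_eq_zero.mp h).symm)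
  set x := a / (1 - lam m (c : F))
  have hx : x * (1 - lam m (c : F)) = a := div_mul_cancel₀ _ hl
  set y := (a ^ (2 ^ (m + 1)) * (lam m (c : F) * x) + b) / (1 - (c : F) ^ (2 ^ (m + 1)))
  have hy : y * (1 - (c : F) ^ (2 ^ (m + 1))) = a ^ (2 ^ (m + 1)) * (lam m (c : F) * x) + b :=
    div_mul_cancel₀ _ hs
  have h2 : (k * g * k⁻¹) • (pP x y : Cfsg.suzukiOvoid F m) = pP x y := by
    rw [hc, mul_smul, H_pP, T_pP]
    congr 1
    · linear_combination -hx
    · linear_combination -hy
  obtain ⟨l, hl1, hl2⟩ := (MulAction.is_two_pretransitive_iff.mp (pretransitive_two hG))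
    (pP_ne_pI (m := m) x y).symm (pP_ne_pI (m := m) (0 : F) 0).symm
  have e1 := conj_fix (k := l) h1
  have e2 := conj_fix (k := l) h2
  rw [hl1] at e1
  rw [hl2] at e2
  obtain ⟨d, hd⟩ := eq_H_of_fix hG hm hF e1 e2
  refine ⟨l * k, Or.inr ⟨d, fun hd1 => hc1 ?_, by rw [← hd]; simp [mul_assoc]⟩⟩
  have hk1 : k * g * k⁻¹ = 1 := by
    rw [hd1, map_one] at hd
    have : l * (k * g * k⁻¹) = l := mul_inv_eq_one.mp hd
    exact mul_eq_left.mp this
  rw [hc, ← T_zero hG] at hk1
  exact (T_H_inj hG (c' := 1) (hk1.trans (by rw [map_one, mul_one]))).2.2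

theorem H_fixes_two {c : Fˣ} (hc : c ≠ 1) {p : Cfsg.suzukiOvoid F m} (h : H hG c • p = p) :
    p = pI ∨ p = pP 0 0 := by
  rcases point_cases p with rfl | ⟨x, y, rfl⟩
  · exact Or.inl rfl
  · refine Or.inr ?_
    by_contra hne
    refine hc (H_fix hG c h ?_)
    by_contra hh
    push Not at hh
    exact hne (by rw [hh.1, hh.2])

theorem centralizer_H (hm : 1 ≤ m) (hF : Fintype.card F = 2 ^ (2 * m + 1)) {c : Fˣ} (hc : c ≠ 1) :
    Subgroup.centralizer {H hG c} = (H hG).range := by
  ext g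
  rw [Subgroup.mem_centralizer_singleton_iff]
  refine ⟨fun h => ?_, ?_⟩
  · have hperm : ∀ p : Cfsg.suzukiOvoid F m, H hG c • p = p → H hG c • (g • p) = g • p :=
      fun p hp => by rw [← mul_smul, ← h, mul_smul, hp]
    rcases H_fixes_two hG hc (hperm _ (H_pI hG c)) with e1 | e1
    · rcases H_fixes_two hG hc (hperm _ (H_pP_zero hG c)) with e2 | e2
      · exact absurd (MulAction.injective g (e2.trans e1.symm)) (pP_ne_pI 0 0)
      · obtain ⟨a, ha⟩ := eq_H_of_fix hG hm hF e1 e2
        exact ⟨a, ha.symm⟩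
    · rcases H_fixes_two hG hc (hperm _ (H_pP_zero hG c)) with e2 | e2
      · exfalso
        obtain ⟨a, ha⟩ := eq_H_of_fix hG hm hF (g := J hG * g)
          (by rw [mul_smul, e1, J_pP_zero]) (by rw [mul_smul, e2, J_pI])
        have hg : g = J hG * H hG a := by rw [← ha, ← mul_assoc, J_mul_J, one_mul]
        rw [hg] at h
        have h1 : H hG c⁻¹ = H hG c := by
          rw [← J_H_J hG c]
          have hh : J hG * H hG c * H hG a = H hG c * J hG * H hG a := by
            rw [mul_assoc (J hG), ← map_mul, mul_comm c a, map_mul, ← mul_assoc, h, ← mul_assoc]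
          rw [mul_right_cancel hh, mul_assoc, J_mul_J, mul_one]
        have h2 : (c : F) * c = 1 := by
          have h3 : c * c = 1 := by
            nth_rw 1 [← H_injective hG h1]
            exact inv_mul_cancel c
          rw [← Units.val_mul, h3, Units.val_one]
        have h4 : ((c : F) - 1) ^ 2 = 0 := by
          have := hG.two
          grind
        exact hc (Units.ext (sub_eq_zero.mp (eq_zero_of_pow_eq_zero h4)))
      · exact absurd (MulAction.injective g (e2.trans e1.symm)) (pP_ne_pI 0 0)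
  · rintro ⟨a, rfl⟩
    rw [← map_mul, ← map_mul, mul_comm]

theorem card_range_H : Nat.card (H hG).range = Nat.card F - 1 := by
  rw [← Nat.card_congr (MonoidHom.ofInjective (H_injective hG)).toEquiv, Nat.card_units]

theorem isCyclic_range_H : IsCyclic (H hG).range :=
  isCyclic_of_surjective (MonoidHom.ofInjective (H_injective hG)).toMonoidHom
    (MonoidHom.ofInjective (H_injective hG)).surjective

theorem centralizer_conj (k g : Cfsg.Sz F m) :
    Subgroup.centralizer {k * g * k⁻¹} =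
      (Subgroup.centralizer {g}).map (MulAut.conj k).toMonoidHom := by
  ext x
  rw [Subgroup.mem_map_equiv, Subgroup.mem_centralizer_singleton_iff,
    Subgroup.mem_centralizer_singleton_iff, MulAut.conj_symm_apply]
  constructor
  · intro h
    calc k⁻¹ * x * k * g = k⁻¹ * (x * (k * g * k⁻¹)) * k := by simp [mul_assoc]
      _ = k⁻¹ * (k * g * k⁻¹ * x) * k := by rw [h]
      _ = g * (k⁻¹ * x * k) := by simp [mul_assoc]
  · intro h
    calc x * (k * g * k⁻¹) = k * (k⁻¹ * x * k * g) * k⁻¹ := by simp [mul_assoc]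
      _ = k * (g * (k⁻¹ * x * k)) * k⁻¹ := by rw [h]
      _ = k * g * k⁻¹ * x := by simp [mul_assoc]

include hG in
/-- A centraliser of a fixed-point-free element consists of such elements. -/
theorem fpf_of_commute (hm : 1 ≤ m) (hF : Fintype.card F = 2 ^ (2 * m + 1)) {g z : Cfsg.Sz F m}
    (hg : Fpf g) (hz : z ≠ 1) (hc : Commute g z) : Fpf z := by
  intro p hp
  obtain ⟨k, hk | ⟨c, hc1, hk⟩⟩ := exists_conj_of_fix hG hm hF hp
  · have h1 : k * z * k⁻¹ ≠ 1 := fun e => hz (by simpa [mul_inv_eq_one, mul_eq_left] using e)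
    have h2 : k * g * k⁻¹ ∈ Subgroup.centralizer {k * z * k⁻¹} := by
      rw [centralizer_conj]
      exact ⟨g, Subgroup.mem_centralizer_singleton_iff.mpr hc.eq, rfl⟩
    have h3 := U_le hG (centralizer_le_U hG hm hF hk h1 h2)
    rw [mem_stabilizer_iff, mul_smul, mul_smul, smul_eq_iff_eq_inv_smul] at h3
    exact hg _ h3
  · have h2 : k * g * k⁻¹ ∈ Subgroup.centralizer {H hG c} := by
      rw [← hk, centralizer_conj]
      exact ⟨g, Subgroup.mem_centralizer_singleton_iff.mpr hc.eq, rfl⟩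
    rw [centralizer_H hG hm hF hc1] at h2
    obtain ⟨a, ha⟩ := h2
    have h3 : (k * g * k⁻¹) • (pI : Cfsg.suzukiOvoid F m) = pI := by rw [← ha, H_pI]
    rw [mul_smul, mul_smul, smul_eq_iff_eq_inv_smul] at h3
    exact hg _ h3

theorem exists_fix_of_two (hm : 1 ≤ m) (hF : Fintype.card F = 2 ^ (2 * m + 1)) {g : Cfsg.Sz F m}
    {j : ℕ} (hg : g ^ (2 ^ j) = 1) : ∃ p : Cfsg.suzukiOvoid F m, g • p = p := by
  have hG := good_of_card (m := m) hF
  have : Fact (Nat.Prime 2) := ⟨Nat.prime_two⟩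
  have hz : IsPGroup 2 (Subgroup.zpowers g) := by
    intro x
    obtain ⟨i, hi⟩ := x.2
    refine ⟨j, Subtype.ext ?_⟩
    show (x : Cfsg.Sz F m) ^ (2 ^ j) = 1
    rw [← hi, ← zpow_natCast, ← _root_.zpow_mul, mul_comm, _root_.zpow_mul, zpow_natCast, hg, _root_.one_zpow]
  obtain ⟨P, hP⟩ := hz.exists_le_sylow
  obtain ⟨k, hk⟩ := exists_conj_U hG hm hF P
  have h := U_le hG ((hk g).mp (hP (Subgroup.mem_zpowers g)))
  rw [mem_stabilizer_iff, mul_smul, mul_smul, smul_eq_iff_eq_inv_smul] at h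
  exact ⟨_, h⟩

include hG in
theorem sylow_fix_of_dvd (hm : 1 ≤ m) (hF : Fintype.card F = 2 ^ (2 * m + 1)) {p : ℕ}
    [Fact p.Prime] (hp2 : p ≠ 2) (hp : p ∣ Nat.card F - 1) (P : Sylow p (Cfsg.Sz F m)) :
    ∃ k : Cfsg.Sz F m, (P : Subgroup (Cfsg.Sz F m)) ≤
      (H hG).range.map (MulAut.conj k).toMonoidHom := by
  obtain ⟨S0⟩ : Nonempty (Sylow p (H hG).range) := inferInstance
  set S := (S0 : Subgroup (H hG).range).map (H hG).range.subtype
  have hcard : Nat.card S = p ^ (Nat.card (Cfsg.Sz F m)).factorization p := by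
    rw [Subgroup.card_map_of_injective (Subtype.val_injective), S0.card_eq_multiplicity,
      card_range_H]
    congr 1
    have hq : 0 < Nat.card F := Nat.card_pos
    have hq1 : Nat.card F - 1 ≠ 0 := by
      have := two_lt_card hm hF
      rw [Nat.card_eq_fintype_card]
      omega
    have hnd1 : ¬ p ∣ Nat.card F ^ 2 := fun h => by
      have h1 : p ∣ Nat.card F := (Fact.out : p.Prime).dvd_of_dvd_pow h
      rw [Nat.card_eq_fintype_card, hF] at h1
      exact hp2 ((Nat.prime_dvd_prime_iff_eq Fact.out Nat.prime_two).mp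
        ((Fact.out : p.Prime).dvd_of_dvd_pow h1))
    have hnd2 : ¬ p ∣ Nat.card F ^ 2 + 1 := fun h => by
      obtain ⟨s, hs⟩ := hp
      have e : Nat.card F ^ 2 + 1 = p * (s * (p * s) + 2 * s) + 2 := by
        have : Nat.card F = p * s + 1 := by omega
        rw [this]; ring
      rw [e, Nat.dvd_add_right (dvd_mul_right _ _)] at h
      exact hp2 ((Nat.prime_dvd_prime_iff_eq Fact.out Nat.prime_two).mp h)
    rw [card_eq hm hF, Nat.factorization_mul (mul_ne_zero (by positivity) hq1) (by positivity),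
      Nat.factorization_mul (by positivity) hq1, Finsupp.add_apply, Finsupp.add_apply,
      Nat.factorization_eq_zero_of_not_dvd hnd1, Nat.factorization_eq_zero_of_not_dvd hnd2,
      zero_add, add_zero]
  obtain ⟨k, hk⟩ := MulAction.exists_smul_eq (Cfsg.Sz F m) (Sylow.ofCard S hcard) P
  refine ⟨k, ?_⟩
  rw [← hk, Sylow.coe_subgroup_smul]
  intro x hx
  rw [Subgroup.mem_pointwise_smul_iff_inv_smul_mem] at hx
  obtain ⟨⟨y, hy⟩, -, he⟩ := (hx : _ ∈ S)
  refine ⟨y, hy, ?_⟩
  have he' : y = k⁻¹ * x * k := by simpa [mul_assoc] using he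
  rw [he']
  simp [mul_assoc]

include hG in
/-- The prime divisors of the order of a fixed-point-free element divide `q² + 1`. -/
theorem dvd_of_fpf (hm : 1 ≤ m) (hF : Fintype.card F = 2 ^ (2 * m + 1)) {g : Cfsg.Sz F m}
    (hg : Fpf g) {p : ℕ} (hp : p.Prime) (hd : p ∣ orderOf g) :
    p ≠ 2 ∧ ¬ p ∣ Nat.card F - 1 ∧ p ∣ Nat.card F ^ 2 + 1 := by
  set y := g ^ (orderOf g / p)
  have hy : orderOf y = p := orderOf_pow_orderOf_div (orderOf_pos g).ne' hd
  have hy1 : y ≠ 1 := fun e => hp.ne_one (by rw [← hy, e, orderOf_one])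
  have hfy : Fpf y := fpf_of_commute hG hm hF hg hy1 ((Commute.refl g).pow_right _)
  have h2 : p ≠ 2 := fun e => by
    obtain ⟨x, hx⟩ := exists_fix_of_two hm hF (g := y) (j := 1)
      (by rw [pow_one, ← e, ← hy, pow_orderOf_eq_one])
    exact hfy x hx
  have h1 : ¬ p ∣ Nat.card F - 1 := fun h => by
    have := Fact.mk hp
    have hz : IsPGroup p (Subgroup.zpowers y) := IsPGroup.of_card (n := 1) (by
      rw [Nat.card_zpowers, hy, pow_one])
    obtain ⟨P, hP⟩ := hz.exists_le_sylow
    obtain ⟨k, hk⟩ := sylow_fix_of_dvd hG hm hF h2 h P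
    obtain ⟨_, ⟨a, rfl⟩, hae⟩ := hk (hP (Subgroup.mem_zpowers y))
    refine hfy (k • pI) ?_
    rw [← hae]
    show (k * H hG a * k⁻¹) • (k • pI) = k • pI
    exact conj_fix (H_pI hG a)
  refine ⟨h2, h1, ?_⟩
  have hdvd : p ∣ Nat.card (Cfsg.Sz F m) := hd.trans (orderOf_dvd_natCard g)
  rw [card_eq hm hF, hp.dvd_mul, hp.dvd_mul] at hdvd
  rcases hdvd with (h | h) | h
  · rw [Nat.card_eq_fintype_card, hF] at h
    exact absurd ((Nat.prime_dvd_prime_iff_eq hp Nat.prime_two).mp
      (hp.dvd_of_dvd_pow (hp.dvd_of_dvd_pow h))) h2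
  · exact absurd h h1
  · exact h

/-- The matrix of a group element. -/
def mat : Cfsg.Sz F m →* Matrix (Fin 4) (Fin 4) F where
  toFun g := ((g : SpecialLinearGroup (Fin 4) F) : Matrix (Fin 4) (Fin 4) F)
  map_one' := rfl
  map_mul' _ _ := rfl

theorem mat_injective : Function.Injective (mat : Cfsg.Sz F m → Matrix (Fin 4) (Fin 4) F) :=
  fun _ _ h => Subtype.ext (Subtype.ext h)

include hG in
theorem no_fixed_vector (hm : 1 ≤ m) (hF : Fintype.card F = 2 ^ (2 * m + 1)) {g : Cfsg.Sz F m}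
    (hg1 : g ≠ 1) (hodd : Odd (orderOf g)) {v : Fin 4 → F} (hv : v ≠ 0) : mat g *ᵥ v ≠ v := by
  intro h
  have : Fact (Nat.Prime 2) := ⟨Nat.prime_two⟩
  have : CharP F 2 := charP_of_card_eq_prime_pow hF
  have hmem : Matrix.SpecialLinearGroup.toGL (g : SpecialLinearGroup (Fin 4) F) ∈
      Lie.Sz F (2 ^ (m + 1)) := by
    rw [← map_toGL hm hF]; exact ⟨g, g.2, rfl⟩
  have hord : orderOf (Matrix.SpecialLinearGroup.toGL (g : SpecialLinearGroup (Fin 4) F)) =
      orderOf g := by
    rw [← orderOf_injective (Matrix.SpecialLinearGroup.toGL.comp (Cfsg.Sz F m).subtype)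
      (Matrix.SpecialLinearGroup.toGL_injective.comp Subtype.val_injective) g]
    rfl
  have h1 := PrimeGraph.eq_one_of_fixed hmem (by rwa [hord]) hv h
  exact hg1 (Subtype.ext (Matrix.SpecialLinearGroup.toGL_injective
    (h1.trans (map_one Matrix.SpecialLinearGroup.toGL).symm)))

/-- The data of an element generating a field of dimension four. -/
structure FieldModel (x : Cfsg.Sz F m) where
  /-- the field -/
  K : Type u
  [field : Field K]
  [alg : Algebra F K]
  [fin : Finite K]
  /-- the embedding -/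
  φ : K →ₐ[F] Matrix (Fin 4) (Fin 4) F
  inj : Function.Injective φ
  commutant : ∀ N : Matrix (Fin 4) (Fin 4) F, N * mat x = mat x * N → ∃ a, φ a = N
  deg : (minpoly F (mat x)).natDegree ≤ 4

theorem order_four (hF : Fintype.card F = 2 ^ (2 * m + 1)) {p d : ℕ} (hp : p.Prime) (hp2 : p ≠ 2)
    (h1 : p ∣ Nat.card F ^ 2 + 1) (hd : p ∣ Nat.card F ^ d - 1) (hd0 : 0 < d) : 4 ≤ d := by
  have := Fact.mk hp
  by_contra hlt
  push Not at hlt
  have hq : ((Nat.card F : ZMod p)) ^ 2 = -1 := by
    have h := (ZMod.natCast_eq_zero_iff _ _).mpr h1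
    push_cast at h
    linear_combination h
  have hqd : ((Nat.card F : ZMod p)) ^ d = 1 := by
    have h := (ZMod.natCast_eq_zero_iff _ _).mpr hd
    rw [Nat.cast_sub (Nat.one_le_pow _ _ Nat.card_pos)] at h
    push_cast at h
    linear_combination h
  have h2 : (2 : ZMod p) ≠ 0 := by
    intro h
    have h' : ((2 : ℕ) : ZMod p) = 0 := by exact_mod_cast h
    exact hp2 ((Nat.prime_dvd_prime_iff_eq hp Nat.prime_two).mp
      ((ZMod.natCast_eq_zero_iff _ _).mp h'))
  apply h2
  set q := (Nat.card F : ZMod p)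
  interval_cases d
  · rw [pow_one] at hqd; rw [hqd] at hq; linear_combination hq
  · linear_combination -hqd + hq
  · have h3 : -q = 1 := by linear_combination hqd - q * hq
    rw [show q = -1 by linear_combination -h3] at hq
    linear_combination hq

include hG in
/-- An element of prime order without fixed point generates a field of matrices. -/
theorem exists_fieldModel (hm : 1 ≤ m) (hF : Fintype.card F = 2 ^ (2 * m + 1)) {x : Cfsg.Sz F m}
    (hx : Fpf x) (hp : (orderOf x).Prime) : Nonempty (FieldModel x) := by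
  classical
  set p := orderOf x with hpdef
  obtain ⟨hp2, -, hpd⟩ := dvd_of_fpf hG hm hF hx hp dvd_rfl
  have hx1 : x ≠ 1 := fun e => hp.ne_one (by rw [hpdef, e, orderOf_one])
  set M := mat x with hMdef
  have hMp : M ^ p = 1 := by rw [hMdef, ← map_pow, hpdef, pow_orderOf_eq_one, map_one]
  have hint : IsIntegral F M := Matrix.isIntegral M
  set μ := minpoly F M with hμdef
  have hμ0 : μ ≠ 0 := minpoly.ne_zero hint
  have hdeg : μ.natDegree ≤ 4 := by
    have h := Polynomial.natDegree_le_of_dvd (Matrix.minpoly_dvd_charpoly M) M.charpoly_monic.ne_zero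
    rwa [Matrix.charpoly_natDegree_eq_dim, Fintype.card_fin] at h
  obtain ⟨f, hfirr, hfd⟩ := WfDvdMonoid.exists_irreducible_factor (minpoly.not_isUnit F M) hμ0
  have := Fact.mk hfirr
  have hf0 : f ≠ 0 := hfirr.ne_zero
  have : Module.Finite F (AdjoinRoot f) := (AdjoinRoot.powerBasis hf0).finite
  have : Finite (AdjoinRoot f) := Module.finite_of_finite F
  set ζ := AdjoinRoot.root f
  have hμζ : Polynomial.aeval ζ μ = 0 := by
    obtain ⟨g, hg⟩ := hfd
    rw [show μ = f * g from hg, map_mul, AdjoinRoot.aeval_eq, AdjoinRoot.mk_self, zero_mul]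
  have hζp : ζ ^ p = 1 := by
    have hdvd : μ ∣ Polynomial.X ^ p - 1 := minpoly.dvd F M (by simp [hMp])
    obtain ⟨g, hg⟩ := hdvd
    have h := congrArg (Polynomial.aeval ζ) hg
    rw [map_mul, show Polynomial.aeval ζ μ = 0 from hμζ, zero_mul, map_sub, map_one, map_pow,
      Polynomial.aeval_X, sub_eq_zero] at h
    exact h
  have hζ1 : ζ ≠ 1 := by
    intro h
    have h1 : Polynomial.eval 1 M.charpoly = 0 := by
      obtain ⟨g, hg⟩ := Matrix.minpoly_dvd_charpoly M
      have h' := hμζ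
      rw [h, show (1 : AdjoinRoot f) = algebraMap F (AdjoinRoot f) 1 from (map_one _).symm,
        Polynomial.aeval_algebraMap_apply_eq_algebraMap_eval,
        map_eq_zero_iff _ (algebraMap F (AdjoinRoot f)).injective] at h'
      rw [hg, Polynomial.eval_mul, show Polynomial.eval 1 (minpoly F M) = 0 from h', zero_mul]
    rw [Matrix.eval_charpoly, ← Matrix.exists_mulVec_eq_zero_iff] at h1
    obtain ⟨v, hv, hv'⟩ := h1
    rw [map_one, Matrix.sub_mulVec, Matrix.one_mulVec, sub_eq_zero] at hv'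
    exact no_fixed_vector hG hm hF hx1 (hp.odd_of_ne_two hp2) hv hv'.symm
  have hfdeg : 4 ≤ f.natDegree := by
    refine order_four hF hp hp2 hpd ?_ ?_
    · have hζ0 : ζ ≠ 0 := fun h => by
        rw [h, zero_pow hp.ne_zero] at hζp
        exact zero_ne_one hζp
      have := Fact.mk hp
      have ho : orderOf (Units.mk0 ζ hζ0) = p := orderOf_eq_prime
        (Units.ext (by rw [Units.val_pow_eq_pow_val]; exact hζp))
        (fun h => hζ1 (congrArg Units.val h))
      have hd := ho ▸ orderOf_dvd_natCard (Units.mk0 ζ hζ0)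
      rwa [Nat.card_units, Module.natCard_eq_pow_finrank (K := F),
        (AdjoinRoot.powerBasis hf0).finrank, AdjoinRoot.powerBasis_dim] at hd
    · exact hfirr.natDegree_pos
  have hle : f.natDegree ≤ μ.natDegree := Polynomial.natDegree_le_of_dvd hfd hμ0
  have hassoc : Associated f μ := Polynomial.associated_of_dvd_of_natDegree_le hfd hμ0 (by omega)
  have hirr : Irreducible μ := hassoc.irreducible hfirr
  have := Fact.mk hirr
  have : Module.Finite F (AdjoinRoot μ) := (AdjoinRoot.powerBasis hμ0).finite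
  have : Finite (AdjoinRoot μ) := Module.finite_of_finite F
  let φ : AdjoinRoot μ →ₐ[F] Matrix (Fin 4) (Fin 4) F :=
    Ideal.Quotient.liftₐ (Ideal.span {μ}) (Polynomial.aeval M) fun a ha => by
      obtain ⟨g, rfl⟩ := Ideal.mem_span_singleton'.mp ha
      rw [map_mul, hμdef, minpoly.aeval, mul_zero]
  have hφroot : φ (AdjoinRoot.root μ) = M := Polynomial.aeval_X M
  have hφinj : Function.Injective φ := φ.toRingHom.injective
  refine ⟨{ K := AdjoinRoot μ, φ := φ, inj := hφinj, commutant := fun N hN => ?_, deg := hdeg }⟩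
  let e : Fin 4 → F := Pi.single 0 1
  have he : e ≠ 0 := fun h => one_ne_zero (α := F) (by simpa [e] using congrFun h 0)
  let ψ : AdjoinRoot μ → (Fin 4 → F) := fun a => φ a *ᵥ e
  have hψinj : Function.Injective ψ := by
    intro a b h
    by_contra hne
    apply he
    have h' : φ (a - b) *ᵥ e = 0 := by
      rw [map_sub, Matrix.sub_mulVec, sub_eq_zero]; exact h
    have := congrArg (fun v => φ (a - b)⁻¹ *ᵥ v) h'
    simpa only [Matrix.mulVec_mulVec, ← map_mul, inv_mul_cancel₀ (sub_ne_zero.mpr hne), map_one,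
      Matrix.one_mulVec, Matrix.mulVec_zero] using this
  have hψ := (Nat.bijective_iff_injective_and_card ψ).mpr ⟨hψinj, by
    rw [Module.natCard_eq_pow_finrank (K := F), (AdjoinRoot.powerBasis hμ0).finrank,
      AdjoinRoot.powerBasis_dim, Nat.card_fun, Nat.card_fin, show μ.natDegree = 4 by omega]⟩
  obtain ⟨a, ha⟩ := hψ.2 (N *ᵥ e)
  refine ⟨a, Matrix.ext_of_mulVec_single fun i => ?_⟩
  obtain ⟨b, hb⟩ := hψ.2 (Pi.single i 1)
  have hcomm : N * φ b = φ b * N := by
    obtain ⟨g, rfl⟩ := AdjoinRoot.mk_surjective b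
    clear hb
    show N * Polynomial.aeval M g = Polynomial.aeval M g * N
    induction g using Polynomial.induction_on' with
    | add g₁ g₂ h₁ h₂ => rw [map_add, mul_add, add_mul, h₁, h₂]
    | monomial n r =>
      rw [Polynomial.aeval_monomial]
      exact ((Algebra.commute_algebraMap_right r N).mul_right
        ((show Commute N M from hN).pow_right n)).eq
  rw [← hb]
  show φ a *ᵥ (φ b *ᵥ e) = N *ᵥ (φ b *ᵥ e)
  rw [Matrix.mulVec_mulVec, Matrix.mulVec_mulVec, hcomm, ← Matrix.mulVec_mulVec _ (φ b) N, ← ha]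
  show (φ a * φ b) *ᵥ e = φ b *ᵥ (φ a *ᵥ e)
  rw [Matrix.mulVec_mulVec, ← map_mul, ← map_mul, mul_comm]

theorem cyclic_of_model {x : Cfsg.Sz F m} (M : FieldModel x) :
    IsCyclic (Subgroup.centralizer {x}) := by
  letI := M.field
  letI := M.alg
  haveI := M.fin
  have hc : ∀ z : Subgroup.centralizer {x}, ∃ a, M.φ a = mat (z : Cfsg.Sz F m) := fun z =>
    M.commutant _ (by rw [← map_mul, ← map_mul, Subgroup.mem_centralizer_singleton_iff.mp z.2])
  choose a ha using hc
  let f : Subgroup.centralizer {x} →* M.K :=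
    { toFun := a
      map_one' := M.inj (by rw [ha, map_one]; rfl)
      map_mul' := fun u v => M.inj (by rw [map_mul, ha, ha, ha]; rfl) }
  exact isCyclic_of_injective f.toHomUnits fun u v h => Subtype.ext (mat_injective (by
    rw [← ha u, ← ha v, show a u = a v from congrArg Units.val h]))

end Cfsg.Agent.Suzuki
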