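import Cfsg.Agent.Suzuki.AutU
import Cfsg.Agent.Suzuki.Tori
import Cfsg.Prelude.Def_KGroupFacts

/-!
The automorphism group of the Suzuki group: inner and field automorphisms only.
-/

set_option autoImplicit false

namespace Cfsg.Agent.Suzuki

open Matrix Cfsg.Agent.RankOne.Ovoid MulAction
open scoped Pointwise

universe u

variable {F : Type u} [Field F] [Fintype F] {m : ℕ} (hm : 1 ≤ m)
  (hF : Fintype.card F = 2 ^ (2 * m + 1))

/-- Entrywise application of a field automorphism. -/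
def mapSL (φ : F ≃+* F) : SpecialLinearGroup (Fin 4) F →* SpecialLinearGroup (Fin 4) F :=
  Matrix.SpecialLinearGroup.map (φ : F →+* F)

omit [Fintype F] in
theorem mapSL_coe (φ : F ≃+* F) (g : SpecialLinearGroup (Fin 4) F) :
    (mapSL φ g : Matrix (Fin 4) (Fin 4) F) = (g : Matrix (Fin 4) (Fin 4) F).map φ := rfl

variable (hG : Good F m)

theorem mapSL_T (φ : F ≃+* F) (a b : F) :
    mapSL φ (T hG a b : SpecialLinearGroup (Fin 4) F) = T hG (φ a) (φ b) := by
  refine Subtype.ext ?_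
  show (translMat m a b).map φ = translMat m (φ a) (φ b)
  ext i j
  fin_cases i <;> fin_cases j <;> simp [translMat, vPt]

theorem mapSL_H (φ : F ≃+* F) (c : Fˣ) :
    mapSL φ (H hG c : SpecialLinearGroup (Fin 4) F) = H hG (Units.map (φ : F →* F) c) := by
  refine Subtype.ext ?_
  show (torMat m (c : F)).map φ = torMat m (φ (c : F))
  ext i j
  fin_cases i <;> fin_cases j <;> simp [torMat, torVec, Matrix.diagonal]

theorem mapSL_J (φ : F ≃+* F) :
    mapSL φ (J hG : SpecialLinearGroup (Fin 4) F) = J hG := by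
  refine Subtype.ext ?_
  show (revMat F).map φ = revMat F
  ext i j
  fin_cases i <;> fin_cases j <;> simp [revMat]

include hm hF in
theorem mapSL_mem (φ : F ≃+* F) (g : Cfsg.Sz F m) :
    mapSL φ (g : SpecialLinearGroup (Fin 4) F) ∈ Cfsg.Sz F m := by
  have hG := good_of_card (m := m) hF
  let K : Subgroup (Cfsg.Sz F m) :=
    (Cfsg.Sz F m).comap ((mapSL φ).comp (Cfsg.Sz F m).subtype)
  have hK : K = ⊤ := eq_top_of_gen hG hm hF K
    (fun a b => by
      show mapSL φ (T hG a b : SpecialLinearGroup (Fin 4) F) ∈ Cfsg.Sz F m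
      rw [mapSL_T]; exact SetLike.coe_mem _)
    (fun c => by
      show mapSL φ (H hG c : SpecialLinearGroup (Fin 4) F) ∈ Cfsg.Sz F m
      rw [mapSL_H]; exact SetLike.coe_mem _)
    (by
      show mapSL φ (J hG : SpecialLinearGroup (Fin 4) F) ∈ Cfsg.Sz F m
      rw [mapSL_J]; exact SetLike.coe_mem _)
  exact (hK ▸ Subgroup.mem_top g : g ∈ K)

omit [Fintype F] in
theorem mapSL_comp (φ ψ : F ≃+* F) (g : SpecialLinearGroup (Fin 4) F) :
    mapSL φ (mapSL ψ g) = mapSL (φ * ψ) g := Subtype.ext (Matrix.ext fun _ _ => rfl)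

omit [Fintype F] in
theorem mapSL_one (g : SpecialLinearGroup (Fin 4) F) : mapSL (1 : F ≃+* F) g = g :=
  Subtype.ext (Matrix.ext fun _ _ => rfl)

/-- The field automorphisms of the Suzuki group. -/
def fieldAut : (F ≃+* F) →* MulAut (Cfsg.Sz F m) where
  toFun φ :=
    { toFun := fun g => ⟨mapSL φ g, mapSL_mem hm hF φ g⟩
      invFun := fun g => ⟨mapSL φ⁻¹ g, mapSL_mem hm hF φ⁻¹ g⟩
      left_inv := fun g => Subtype.ext (by
        show mapSL φ⁻¹ (mapSL φ (g : SpecialLinearGroup (Fin 4) F)) = g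
        rw [mapSL_comp, inv_mul_cancel, mapSL_one])
      right_inv := fun g => Subtype.ext (by
        show mapSL φ (mapSL φ⁻¹ (g : SpecialLinearGroup (Fin 4) F)) = g
        rw [mapSL_comp, mul_inv_cancel, mapSL_one])
      map_mul' := fun g k => Subtype.ext (map_mul _ _ _) }
  map_one' := MulEquiv.ext fun g => Subtype.ext (mapSL_one _)
  map_mul' φ ψ := MulEquiv.ext fun g => Subtype.ext (mapSL_comp φ ψ _).symm

theorem fieldAut_T (φ : F ≃+* F) (a b : F) :
    fieldAut hm hF φ (T hG a b) = T hG (φ a) (φ b) := Subtype.ext (mapSL_T hG φ a b)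

theorem fieldAut_H (φ : F ≃+* F) (c : Fˣ) :
    fieldAut hm hF φ (H hG c) = H hG (Units.map (φ : F →* F) c) := Subtype.ext (mapSL_H hG φ c)

include hm hF hG in
theorem faithful {g : Cfsg.Sz F m} (h : ∀ p : Cfsg.suzukiOvoid F m, g • p = p) : g = 1 := by
  obtain ⟨d, rfl⟩ := eq_H_of_fix hG hm hF (h pI) (h (pP 0 0))
  rw [H_fix hG d (h (pP 1 0)) (Or.inl one_ne_zero), map_one]

theorem H_T_comm (c : Fˣ) (a b : F) :
    H hG c * T hG a b * (H hG c)⁻¹ = T hG (lam m (c : F) * a) ((c : F) ^ (2 ^ (m + 1)) * b) := by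
  rw [H_conj_T, mul_inv_cancel_right]

include hG in
theorem sigma_lam (c : F) :
    lam m c ^ (2 ^ (m + 1)) * lam m c = c ^ (2 ^ (m + 1)) := by
  rcases eq_or_ne c 0 with rfl | hc
  · simp [lam, sigma_ne_zero]
  have hne : c ^ (2 ^ (m + 1)) ≠ 0 := pow_ne_zero _ hc
  have hp : (c ^ 2) ^ (2 ^ (m + 1)) = (c ^ (2 ^ (m + 1))) ^ 2 := by
    rw [← pow_mul, ← pow_mul, mul_comm]
  rw [lam, div_pow, hp, hG.sq c]
  field_simp

include hG in
theorem lam_surj {a : F} (ha : a ≠ 0) : ∃ c : Fˣ, lam m (c : F) = a := by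
  have hf : Function.Injective fun c : Fˣ => lam m (c : F) := fun c d e => by
    have h1 : lam m ((c * d⁻¹ : Fˣ) : F) = 1 := by
      have e' : lam m (c : F) = lam m (d : F) := e
      have hd : lam m (d : F) ≠ 0 := div_ne_zero (pow_ne_zero _ d.ne_zero) (pow_ne_zero _ d.ne_zero)
      calc lam m ((c * d⁻¹ : Fˣ) : F) = lam m (c : F) / lam m (d : F) := by
            simp only [lam, Units.val_mul, Units.val_inv_eq_inv_val, mul_pow, inv_pow]
            field_simp
        _ = 1 := by rw [e', div_self hd]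
    exact mul_inv_eq_one.mp (lam_eq_one hG h1)
  let f : Fˣ → Fˣ := fun c => Units.mk0 (lam m (c : F))
    (div_ne_zero (pow_ne_zero _ c.ne_zero) (pow_ne_zero _ c.ne_zero))
  obtain ⟨c, hc⟩ := Finite.surjective_of_injective (f := f)
    (fun c d e => hf (congrArg Units.val e)) (Units.mk0 a ha)
  exact ⟨c, congrArg Units.val hc⟩

include hm hF in
/-- Rigidity. -/
theorem rigid (β : MulAut (Cfsg.Sz F m)) (hU : ∀ u ∈ U hG, β u ∈ U hG)
    (hZ : ∀ b, β (T hG 0 b) = T hG 0 b) (hH : ∀ c, β (H hG c) = H hG c) : β = 1 := by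
  have hk : ∀ a, ∃ p : F × F, β (T hG a 0) = T hG p.1 p.2 := fun a => by
    obtain ⟨x, y, h⟩ := hU _ (T_mem hG a 0)
    exact ⟨(x, y), h⟩
  choose p hp using hk
  have hsplit : ∀ a b, β (T hG a b) = T hG (p a).1 ((p a).2 + b) := fun a b => by
    have h1 : T hG a b = T hG a 0 * T hG 0 b := by rw [T_mul]; simp
    rw [h1, map_mul, hp, hZ, T_mul]
    simp
  have hscale : ∀ (c : Fˣ) (a : F), p (lam m (c : F) * a) =
      (lam m (c : F) * (p a).1, (c : F) ^ (2 ^ (m + 1)) * (p a).2) := fun c a => by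
    have e := congrArg β (H_T_comm hG c a 0)
    rw [map_mul, map_mul, map_inv, hH, hp, H_T_comm, mul_zero, hp] at e
    obtain ⟨e1, e2⟩ := T_inj hG e
    exact Prod.ext e1.symm e2.symm
  have hp0 : p 0 = (0, 0) := by
    have e := hp 0
    rw [T_zero, map_one, ← T_zero hG] at e
    obtain ⟨e1, e2⟩ := T_inj hG e
    exact Prod.ext e1.symm e2.symm
  have hlin : ∀ a, (p a).1 = a * (p 1).1 ∧ (p a).2 = a ^ (2 ^ (m + 1)) * a * (p 1).2 := fun a => by
    rcases eq_or_ne a 0 with rfl | ha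
    · rw [hp0]; simp
    obtain ⟨c, hc⟩ := lam_surj hG ha
    have e := hscale c 1
    rw [mul_one, hc] at e
    rw [e]
    refine ⟨rfl, ?_⟩
    show (c : F) ^ (2 ^ (m + 1)) * (p 1).2 = _
    rw [← sigma_lam hG (c : F), hc]
  have hr : (p 1).1 = 1 := by
    have e := congrArg β (T_sq hG (1 : F) 0)
    rw [map_mul, hp, T_sq, hZ] at e
    have e2 := (T_inj hG e).2
    exact (Finite.injective_iff_surjective.mpr (sigma_succ_surj hG) :
      Function.Injective fun z : F => z ^ (2 ^ (m + 1)) * z) e2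
  have hK : (p 1).2 = 0 := by
    obtain ⟨c, -, -, hc⟩ := exists_sigma_ne hm hF
    have e := congrArg β (T_mul hG 1 0 c 0)
    rw [map_mul, hp, hp, T_mul, hsplit] at e
    have e2 := (T_inj hG e).2
    rw [(hlin c).2, (hlin (1 + c)).2, (hlin c).1, hr, one_pow, hG.add, one_pow] at e2
    have e3 : (c + c ^ (2 ^ (m + 1))) * (p 1).2 = 0 := by linear_combination -e2
    refine (mul_eq_zero.mp e3).resolve_left fun h => hc ?_
    have := hG.two
    grind
  have hT : ∀ a b, β (T hG a b) = T hG a b := fun a b => by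
    rw [hsplit, (hlin a).1, (hlin a).2, hr, hK]
    simp
  have hB : ∀ g : Cfsg.Sz F m, g • (pI : Cfsg.suzukiOvoid F m) = pI → β g = g := fun g hg => by
    obtain ⟨a, b, c, rfl⟩ := eq_T_mul_H hG hm hF hg
    rw [map_mul, hT, hH]
  -- the image of `J`
  obtain ⟨d, hd⟩ : ∃ d, β (J hG) = J hG * H hG d := by
    obtain ⟨c, hc0, hc1, -⟩ := exists_sigma_ne hm hF
    set u : Fˣ := Units.mk0 c hc0
    have hu : u ≠ 1 := fun h => hc1 (congrArg Units.val h)
    have e := congrArg β (J_H_J hG u⁻¹)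
    rw [map_mul, map_mul, hH, hH, inv_inv] at e
    have e0 := J_H_J hG u⁻¹
    rw [inv_inv] at e0
    have hbj : β (J hG) * β (J hG) = 1 := by rw [← map_mul, J_mul_J, map_one]
    have hmem : J hG * β (J hG) ∈ Subgroup.centralizer {H hG u} := by
      rw [Subgroup.mem_centralizer_singleton_iff]
      have h1 : β (J hG) * H hG u = H hG u⁻¹ * β (J hG) := by
        rw [← e, mul_assoc (β (J hG)), ← mul_assoc, ← mul_assoc, hbj, one_mul]
      have h2 : J hG * H hG u⁻¹ = H hG u * J hG := by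
        rw [← e0, mul_assoc (J hG * _), J_mul_J, mul_one]
      rw [mul_assoc, h1, ← mul_assoc, h2, mul_assoc]
    rw [centralizer_H hG hm hF hu] at hmem
    obtain ⟨d, hd⟩ := hmem
    exact ⟨d, by rw [hd, ← mul_assoc, J_mul_J, one_mul]⟩
  have hpt : ∀ g : Cfsg.Sz F m, β g • (pI : Cfsg.suzukiOvoid F m) = g • pI := fun g => by
    rcases point_cases (g • (pI : Cfsg.suzukiOvoid F m)) with h | ⟨x, y, h⟩
    · rw [hB g h]
    · have hb : (J hG * (T hG x y)⁻¹ * g) • (pI : Cfsg.suzukiOvoid F m) = pI := by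
        rw [mul_smul, mul_smul, h, show (T hG x y)⁻¹ • (pP x y : Cfsg.suzukiOvoid F m) = pP 0 0 from
          inv_smul_eq_iff.mpr (by rw [T_pP]; simp), J_pP_zero]
      have e := hB _ hb
      have hg : g = T hG x y * (J hG * (J hG * (T hG x y)⁻¹ * g)) := by
        rw [← mul_assoc (J hG), ← mul_assoc (J hG) (J hG), J_mul_J, one_mul, mul_inv_cancel_left]
      rw [h, hg, map_mul, map_mul, hT, e, hd, mul_smul, mul_smul, mul_smul, hb, H_pI, J_pI, T_pP]
      simp
  refine MulEquiv.ext fun g => ?_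
  rw [MulAut.one_apply]
  refine inv_mul_eq_one.mp (faithful hm hF hG fun q => ?_) |>.symm
  obtain ⟨k, rfl⟩ := (pretransitive (m := m) hG).exists_smul_eq (pI : Cfsg.suzukiOvoid F m) q
  rw [mul_smul, inv_smul_eq_iff]
  calc β g • k • (pI : Cfsg.suzukiOvoid F m) = β g • β k • pI := by rw [hpt k]
    _ = g • k • pI := by rw [← mul_smul, ← map_mul, hpt, mul_smul]

include hm hF in
theorem exists_normal_form (α : MulAut (Cfsg.Sz F m)) :
    ∃ g : Cfsg.Sz F m, (∀ u ∈ U hG, (MulAut.conj g * α) u ∈ U hG) ∧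
      ∀ c, ∃ d, (MulAut.conj g * α) (H hG c) = H hG d := by
  have : Fact (Nat.Prime 2) := ⟨Nat.prime_two⟩
  obtain ⟨P, hP⟩ := ((U_isPGroup hG hF).map α.toMonoidHom).exists_le_sylow
  obtain ⟨g, hg⟩ := exists_conj_U hG hm hF P
  set β := MulAut.conj g * α with hβ
  have hU : ∀ u ∈ U hG, β u ∈ U hG := fun u hu => (hg _).mp (hP ⟨u, hu, rfl⟩)
  have hfix : ∀ n : Cfsg.Sz F m, n • (pI : Cfsg.suzukiOvoid F m) = pI →
      β n • (pI : Cfsg.suzukiOvoid F m) = pI := fun n hn => by
    refine fix_of_conj_mem_U hG (hU _ (T_mem hG 0 1)) (fun e => T_ne_one hG (β.map_eq_one_iff.mp e)) ?_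
    rw [← map_inv, ← map_mul, ← map_mul]
    exact hU _ (conj_mem_U hG hm hF hn (T_mem hG 0 1))
  obtain ⟨c0, hc0⟩ := IsCyclic.exists_generator (α := Fˣ)
  have hne : c0 ≠ 1 := fun e => by
    obtain ⟨c, hc, hc1, -⟩ := exists_sigma_ne hm hF
    obtain ⟨j, hj⟩ := hc0 (Units.mk0 c hc)
    refine hc1 (congrArg Units.val (show Units.mk0 c hc = 1 from ?_))
    rw [← hj, e]
    exact _root_.one_zpow j
  obtain ⟨a, b, c, hc⟩ := eq_T_mul_H hG hm hF (hfix _ (H_pI hG c0))
  have hc1 : c ≠ 1 := fun e => by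
    rw [e, map_one, mul_one] at hc
    have h4 : orderOf (H hG c0) ∣ 4 := by
      rw [← orderOf_injective β.toMonoidHom β.injective]
      show orderOf (β (H hG c0)) ∣ 4
      rw [hc]
      refine orderOf_dvd_of_pow_eq_one ?_
      have := Monoid.pow_exponent_eq_one (⟨_, T_mem hG a b⟩ : U hG)
      rw [exponent_U] at this
      exact congrArg Subtype.val this
    rw [orderOf_injective _ (H_injective hG), orderOf_eq_card_of_forall_mem_zpowers hc0,
      Nat.card_units, Nat.card_eq_fintype_card, hF] at h4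
    have h7 := two_lt_card hm hF
    rw [hF] at h7
    have := Nat.le_of_dvd (by norm_num) h4
    omega
  -- the second fixed point
  have hl : (1 : F) - lam m (c : F) ≠ 0 := fun h => hc1 (lam_eq_one hG (sub_eq_zero.mp h).symm)
  have hs : (1 : F) - (c : F) ^ (2 ^ (m + 1)) ≠ 0 :=
    fun h => hc1 (sigma_eq_one hG (sub_eq_zero.mp h).symm)
  set x := a / (1 - lam m (c : F))
  have hx : x * (1 - lam m (c : F)) = a := div_mul_cancel₀ _ hl
  set y := (a ^ (2 ^ (m + 1)) * (lam m (c : F) * x) + b) / (1 - (c : F) ^ (2 ^ (m + 1)))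
  have hy : y * (1 - (c : F) ^ (2 ^ (m + 1))) = a ^ (2 ^ (m + 1)) * (lam m (c : F) * x) + b :=
    div_mul_cancel₀ _ hs
  have h2 : β (H hG c0) • (pP x y : Cfsg.suzukiOvoid F m) = pP x y := by
    rw [hc, mul_smul, H_pP, T_pP]
    congr 1
    · linear_combination -hx
    · linear_combination -hy
  have hw : (T hG x y)⁻¹ • (pP x y : Cfsg.suzukiOvoid F m) = pP 0 0 :=
    inv_smul_eq_iff.mpr (by rw [T_pP]; simp)
  obtain ⟨d, hd⟩ := eq_H_of_fix hG hm hF (g := (T hG x y)⁻¹ * β (H hG c0) * T hG x y)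
    (by rw [mul_smul, mul_smul, T_pI, hfix _ (H_pI hG c0), inv_smul_eq_iff, T_pI])
    (by
      have e : T hG x y • (pP 0 0 : Cfsg.suzukiOvoid F m) = pP x y := (inv_smul_eq_iff.mp hw).symm
      rw [mul_smul, mul_smul, e, h2, hw])
  refine ⟨(T hG x y)⁻¹ * g, fun u hu => ?_, fun c' => ?_⟩
  · rw [map_mul, mul_assoc, ← hβ, MulAut.mul_apply, MulAut.conj_apply]
    exact (U hG).mul_mem ((U hG).mul_mem ((U hG).inv_mem (T_mem hG x y)) (hU u hu))
      ((U hG).inv_mem ((U hG).inv_mem (T_mem hG x y)))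
  · obtain ⟨j, rfl⟩ := hc0 c'
    refine ⟨d ^ j, ?_⟩
    simp only [map_zpow]
    congr 1
    rw [map_mul, mul_assoc, ← hβ, MulAut.mul_apply, MulAut.conj_apply, inv_inv]
    exact hd

include hm hF in
theorem exists_decomp (α : MulAut (Cfsg.Sz F m)) :
    ∃ (g : Cfsg.Sz F m) (φ : F ≃+* F), α = MulAut.conj g * fieldAut hm hF φ := by
  classical
  have hG := good_of_card (m := m) hF
  obtain ⟨g0, hU0, hH0⟩ := exists_normal_form hm hF hG α
  set β0 := MulAut.conj g0 * α with hβ0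
  have hsurj : ∀ w ∈ U hG, ∃ u ∈ U hG, β0 u = w := fun w hw => by
    obtain ⟨⟨u, hu⟩, e⟩ := Finite.surjective_of_injective
      (f := fun u : U hG => (⟨β0 u, hU0 _ u.2⟩ : U hG))
      (fun u v e => Subtype.ext (β0.injective (congrArg Subtype.val e))) ⟨w, hw⟩
    exact ⟨u, hu, congrArg Subtype.val e⟩
  have hcen : ∀ b, ∃ b', β0 (T hG 0 b) = T hG 0 b' := fun b => by
    refine (mem_center_U_iff hG hm hF ⟨_, hU0 _ (T_mem hG 0 b)⟩).mp
      (Subgroup.mem_center_iff.mpr fun w => ?_)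
    obtain ⟨u, hu, hw⟩ := hsurj w w.2
    refine Subtype.ext ?_
    show (w : Cfsg.Sz F m) * β0 (T hG 0 b) = β0 (T hG 0 b) * w
    rw [← hw, ← map_mul, ← map_mul]
    exact congrArg β0 (congrArg Subtype.val (Subgroup.mem_center_iff.mp
      ((mem_center_U_iff hG hm hF ⟨_, T_mem hG 0 b⟩).mpr ⟨b, rfl⟩) ⟨u, hu⟩))
  choose f0 hf0 using hH0
  choose z0 hz0 using hcen
  have hz1 : z0 1 ≠ 0 := fun e => by
    have h1 := hz0 1
    rw [e, T_zero] at h1
    exact T_ne_one hG (β0.map_eq_one_iff.mp h1)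
  obtain ⟨s, hs⟩ := (sAut hG).surjective (z0 1)⁻¹
  rw [sAut_apply] at hs
  have hs0 : s ≠ 0 := fun e => by
    rw [e, zero_pow sigma_ne_zero] at hs
    exact inv_ne_zero hz1 hs.symm
  set d := Units.mk0 s hs0
  set β := MulAut.conj (H hG d) * β0 with hβ
  have hβH : ∀ c, β (H hG c) = H hG (f0 c) := fun c => by
    rw [hβ, MulAut.mul_apply, hf0, MulAut.conj_apply, ← map_inv, ← map_mul, ← map_mul,
      mul_comm d, mul_inv_cancel_right]
  have hβU : ∀ u ∈ U hG, β u ∈ U hG := fun u hu => by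
    rw [hβ, MulAut.mul_apply, MulAut.conj_apply]
    exact conj_mem_U hG hm hF (H_pI hG d) (hU0 u hu)
  set z : F → F := fun b => s ^ (2 ^ (m + 1)) * z0 b
  have hβZ : ∀ b, β (T hG 0 b) = T hG 0 (z b) := fun b => by
    rw [hβ, MulAut.mul_apply, hz0, MulAut.conj_apply, H_T_comm, mul_zero]
    rfl
  have hzone : z 1 = 1 := by
    show s ^ _ * z0 1 = 1
    rw [hs, inv_mul_cancel₀ hz1]
  have hzadd : ∀ a b, z (a + b) = z a + z b := fun a b => by
    have e := congrArg β (T_mul hG 0 a 0 b)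
    rw [map_mul, hβZ, hβZ, T_mul] at e
    simp only [mul_zero, add_zero] at e
    rw [hβZ] at e
    exact (T_inj hG e).2.symm
  have hzH : ∀ (c : Fˣ) b, z ((c : F) ^ (2 ^ (m + 1)) * b) =
      (f0 c : F) ^ (2 ^ (m + 1)) * z b := fun c b => by
    have e := congrArg β (H_T_comm hG c 0 b)
    rw [map_mul, map_mul, map_inv, hβH, hβZ, H_T_comm, mul_zero, mul_zero, hβZ] at e
    exact (T_inj hG e).2.symm
  have hzmul : ∀ a b, z (a * b) = z a * z b := fun a b => by
    rcases eq_or_ne a 0 with rfl | ha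
    · rw [zero_mul]
      have h0 : z 0 = 0 := by simpa using hzadd 0 0
      rw [h0, zero_mul]
    obtain ⟨w, hw⟩ := (sAut hG).surjective a
    rw [sAut_apply] at hw
    have hw0 : w ≠ 0 := fun e => by
      rw [e, zero_pow sigma_ne_zero] at hw
      exact ha hw.symm
    have h1 := hzH (Units.mk0 w hw0) 1
    rw [Units.val_mk0, mul_one, hzone, mul_one, hw] at h1
    have h2 := hzH (Units.mk0 w hw0) b
    rw [Units.val_mk0, hw] at h2
    rw [h2, h1]
  have hzinj : Function.Injective z := fun a b e => by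
    have : β (T hG 0 a) = β (T hG 0 b) := by rw [hβZ, hβZ, e]
    exact (T_inj hG (β.injective this)).2
  let φ : F ≃+* F :=
    { Equiv.ofBijective z (Finite.injective_iff_bijective.mp hzinj) with
      map_mul' := hzmul
      map_add' := hzadd }
  have hφ : ∀ b, φ b = z b := fun _ => rfl
  have hf : ∀ c, f0 c = Units.map (φ : F →* F) c := fun c => by
    refine Units.ext ((sAut hG).injective ?_)
    show (f0 c : F) ^ _ = (φ (c : F)) ^ _
    rw [← map_pow, hφ]
    have h1 := hzH c 1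
    rw [mul_one, hzone, mul_one] at h1
    exact h1.symm
  have hrig : (fieldAut hm hF φ)⁻¹ * β = 1 := by
    have hinv : ∀ x y, fieldAut hm hF φ x = y → (fieldAut hm hF φ)⁻¹ y = x := fun x y e => by
      rw [← e, ← MulAut.mul_apply, inv_mul_cancel, MulAut.one_apply]
    refine rigid hm hF hG _ (fun u hu => ?_) (fun b => ?_) (fun c => ?_)
    · obtain ⟨a, b, e⟩ := hβU u hu
      rw [MulAut.mul_apply, e, hinv (T hG (φ.symm a) (φ.symm b)) _
        (by rw [fieldAut_T, φ.apply_symm_apply, φ.apply_symm_apply])]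
      exact T_mem hG _ _
    · rw [MulAut.mul_apply, hβZ]
      exact hinv _ _ (by rw [fieldAut_T, map_zero, hφ])
    · rw [MulAut.mul_apply, hβH]
      exact hinv _ _ (by rw [fieldAut_H, hf])
  refine ⟨(H hG d * g0)⁻¹, φ, ?_⟩
  rw [← inv_mul_eq_one.mp hrig |>.symm, hβ, hβ0, map_inv, map_mul]
  simp [mul_assoc]

include hm hF in
theorem fieldAut_inner {φ : F ≃+* F} {g : Cfsg.Sz F m}
    (h : fieldAut hm hF φ = MulAut.conj g) : φ = RingEquiv.refl F := by
  have hG := good_of_card (m := m) hF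
  have h1 : g * T hG 0 1 * g⁻¹ = T hG 0 1 := by
    rw [← MulAut.conj_apply, ← h, fieldAut_T, map_zero, map_one]
  have hgU : g ∈ U hG := centralizer_le_U hG hm hF (T_mem hG 0 1) (T_ne_one hG)
    (Subgroup.mem_centralizer_singleton_iff.mpr (mul_inv_eq_iff_eq_mul.mp h1))
  obtain ⟨c, hc0, hc1, -⟩ := exists_sigma_ne hm hF
  set u := Units.mk0 c hc0
  have hu : u ≠ 1 := fun e => hc1 (congrArg Units.val e)
  have hHc : ∀ d, g * H hG d * g⁻¹ = H hG (Units.map (φ : F →* F) d) := fun d => by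
    rw [← MulAut.conj_apply, ← h, fieldAut_H]
  have hg1 : g = 1 := by
    by_contra hne
    have hfx : H hG (Units.map (φ : F →* F) u) • g • (pP 0 0 : Cfsg.suzukiOvoid F m) = g • pP 0 0 := by
      rw [← hHc, mul_smul, mul_smul, inv_smul_smul, H_pP_zero]
    have hu' : Units.map (φ : F →* F) u ≠ 1 := fun e => hu (Units.ext (φ.injective
      ((congrArg Units.val e).trans φ.map_one.symm)))
    rcases H_fixes_two hG hu' hfx with e | e
    · exact pP_ne_pI (0 : F) 0 (MulAction.injective g (e.trans (U_le hG hgU).symm))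
    · exact pP_ne_pI (0 : F) 0 (U_fixes_only hG hgU hne e)
  refine RingEquiv.ext fun x => ?_
  rcases eq_or_ne x 0 with rfl | hx
  · exact φ.map_zero
  have e := hHc (Units.mk0 x hx)
  rw [hg1, one_mul, inv_one, mul_one] at e
  exact (congrArg Units.val (H_injective hG e)).symm

include hm hF in
theorem card_out : Nat.card (Cfsg.Out (Cfsg.Sz F m)) = 2 * m + 1 := by
  have hG := good_of_card (m := m) hF
  have := charTwo hG
  letI : Algebra (ZMod 2) F := ZMod.algebra F 2
  have hn : Module.finrank (ZMod 2) F = 2 * m + 1 := by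
    have := Module.natCard_eq_pow_finrank (K := ZMod 2) (V := F)
    rw [Nat.card_zmod, Nat.card_eq_fintype_card, hF] at this
    exact (Nat.pow_right_injective le_rfl this).symm
  rw [← hn, ← RankOne.card_ringAut_eq_finrank]
  refine (Nat.card_eq_of_bijective
    (fun φ : F ≃+* F => (QuotientGroup.mk (fieldAut hm hF φ) : Cfsg.Out (Cfsg.Sz F m))) ⟨?_, ?_⟩).symm
  · intro φ ψ e
    obtain ⟨g, hg⟩ := QuotientGroup.eq.mp e
    rw [← map_inv, ← map_mul] at hg
    have := fieldAut_inner hm hF hg.symm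
    exact inv_mul_eq_one.mp this
  · intro x
    obtain ⟨α, rfl⟩ := QuotientGroup.mk_surjective x
    obtain ⟨g, φ, rfl⟩ := exists_decomp hm hF α
    refine ⟨φ, QuotientGroup.eq.mpr ?_⟩
    rw [← mul_assoc]
    have : (fieldAut hm hF φ)⁻¹ * MulAut.conj g * fieldAut hm hF φ =
        MulAut.conj ((fieldAut hm hF φ)⁻¹ g) := by
      refine MulEquiv.ext fun y => ?_
      simp only [MulAut.mul_apply, MulAut.conj_apply, map_mul, map_inv]
      rw [← MulAut.mul_apply, inv_mul_cancel, MulAut.one_apply]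
    exact ⟨_, this.symm⟩

end Cfsg.Agent.Suzuki
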