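import Cfsg.Agent.Suzuki.Tori3
import Cfsg.Agent.Suzuki.Aut
import Cfsg.Prelude.Def_KGroupFacts
import Mathlib.GroupTheory.Transfer

/-!
The Schur multiplier of `Sz(q)`, `q > 8`, is trivial.
-/

set_option autoImplicit false

namespace Cfsg.Agent.Suzuki

open Matrix Cfsg.Agent.RankOne.Ovoid MulAction
open scoped Pointwise

universe u v w

/-- A central element of the derived group dies under every transfer. -/
theorem transfer_kills {Γ : Type v} [Group Γ] [Finite Γ] {A : Type w} [CommGroup A] {p : ℕ}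
    [Fact p.Prime] (P : Subgroup Γ) (hP : ¬ p ∣ P.index) (θ : P →* A) {z : Γ}
    (hz : z ∈ Subgroup.center Γ) (hzc : z ∈ commutator Γ) (hzP : z ∈ P)
    (h1 : θ ⟨z, hzP⟩ ≠ 1) (hp : z ^ p = 1) : False := by
  have h := MonoidHom.transfer_eq_pow θ z fun k g₀ _ => by
    rw [mul_assoc, ← (Subgroup.mem_center_iff.mp ((Subgroup.center Γ).pow_mem hz k) g₀),
      inv_mul_cancel_left]
  have h0 : MonoidHom.transfer θ z = 1 := Abelianization.commutator_subset_ker _ hzc
  rw [h0] at h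
  have h2 : θ ⟨z, hzP⟩ ^ P.index = 1 := by
    rw [← map_pow]
    exact h.symm
  have h3 : θ ⟨z, hzP⟩ ^ p = 1 := by
    rw [← map_pow]
    exact (congrArg θ (Subtype.ext hp)).trans (map_one θ)
  have ho : orderOf (θ ⟨z, hzP⟩) = p := orderOf_eq_prime h3 h1
  exact hP (ho ▸ orderOf_dvd_of_pow_eq_one h2)

/-- A prime-order central kernel inside the derived group is a counterexample, if there is one. -/
theorem stem_reduce {G : Type u} [Group G] :
    ∀ (n : ℕ) {Γ : Type u} [Group Γ] [Finite Γ] (σ : Γ →* G), Nat.card Γ = n →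
      Cfsg.IsStemExtension σ → σ.ker ≠ ⊥ →
      ∃ (Γ' : Type u) (_ : Group Γ') (_ : Finite Γ') (σ' : Γ' →* G) (p : ℕ), p.Prime ∧
        Cfsg.IsStemExtension σ' ∧ Nat.card σ'.ker = p := by
  intro n
  induction n using Nat.strong_induction_on with
  | _ n ih =>
    intro Γ _ _ σ hn hσ hne
    set K := σ.ker
    have hK1 : Nat.card K ≠ 1 := fun h => hne (Subgroup.card_eq_one.mp h)
    obtain ⟨p, hp, hpd⟩ := Nat.exists_prime_and_dvd hK1
    have := Fact.mk hp
    obtain ⟨⟨z, hzK⟩, hz⟩ := exists_prime_orderOf_dvd_card' (G := K) p hpd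
    rw [Subgroup.orderOf_mk] at hz
    set N := Subgroup.zpowers z
    have hNK : N ≤ K := (Subgroup.zpowers_le).mpr hzK
    have hNc : N ≤ Subgroup.center Γ := hNK.trans hσ.2.1
    have : N.Normal := ⟨fun x hx g => by
      rw [Subgroup.mem_center_iff.mp (hNc hx) g, mul_inv_cancel_right]; exact hx⟩
    by_cases hKN : K = N
    · exact ⟨Γ, inferInstance, inferInstance, σ, p, hp, hσ, by
        show Nat.card K = p
        rw [hKN, Nat.card_zpowers, hz]⟩
    let σ' : Γ ⧸ N →* G := QuotientGroup.lift N σ hNK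
    have hsurj : Function.Surjective σ' := fun g => by
      obtain ⟨x, rfl⟩ := hσ.1 g
      exact ⟨x, rfl⟩
    have hker : σ'.ker = K.map (QuotientGroup.mk' N) := QuotientGroup.ker_lift N σ hNK
    have hstem : Cfsg.IsStemExtension σ' := by
      refine ⟨hsurj, ?_, ?_⟩
      · rw [hker]
        rintro _ ⟨x, hx, rfl⟩
        refine Subgroup.mem_center_iff.mpr fun g => ?_
        obtain ⟨y, rfl⟩ := QuotientGroup.mk'_surjective N g
        rw [← map_mul, ← map_mul, Subgroup.mem_center_iff.mp (hσ.2.1 hx) y]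
      · rw [hker]
        refine (Subgroup.map_mono hσ.2.2).trans ?_
        rw [commutator_def, commutator_def, Subgroup.map_commutator]
        exact Subgroup.commutator_mono le_top le_top
    have hne' : σ'.ker ≠ ⊥ := fun h => hKN (le_antisymm (fun x hx => by
      have : QuotientGroup.mk' N x ∈ σ'.ker := hker ▸ ⟨x, hx, rfl⟩
      rw [h, Subgroup.mem_bot] at this
      exact (QuotientGroup.eq_one_iff x).mp this) hNK)
    refine ih (Nat.card (Γ ⧸ N)) ?_ σ' rfl hstem hne'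
    rw [← hn, Subgroup.card_eq_card_quotient_mul_card_subgroup N, Nat.card_zpowers, hz]
    exact lt_mul_of_one_lt_right Nat.card_pos hp.one_lt

variable {F : Type u} [Field F] [Fintype F] {m : ℕ} (hm : 2 ≤ m)
  (hF : Fintype.card F = 2 ^ (2 * m + 1))

include hm hF

omit hm in
/-- Biadditive pairings with a scaling symmetry vanish. -/
theorem pairing_trivial {M : Type v} [Group M] (B : F → F → M)
    (hl : ∀ a a' b, B (a + a') b = B a b * B a' b) (hr : ∀ a b b', B a (b + b') = B a b * B a b')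
    (g : F → F) (hg : ∀ a b, b ≠ 0 → B a b = B (a * g b) 1) {x : F} (hx0 : x ≠ 0) (hx1 : x ≠ 1)
    (hgx : g (1 + x) ≠ g 1 + g x) : ∀ a b, B a b = 1 := by
  have hG := good_of_card (m := m) hF
  have h2 := hG.two
  have hx2 : 1 + x ≠ 0 := fun e => hx1 (by linear_combination e - h2)
  have h00 : ∀ b, B 0 b = 1 := fun b => by
    have := hl 0 0 b
    rw [add_zero] at this
    exact left_eq_mul.mp this
  have hr0 : ∀ a, B a 0 = 1 := fun a => by
    have := hr a 0 0
    rw [add_zero] at this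
    exact left_eq_mul.mp this
  have hδ : ∀ a, B (a * (g (1 + x) + (g 1 + g x))) 1 = 1 := fun a => by
    rw [mul_add, hl, ← hg a _ hx2, hr, hg a 1 one_ne_zero, hg a x hx0, ← hl, ← mul_add, ← hl,
      show a * (g 1 + g x) + a * (g 1 + g x) = 0 by linear_combination (a * (g 1 + g x)) * h2, h00]
  have hne : g (1 + x) + (g 1 + g x) ≠ 0 := fun e => hgx (by linear_combination e - (g 1 + g x) * h2)
  have h1 : ∀ a, B a 1 = 1 := fun a => by
    have := hδ (a / (g (1 + x) + (g 1 + g x)))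
    rwa [div_mul_cancel₀ _ hne] at this
  intro a b
  rcases eq_or_ne b 0 with rfl | hb
  · exact hr0 a
  · rw [hg a b hb, h1]

omit hm in
/-- An additive function invariant under scaling vanishes. -/
theorem invariant_trivial {M : Type v} [Group M] (f : F → M) (hf : ∀ a b, f (a + b) = f a * f b)
    (hinv : ∀ a b, a ≠ 0 → b ≠ 0 → f a = f b) {x : F} (hx0 : x ≠ 0) (hx1 : x ≠ 1) : ∀ a, f a = 1 := by
  have hG := good_of_card (m := m) hF
  have h0 : f 0 = 1 := by
    have := hf 0 0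
    rw [add_zero] at this
    exact left_eq_mul.mp this
  have hx2 : 1 + x ≠ 0 := fun e => hx1 (by linear_combination e - hG.two)
  have h1 : f 1 = 1 := by
    have := hf 1 x
    rw [hinv _ 1 hx2 one_ne_zero, hinv x 1 hx0 one_ne_zero] at this
    exact left_eq_mul.mp this
  intro a
  rcases eq_or_ne a 0 with rfl | ha
  · exact h0
  · rw [hinv a 1 ha one_ne_zero, h1]

/-- A field element away from the small exceptions. -/
theorem exists_generic : ∃ x : F, x ≠ 0 ∧ x ≠ 1 ∧ x ^ 7 ≠ 1 ∧ x ^ 3 ≠ 1 := by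
  classical
  have h32 : 32 ≤ Fintype.card F := by
    rw [hF]; exact le_trans (by norm_num) (Nat.pow_le_pow_right (by norm_num) (show 5 ≤ 2 * m + 1 by omega))
  let s : Finset F := {0, 1} ∪ (Polynomial.nthRoots 7 (1 : F)).toFinset ∪ (Polynomial.nthRoots 3 (1 : F)).toFinset
  have h7 := (Multiset.toFinset_card_le _).trans (Polynomial.card_nthRoots 7 (1 : F))
  have h3 := (Multiset.toFinset_card_le _).trans (Polynomial.card_nthRoots 3 (1 : F))
  have hs : s.card < (Finset.univ : Finset F).card := by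
    rw [Finset.card_univ]
    calc s.card ≤ ({0, 1} ∪ (Polynomial.nthRoots 7 (1 : F)).toFinset).card +
          (Polynomial.nthRoots 3 (1 : F)).toFinset.card := Finset.card_union_le _ _
      _ ≤ ({0, 1} : Finset F).card + (Polynomial.nthRoots 7 (1 : F)).toFinset.card + 3 :=
          add_le_add (Finset.card_union_le _ _) h3
      _ ≤ 2 + 7 + 3 := by gcongr; exact Finset.card_le_two
      _ < _ := by omega
  obtain ⟨x, -, hx⟩ := Finset.exists_mem_notMem_of_card_lt_card hs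
  simp only [s, Finset.mem_union, Finset.mem_insert, Finset.mem_singleton, Multiset.mem_toFinset,
    Polynomial.mem_nthRoots (show 0 < 7 by norm_num), Polynomial.mem_nthRoots (show 0 < 3 by norm_num),
    not_or] at hx
  exact ⟨x, hx.1.1.1, hx.1.1.2, hx.1.2, hx.2⟩

theorem inv_not_additive : ∃ x : F, x ≠ 0 ∧ x ≠ 1 ∧ (1 + x)⁻¹ ≠ 1⁻¹ + x⁻¹ := by
  obtain ⟨x, hx0, hx1, -, hx3⟩ := exists_generic hm hF
  have h2 := (good_of_card (m := m) hF).two
  refine ⟨x, hx0, hx1, fun e => hx3 ?_⟩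
  have hx2 : 1 + x ≠ 0 := fun e => hx1 (by linear_combination e - h2)
  rw [inv_one] at e
  field_simp at e
  grind

theorem twist_not_additive : ∃ x : F, x ≠ 0 ∧ x ≠ 1 ∧
    (1 + x) / (1 + x) ^ (2 ^ (m + 1)) ≠ 1 / 1 ^ (2 ^ (m + 1)) + x / x ^ (2 ^ (m + 1)) := by
  obtain ⟨x, hx0, hx1, hx7, -⟩ := exists_generic hm hF
  have hG := good_of_card (m := m) hF
  have h2 := hG.two
  refine ⟨x, hx0, hx1, fun e => hx7 ?_⟩
  have hx2 : 1 + x ≠ 0 := fun e => hx1 (by linear_combination e - h2)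
  rw [hG.add, one_pow, one_div_one] at e
  set s := x ^ (2 ^ (m + 1)) with hs
  have hs0 : s ≠ 0 := pow_ne_zero _ hx0
  have hs2 : 1 + s ≠ 0 := by
    intro h
    exact hx1 (sigma_inj hG (y := (1 : F)) (by rw [one_pow, ← hs]; linear_combination h - h2))
  have e1 : s ^ 2 = x := by
    field_simp at e
    grind
  have e2 : x ^ 4 = s := by
    have h : (s ^ 2) ^ (2 ^ (m + 1)) = s := by rw [e1]
    rw [← pow_mul, mul_comm 2, pow_mul, hs, hG.sq] at h
    rw [hs, ← h]; ring
  have e3 : x ^ 7 * x = 1 * x := by rw [one_mul, ← pow_succ, show x ^ (7 + 1) = (x ^ 4) ^ 2 by ring, e2, e1]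
  exact mul_right_cancel₀ hx0 e3

omit hm in
/-- The centre of `U`, as a subgroup of the whole group. -/
def ZUsub : Subgroup (Cfsg.Sz F m) where
  carrier := {x | ∃ b, x = T (good_of_card (m := m) hF) 0 b}
  one_mem' := ⟨0, (T_zero _).symm⟩
  mul_mem' := by
    rintro _ _ ⟨a, rfl⟩ ⟨b, rfl⟩
    exact ⟨a + b, by rw [T_mul]; simp [sigma_ne_zero]⟩
  inv_mem' := by
    rintro _ ⟨a, rfl⟩
    exact ⟨a, by rw [T_inv]; simp⟩

section Two

variable {Γ : Type v} [Group Γ] [Finite Γ] {σ : Γ →* Cfsg.Sz F m} (hσ : Function.Surjective σ)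
  (hc : σ.ker ≤ Subgroup.center Γ) (hk : Nat.card σ.ker = 2)

include hσ hc hk

/-- No central extension by a group of order two has its kernel inside the derived group. -/
theorem two_case {z : Γ} (hz : z ∈ σ.ker) (hz1 : z ≠ 1) (hzc : z ∈ commutator Γ) : False := by
  classical
  have : Fact (Nat.Prime 2) := ⟨Nat.prime_two⟩
  have hm1 : 1 ≤ m := by omega
  set hG := good_of_card (m := m) hF
  have h2 := hG.two
  set τ := Function.surjInv hσ with hτdef
  have hτ : ∀ g, σ (τ g) = g := Function.surjInv_eq hσ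
  have hcen : ∀ w, σ w = 1 → ∀ g : Γ, g * w = w * g := fun w hw g =>
    Subgroup.mem_center_iff.mp (hc hw) g
  have hzsq : z * z = 1 := by
    have := pow_card_eq_one' (x := (⟨z, hz⟩ : σ.ker))
    rw [hk] at this
    rw [← pow_two]; exact congrArg Subtype.val this
  have hkercases : ∀ w, σ w = 1 → w = 1 ∨ w = z := by
    intro w hw
    by_contra h
    push Not at h
    have h3 : ({1, z, w} : Set Γ) ⊆ (σ.ker : Set Γ) := by
      rintro a (rfl | rfl | rfl)
      · exact σ.ker.one_mem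
      · exact hz
      · exact hw
    have h4 := Set.ncard_le_ncard h3 (Set.toFinite _)
    rw [Set.ncard_eq_three.mpr ⟨1, z, w, Ne.symm hz1, Ne.symm h.1, Ne.symm h.2, rfl⟩,
      ← Nat.card_coe_set_eq] at h4
    simp only [SetLike.coe_sort_coe, hk] at h4
    omega
  -- lifts and commutators
  let br : Γ → Γ → Γ := fun a b => a * b * a⁻¹ * b⁻¹
  have hbr : ∀ a b, σ (br a b) = σ a * σ b * (σ a)⁻¹ * (σ b)⁻¹ := fun a b => by simp [br]
  have hbr_l : ∀ a a' b, (∀ g, g * br a' b = br a' b * g) → br (a * a') b = br a b * br a' b := by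
    intro a a' b h
    calc br (a * a') b = a * br a' b * (b * a⁻¹ * b⁻¹) := by simp [br, mul_assoc]
      _ = br a' b * br a b := by rw [h a]; simp [br, mul_assoc]
      _ = br a b * br a' b := (h _).symm
  have hbr_r : ∀ a b b', (∀ g, g * br a b' = br a b' * g) → br a (b * b') = br a b * br a b' := by
    intro a b b' h
    calc br a (b * b') = a * b * a⁻¹ * (br a b' * b⁻¹) := by simp [br, mul_assoc]
      _ = a * b * a⁻¹ * (b⁻¹ * br a b') := by rw [h b⁻¹]
      _ = _ := by simp [br, mul_assoc]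
  have hbr_conj : ∀ k a b, br (k * a * k⁻¹) (k * b * k⁻¹) = k * br a b * k⁻¹ := fun k a b => by
    simp [br, mul_assoc]
  have hbr_c : ∀ a b w, (∀ g, g * w = w * g) → br a (b * w) = br a b ∧ br (a * w) b = br a b := by
    intro a b w h
    have h' : ∀ g, g * w⁻¹ = w⁻¹ * g := fun g => (Commute.inv_right (h g)).eq
    constructor
    · calc br a (b * w) = a * b * (w * a⁻¹) * w⁻¹ * b⁻¹ := by simp [br, mul_assoc]
        _ = br a b := by rw [← h a⁻¹]; simp [br, mul_assoc]
    · calc br (a * w) b = a * (w * b) * w⁻¹ * a⁻¹ * b⁻¹ := by simp [br, mul_assoc]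
        _ = br a b := by rw [← h b]; simp [br, mul_assoc]
  set Zh := (Subgroup.comap σ (ZUsub hF)) with hZh
  have hZh' : ∀ w, w ∈ Zh ↔ ∃ b, σ w = T hG 0 b := fun w => Iff.rfl
  set u : F → Γ := fun b => τ (T hG 0 b) with hu
  set t : F → Γ := fun a => τ (T hG a 0) with ht
  have hT00 : ∀ b b' : F, T hG 0 b * T hG 0 b' = T hG 0 (b + b') := fun b b' => by
    rw [T_mul]; simp [sigma_ne_zero]
  have huadd : ∀ b b', ∃ w, σ w = 1 ∧ u (b + b') = u b * u b' * w := fun b b' =>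
    ⟨(u b * u b')⁻¹ * u (b + b'), by
      rw [map_mul, map_inv, map_mul, hu]; simp only [hτ]; rw [hT00, inv_mul_cancel],
      (mul_inv_cancel_left _ _).symm⟩
  have hconj : ∀ (c : Fˣ) (a b : F), σ (τ (H hG c) * τ (T hG a b) * (τ (H hG c))⁻¹) =
      T hG (lam m (c : F) * a) ((c : F) ^ (2 ^ (m + 1)) * b) := fun c a b => by
    simp [hτ, H_T_comm]
  have hscale : ∀ b : F, b ≠ 0 → ∃ c : Fˣ, (c : F) ^ (2 ^ (m + 1)) = b := fun b hb => by
    obtain ⟨s, hs⟩ := (sAut hG).surjective b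
    rw [sAut_apply] at hs
    exact ⟨Units.mk0 s (fun e => hb (by rw [← hs, e, zero_pow sigma_ne_zero])), hs⟩
  obtain ⟨xi, hxi0, hxi1, hxi⟩ := inv_not_additive hm hF
  -- the pairing on the centre
  have hZcom : ∀ b b', br (u b) (u b') = 1 := by
    have hker : ∀ b b', σ (br (u b) (u b')) = 1 := fun b b' => by
      rw [hbr, hu]; simp only [hτ]
      rw [((commute_T_iff hG).mpr (by simp [sigma_ne_zero]) : Commute (T hG 0 b) (T hG 0 b')).eq]
      simp
    refine pairing_trivial hF (fun b b' => br (u b) (u b')) (fun a a' b => ?_) (fun a b b' => ?_)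
      (fun b => b⁻¹) (fun a b hb => ?_) hxi0 hxi1 hxi
    · obtain ⟨w, hw, e⟩ := huadd a a'
      show br (u (a + a')) (u b) = br (u a) (u b) * br (u a') (u b)
      rw [e, (hbr_c _ _ w (hcen w hw)).2, hbr_l _ _ _ (hcen _ (hker a' b))]
    · obtain ⟨w, hw, e⟩ := huadd b b'
      show br (u a) (u (b + b')) = br (u a) (u b) * br (u a) (u b')
      rw [e, (hbr_c _ _ w (hcen w hw)).1, hbr_r _ _ _ (hcen _ (hker a b'))]
    · obtain ⟨c, hc'⟩ := hscale b hb
      set k := τ (H hG c)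
      have hcv : ∀ e, ∃ w, σ w = 1 ∧ k * u e * k⁻¹ = u (b * e) * w := fun e =>
        ⟨(u (b * e))⁻¹ * (k * u e * k⁻¹), by
          rw [map_mul, map_inv, hu, hconj, hτ]; simp [hc'], by simp⟩
      obtain ⟨w1, hw1, e1⟩ := hcv (a * b⁻¹)
      obtain ⟨w2, hw2, e2⟩ := hcv 1
      show br (u a) (u b) = br (u (a * b⁻¹)) (u 1)
      have h := hbr_conj k (u (a * b⁻¹)) (u 1)
      rw [e1, e2, (hbr_c _ _ w2 (hcen w2 hw2)).1, (hbr_c _ _ w1 (hcen w1 hw1)).2,
        hcen _ (hker _ _) k, mul_inv_cancel_right, mul_one, mul_comm b, inv_mul_cancel_right₀ hb] at h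
      exact h
  have hZform : ∀ w ∈ Zh, ∃ b w0, σ w0 = 1 ∧ w = u b * w0 := fun w hw => by
    obtain ⟨b, hb⟩ := (hZh' w).mp hw
    exact ⟨b, (u b)⁻¹ * w, by simp [hu, hτ, hb], by simp⟩
  have hbr1 : ∀ a b, br a b = 1 ↔ a * b = b * a := fun a b => by
    show a * b * a⁻¹ * b⁻¹ = 1 ↔ _
    rw [mul_inv_eq_one, mul_inv_eq_iff_eq_mul]
  have hZabel : ∀ v ∈ Zh, ∀ w ∈ Zh, v * w = w * v := by
    intro v hv w hw
    obtain ⟨b, v0, hv0, rfl⟩ := hZform v hv
    obtain ⟨b', w0, hw0, rfl⟩ := hZform w hw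
    rw [← hbr1, (hbr_c _ _ w0 (hcen w0 hw0)).1, (hbr_c _ _ v0 (hcen v0 hv0)).2, hZcom]
  set Pre := Subgroup.comap σ (U hG) with hPre
  have hPform : ∀ v ∈ Pre, ∃ a w, w ∈ Zh ∧ v = t a * w := fun v hv => by
    obtain ⟨a, b, hab⟩ := (hv : σ v ∈ U hG)
    refine ⟨a, (t a)⁻¹ * v, (hZh' _).mpr ⟨b, ?_⟩, by simp⟩
    rw [map_mul, map_inv, ht, hτ, hab, inv_mul_eq_iff_eq_mul, T_mul]
    simp
  have htadd : ∀ a a', ∃ w, w ∈ Zh ∧ t (a + a') = t a * t a' * w := fun a a' =>
    ⟨(t a * t a')⁻¹ * t (a + a'), (hZh' _).mpr ⟨a ^ (2 ^ (m + 1)) * a', by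
      simp only [map_mul, map_inv, ht, hτ]
      rw [inv_mul_eq_iff_eq_mul, T_mul, T_mul]
      congr 1
      · simp
      · simp [sigma_ne_zero]; linear_combination -(a ^ (2 ^ (m + 1)) * a') * h2⟩, (mul_inv_cancel_left _ _).symm⟩
  -- the pairing between the frame and the centre
  obtain ⟨xt, hxt0, hxt1, hxt⟩ := twist_not_additive hm hF
  have hkerM : ∀ v ∈ Pre, ∀ w ∈ Zh, σ (br v w) = 1 := by
    intro v hv w hw
    obtain ⟨p, q, hpq⟩ := (hv : σ v ∈ U hG)
    obtain ⟨b, hb⟩ := (hZh' w).mp hw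
    rw [hbr, hb, hpq,
      ((commute_T_iff hG).mpr (by simp [sigma_ne_zero]) : Commute (T hG p q) (T hG 0 b)).eq]
    simp
  have huZ : ∀ b, u b ∈ Zh := fun b => (hZh' _).mpr ⟨b, hτ _⟩
  have htP : ∀ a, t a ∈ Pre := fun a => by
    show σ (t a) ∈ U hG; rw [ht, hτ]; exact T_mem hG a 0
  have hMix : ∀ a b, br (t a) (u b) = 1 := by
    refine pairing_trivial hF (fun a b => br (t a) (u b)) (fun a a' b => ?_) (fun a b b' => ?_)
      (fun b => b / b ^ (2 ^ (m + 1))) (fun a b hb => ?_) hxt0 hxt1 hxt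
    · obtain ⟨w, hw, e⟩ := htadd a a'
      show br (t (a + a')) (u b) = br (t a) (u b) * br (t a') (u b)
      have hwb : br w (u b) = 1 := (hbr1 _ _).mpr (hZabel w hw _ (huZ b))
      rw [e, hbr_l _ _ _ (fun g => by rw [hwb, one_mul, mul_one]), hwb, mul_one,
        hbr_l _ _ _ (hcen _ (hkerM _ (htP a') _ (huZ b)))]
    · obtain ⟨w, hw, e⟩ := huadd b b'
      show br (t a) (u (b + b')) = br (t a) (u b) * br (t a) (u b')
      rw [e, (hbr_c _ _ w (hcen w hw)).1, hbr_r _ _ _ (hcen _ (hkerM _ (htP a) _ (huZ b')))]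
    · obtain ⟨c, hc'⟩ := hscale b hb
      set k := τ (H hG c)
      have hlam : lam m (c : F) = b ^ (2 ^ (m + 1)) / b := by rw [lam, ← hc', hG.sq]
      have hb' : b ^ (2 ^ (m + 1)) ≠ 0 := pow_ne_zero _ hb
      set a' := a * (b / b ^ (2 ^ (m + 1))) with ha'
      have hla : lam m (c : F) * a' = a := by rw [hlam, ha']; field_simp
      obtain ⟨w1, hw1, e1⟩ : ∃ w, w ∈ Zh ∧ k * t a' * k⁻¹ = t a * w :=
        ⟨(t a)⁻¹ * (k * t a' * k⁻¹), (hZh' _).mpr ⟨0, by
          rw [map_mul, map_inv, ht, hconj, hτ, hla, mul_zero, inv_mul_cancel, T_zero]⟩, by simp⟩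
      obtain ⟨w2, hw2, e2⟩ : ∃ w, σ w = 1 ∧ k * u 1 * k⁻¹ = u b * w :=
        ⟨(u b)⁻¹ * (k * u 1 * k⁻¹), by rw [map_mul, map_inv, hu, hconj, hτ, mul_zero, mul_one, hc', inv_mul_cancel],
          by simp⟩
      show br (t a) (u b) = br (t a') (u 1)
      have h := hbr_conj k (t a') (u 1)
      have hwb : br w1 (u b) = 1 := (hbr1 _ _).mpr (hZabel w1 hw1 _ (huZ b))
      rw [e1, e2, (hbr_c _ _ w2 (hcen w2 hw2)).1, hbr_l _ _ _ (fun g => by rw [hwb, one_mul, mul_one]),
        hwb, mul_one, hcen _ (hkerM _ (htP a') _ (huZ 1)) k, mul_inv_cancel_right] at h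
      exact h
  have hPZ : ∀ v ∈ Pre, ∀ w ∈ Zh, v * w = w * v := by
    intro v hv w hw
    obtain ⟨a, v0, hv0, rfl⟩ := hPform v hv
    obtain ⟨b, w0, hw0, rfl⟩ := hZform w hw
    have h1 := (hbr1 (t a) (u b)).mp (hMix a b)
    have h2' : t a * (u b * w0) = u b * w0 * t a := by
      rw [← mul_assoc, h1, mul_assoc, mul_assoc, hcen w0 hw0 (t a)]
    rw [mul_assoc, hZabel v0 hv0 _ hw, ← mul_assoc, h2', mul_assoc]
  -- exponent two
  have hZsq : ∀ w ∈ Zh, w * w = 1 := by
    have h0 : ∀ b, u b * u b = 1 := by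
      refine invariant_trivial hF (fun b => u b * u b) (fun a b => ?_) (fun a b ha hb => ?_) hxi0 hxi1
      · obtain ⟨w, hw, e⟩ := huadd a b
        have hww : w * w = 1 := by rcases hkercases w hw with rfl | rfl <;> simp [hzsq]
        calc u (a + b) * u (a + b) = u a * (u b * (w * u a)) * (u b * w) := by rw [e]; simp [mul_assoc]
          _ = u a * (u b * u a) * (w * u b * w) := by rw [← hcen w hw]; simp [mul_assoc]
          _ = u a * (u a * u b) * (u b * (w * w)) := by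
            rw [hZabel _ (huZ b) _ (huZ a), ← hcen w hw (u b)]; simp [mul_assoc]
          _ = u a * u a * (u b * u b) := by rw [hww]; simp [mul_assoc]
      · obtain ⟨c, hc'⟩ := hscale (b / a) (div_ne_zero hb ha)
        set k := τ (H hG c)
        obtain ⟨w, hw, e⟩ : ∃ w, σ w = 1 ∧ k * u a * k⁻¹ = u b * w :=
          ⟨(u b)⁻¹ * (k * u a * k⁻¹), by
            rw [map_mul, map_inv, hu, hconj, hτ, mul_zero, hc', div_mul_cancel₀ _ ha, inv_mul_cancel], by simp⟩
        have hww : w * w = 1 := by rcases hkercases w hw with rfl | rfl <;> simp [hzsq]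
        have hsq : σ (u a * u a) = 1 := by
          rw [map_mul, hu, hτ, hT00, show a + a = 0 by linear_combination a * h2, T_zero]
        show u a * u a = u b * u b
        calc u a * u a = k * (u a * u a) * k⁻¹ := by rw [hcen _ hsq k, mul_inv_cancel_right]
          _ = (k * u a * k⁻¹) * (k * u a * k⁻¹) := by simp [mul_assoc]
          _ = u b * (w * u b) * w := by rw [e]; simp [mul_assoc]
          _ = u b * u b := by rw [← hcen w hw (u b), mul_assoc (u b), mul_assoc, hww, mul_one]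
    intro w hw
    obtain ⟨b, w0, hw0, rfl⟩ := hZform w hw
    have hww : w0 * w0 = 1 := by rcases hkercases w0 hw0 with rfl | rfl <;> simp [hzsq]
    rw [mul_assoc (u b), ← mul_assoc w0, ← hcen w0 hw0 (u b), mul_assoc (u b) w0, hww, mul_one, h0]
  -- an invariant complement of the kernel in the centre
  set c1 : Fˣ := Units.mk0 xi hxi0
  set k1 := τ (H hG c1)
  have hnorm : ∀ (c : Fˣ), ∀ w ∈ Zh, τ (H hG c) * w * (τ (H hG c))⁻¹ ∈ Zh := fun c w hw => by
    obtain ⟨b, hb⟩ := (hZh' w).mp hw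
    exact (hZh' _).mpr ⟨(c : F) ^ (2 ^ (m + 1)) * b, by simp [hτ, hb, H_T_comm]⟩
  let D : Zh →* Zh :=
    { toFun := fun w => ⟨k1 * (w : Γ) * k1⁻¹ * (w : Γ)⁻¹, Zh.mul_mem (hnorm c1 w w.2) (Zh.inv_mem w.2)⟩
      map_one' := Subtype.ext (by simp)
      map_mul' := fun v w => Subtype.ext (by
        show k1 * ((v : Γ) * w) * k1⁻¹ * ((v : Γ) * w)⁻¹ =
          k1 * (v : Γ) * k1⁻¹ * (v : Γ)⁻¹ * (k1 * (w : Γ) * k1⁻¹ * (w : Γ)⁻¹)
        rw [hZabel v v.2 w w.2]
        have := hZabel ((v : Γ)⁻¹) (Zh.inv_mem v.2) (k1 * (w : Γ) * k1⁻¹ * (w : Γ)⁻¹)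
          (Zh.mul_mem (hnorm c1 w w.2) (Zh.inv_mem w.2))
        rw [mul_assoc (k1 * (v : Γ) * k1⁻¹), this, ← hZabel v v.2 w w.2]
        simp [mul_assoc]) }
  set W := D.range.map Zh.subtype with hW
  have hW' : ∀ w, w ∈ W ↔ ∃ v ∈ Zh, k1 * v * k1⁻¹ * v⁻¹ = w := by
    intro w
    constructor
    · rintro ⟨_, ⟨v, rfl⟩, rfl⟩; exact ⟨v, v.2, rfl⟩
    · rintro ⟨v, hv, rfl⟩; exact ⟨D ⟨v, hv⟩, ⟨_, rfl⟩, rfl⟩
  have hWZ : W ≤ Zh := by rintro _ ⟨v, -, rfl⟩; exact v.2
  have hxis : xi ^ (2 ^ (m + 1)) ≠ 1 := fun e => hxi1 (sigma_inj hG (by rw [e, one_pow]))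
  have hDker : ∀ v ∈ Zh, σ (k1 * v * k1⁻¹ * v⁻¹) = 1 → σ v = 1 := by
    intro v hv h
    obtain ⟨b, hb⟩ := (hZh' v).mp hv
    rw [map_mul, map_mul, map_mul, map_inv, map_inv, hb, hτ, H_T_comm, mul_zero, mul_inv_eq_one] at h
    have hb0 : b = 0 := by
      by_contra hb0
      exact hxis ((mul_eq_right₀ hb0).mp (T_inj hG h).2)
    rw [hb, hb0, T_zero]
  have hzW : z ∉ W := by
    intro h
    obtain ⟨v, hv, e⟩ := (hW' z).mp h
    have h1 := hDker v hv (e ▸ (hz : σ z = 1))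
    rw [hcen v h1 k1, mul_inv_cancel_right, mul_inv_cancel] at e
    exact hz1 e.symm
  have hWinv : ∀ (c : Fˣ), ∀ w ∈ W, τ (H hG c) * w * (τ (H hG c))⁻¹ ∈ W := by
    intro c w hw
    obtain ⟨v, hv, rfl⟩ := (hW' w).mp hw
    set k := τ (H hG c)
    have hcomm : σ ((k1 * k)⁻¹ * (k * k1)) = 1 := by
      simp only [k, k1, map_mul, map_inv, hτ]
      rw [inv_mul_eq_one, ← map_mul, ← map_mul, mul_comm]
    have e : k * k1 = k1 * k * ((k1 * k)⁻¹ * (k * k1)) := (mul_inv_cancel_left _ _).symm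
    refine (hW' _).mpr ⟨k * v * k⁻¹, hnorm c v hv, ?_⟩
    have h1 : k * k1 * v * (k * k1)⁻¹ = k1 * k * v * (k1 * k)⁻¹ := by
      rw [e, mul_assoc (k1 * k) _ v, ← hcen _ hcomm v]
      simp [mul_assoc]
    calc k1 * (k * v * k⁻¹) * k1⁻¹ * (k * v * k⁻¹)⁻¹ = k1 * k * v * (k1 * k)⁻¹ * (k * v * k⁻¹)⁻¹ := by
          simp [mul_assoc]
      _ = k * k1 * v * (k * k1)⁻¹ * (k * v * k⁻¹)⁻¹ := by rw [h1]
      _ = k * (k1 * v * k1⁻¹ * v⁻¹) * k⁻¹ := by simp [mul_assoc]
  have hWn : (W.subgroupOf Pre).Normal := ⟨fun w hw g => by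
    rw [Subgroup.mem_subgroupOf] at hw ⊢
    push_cast
    rw [hPZ g g.2 w (hWZ hw), mul_inv_cancel_right]
    exact hw⟩
  set π : Pre →* Pre ⧸ W.subgroupOf Pre := QuotientGroup.mk' _
  have hπ : ∀ v : Pre, π v = 1 ↔ (v : Γ) ∈ W := fun v => by
    rw [QuotientGroup.mk'_apply, QuotientGroup.eq_one_iff, Subgroup.mem_subgroupOf]
  have hZP : Zh ≤ Pre := fun w hw => by
    obtain ⟨b, hb⟩ := (hZh' w).mp hw
    show σ w ∈ U hG
    rw [hb]; exact T_mem hG 0 b
  -- values in the quotient are invariant under the torus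
  have hπinv : ∀ (c : Fˣ) (w : Pre) (hw : (w : Γ) ∈ Zh)
      (h : τ (H hG c) * (w : Γ) * (τ (H hG c))⁻¹ ∈ Pre), π ⟨_, h⟩ = π w := by
    intro c w hw h
    have hdec : ∃ d ∈ W, (w : Γ) = d ∨ (w : Γ) = d * z := by
      have hDk : ∀ v : Zh, D v = 1 → (v : Γ) = 1 ∨ (v : Γ) = z := fun v hv =>
        hkercases _ (hDker v v.2 (by rw [show k1 * (v : Γ) * k1⁻¹ * (v : Γ)⁻¹ = 1 from
          congrArg Subtype.val hv, map_one]))
      have hcard : Nat.card D.ker ≤ 2 := by
        have hsub : (Subtype.val '' (D.ker : Set Zh)) ⊆ {1, z} := by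
          rintro _ ⟨v, hv, rfl⟩
          rcases hDk v hv with e | e <;> simp [e]
        have := Set.ncard_le_ncard hsub (Set.toFinite _)
        rw [Set.ncard_image_of_injective _ Subtype.val_injective, Set.ncard_pair (Ne.symm hz1),
          ← Nat.card_coe_set_eq] at this
        exact this
      by_contra hcon
      push Not at hcon
      set V : Set Γ := (W : Set Γ) ∪ (fun d => d * z) '' (W : Set Γ)
      have hVc : V.ncard = Nat.card D.range * 2 := by
        have hdisj : Disjoint (W : Set Γ) ((fun d => d * z) '' (W : Set Γ)) := by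
          rw [Set.disjoint_left]
          rintro a ha ⟨d, hd, e⟩
          refine hzW ?_
          rw [show z = d⁻¹ * a by rw [← e]; simp]
          exact W.mul_mem (W.inv_mem hd) ha
        rw [Set.ncard_union_eq hdisj,
          Set.ncard_image_of_injective _ (mul_left_injective z), ← Nat.card_coe_set_eq]
        simp only [SetLike.coe_sort_coe, hW]
        rw [Subgroup.card_map_of_injective Zh.subtype_injective]
        ring
      have hVsub : V ⊆ (Zh : Set Γ) := by
        rintro a (ha | ⟨d, hd, rfl⟩)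
        · exact hWZ ha
        · exact Zh.mul_mem (hWZ hd) ((hZh' z).mpr ⟨0, by rw [T_zero]; exact hz⟩)
      have h5 : V.ncard < (Zh : Set Γ).ncard := Set.ncard_lt_ncard
        ⟨hVsub, fun hsub => by
          rcases hsub hw with ha | ⟨d, hd, e⟩
          · exact (hcon _ ha).1 rfl
          · exact (hcon d hd).2 e.symm⟩ (Set.toFinite _)
      rw [hVc, ← Nat.card_coe_set_eq] at h5
      simp only [SetLike.coe_sort_coe] at h5
      have h6 := Subgroup.card_eq_card_quotient_mul_card_subgroup D.ker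
      rw [Nat.card_congr (QuotientGroup.quotientKerEquivRange D).toEquiv] at h6
      have : Nat.card D.range * Nat.card D.ker ≤ Nat.card D.range * 2 := Nat.mul_le_mul_left _ hcard
      omega
    obtain ⟨d, hd, e⟩ := hdec
    rw [← inv_mul_eq_one, ← map_inv, ← map_mul, hπ]
    show (τ (H hG c) * (w : Γ) * (τ (H hG c))⁻¹)⁻¹ * (w : Γ) ∈ W
    rcases e with e | e
    · rw [e]; exact W.mul_mem (W.inv_mem (hWinv c d hd)) hd
    · rw [e, show τ (H hG c) * (d * z) * (τ (H hG c))⁻¹ = τ (H hG c) * d * (τ (H hG c))⁻¹ * z by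
        rw [mul_assoc, mul_assoc d, ← hcen z hz (τ (H hG c))⁻¹]; simp [mul_assoc],
        _root_.mul_inv_rev, mul_assoc, ← mul_assoc _ d z, hcen z hz, inv_mul_cancel_left]
      exact W.mul_mem (W.inv_mem (hWinv c d hd)) hd
  let tP : F → Pre := fun a => ⟨t a, htP a⟩
  have hbrZ : ∀ a a', br (t a) (t a') ∈ Zh := fun a a' => (hZh' _).mpr
    ⟨a ^ (2 ^ (m + 1)) * a' + a' ^ (2 ^ (m + 1)) * a, by
      simp only [hbr, ht, hτ]
      rw [mul_inv_eq_iff_eq_mul, mul_inv_eq_iff_eq_mul, T_mul, T_mul, T_mul]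
      congr 1
      · simp [add_comm]
      · simp [sigma_ne_zero]; linear_combination -(a' ^ (2 ^ (m + 1)) * a) * h2⟩
  let C : F → F → Pre ⧸ W.subgroupOf Pre := fun a a' => π ⟨br (t a) (t a'), hZP (hbrZ a a')⟩
  have hbrw : ∀ {a b w}, a ∈ Pre → b ∈ Pre → w ∈ Zh → br a b ∈ Zh →
      br (a * w) b = br a b ∧ br a (b * w) = br a b := by
    intro a b w ha hb hw hab
    have hwb : br w b = 1 := (hbr1 _ _).mpr (hPZ b hb w hw).symm
    have haw : br a w = 1 := (hbr1 _ _).mpr (hPZ a ha w hw)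
    constructor
    · rw [hbr_l _ _ _ (fun g => by rw [hwb, one_mul, mul_one]), hwb, mul_one]
    · rw [hbr_r _ _ _ (fun g => by rw [haw, one_mul, mul_one]), haw, mul_one]
  have hC : ∀ a a', C a a' = 1 := by
    refine pairing_trivial hF C (fun a a' b => ?_) (fun a b b' => ?_) (fun b => b⁻¹)
      (fun a b hb => ?_) hxi0 hxi1 hxi
    · obtain ⟨w, hw, e⟩ := htadd a a'
      show π _ = π _ * π _
      rw [← map_mul]
      congr 1
      apply Subtype.ext
      show br (t (a + a')) (t b) = br (t a) (t b) * br (t a') (t b)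
      have h1 : br (t a * t a') (t b) = br (t a) (t b) * br (t a') (t b) := by
        calc br (t a * t a') (t b) = t a * br (t a') (t b) * (t b * (t a)⁻¹ * (t b)⁻¹) := by
              simp [br, mul_assoc]
          _ = br (t a') (t b) * br (t a) (t b) := by
              rw [hPZ _ (htP a) _ (hbrZ a' b)]; simp [br, mul_assoc]
          _ = _ := hZabel _ (hbrZ a' b) _ (hbrZ a b)
      rw [e, (hbrw (Pre.mul_mem (htP a) (htP a')) (htP b) hw (h1 ▸ Zh.mul_mem (hbrZ a b) (hbrZ a' b))).1, h1]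
    · obtain ⟨w, hw, e⟩ := htadd b b'
      show π _ = π _ * π _
      rw [← map_mul]
      congr 1
      apply Subtype.ext
      show br (t a) (t (b + b')) = br (t a) (t b) * br (t a) (t b')
      have h1 : br (t a) (t b * t b') = br (t a) (t b) * br (t a) (t b') := by
        calc br (t a) (t b * t b') = t a * t b * (t a)⁻¹ * (br (t a) (t b') * (t b)⁻¹) := by
              simp [br, mul_assoc]
          _ = t a * t b * (t a)⁻¹ * ((t b)⁻¹ * br (t a) (t b')) := by
              rw [hPZ _ (Pre.inv_mem (htP b)) _ (hbrZ a b')]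
          _ = _ := by simp [br, mul_assoc]
      rw [e, (hbrw (htP a) (Pre.mul_mem (htP b) (htP b')) hw (h1 ▸ Zh.mul_mem (hbrZ a b) (hbrZ a b'))).2, h1]
    · obtain ⟨c, hc'⟩ := lam_surj (m := m) hG hb
      set k := τ (H hG c)
      have hcv : ∀ e, ∃ w, w ∈ Zh ∧ k * t e * k⁻¹ = t (b * e) * w := fun e =>
        ⟨(t (b * e))⁻¹ * (k * t e * k⁻¹), (hZh' _).mpr ⟨0, by
          rw [map_mul, map_inv, ht, hconj, hτ, hc', mul_zero, inv_mul_cancel, T_zero]⟩, by simp⟩
      obtain ⟨w1, hw1, e1⟩ := hcv (a * b⁻¹)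
      obtain ⟨w2, hw2, e2⟩ := hcv 1
      have h := hbr_conj k (t (a * b⁻¹)) (t 1)
      rw [e1, e2, mul_one, mul_comm b, inv_mul_cancel_right₀ hb] at h
      have h3 : br (t a * w1) (t b * w2) = br (t a) (t b) := by
        have h' := (hbrw (htP a) (htP b) hw2 (hbrZ a b)).2
        rw [(hbrw (htP a) (Pre.mul_mem (htP b) (hZP hw2)) hw1 (h' ▸ hbrZ a b)).1, h']
      rw [h3] at h
      show π _ = π _
      rw [← hπinv c ⟨br (t (a * b⁻¹)) (t 1), hZP (hbrZ _ _)⟩ (hbrZ _ _) (hZP (hnorm c _ (hbrZ _ _)))]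
      congr 1
      exact Subtype.ext h
  have hsqZ : ∀ a, t a * t a ∈ Zh := fun a => (hZh' _).mpr ⟨a ^ (2 ^ (m + 1)) * a, by
    rw [map_mul, ht, hτ, T_sq]⟩
  let s : F → Pre ⧸ W.subgroupOf Pre := fun a => π ⟨t a * t a, hZP (hsqZ a)⟩
  have hs : ∀ a, s a = 1 := by
    refine invariant_trivial hF s (fun a b => ?_) (fun a b ha hb => ?_) hxi0 hxi1
    · obtain ⟨w, hw, e⟩ := htadd a b
      have hC' : br (t b) (t a) ∈ W := (hπ _).mp (hC b a)
      show π _ = π _ * π _
      rw [← map_mul, ← inv_mul_eq_one, ← map_inv, ← map_mul, hπ]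
      show (t (a + b) * t (a + b))⁻¹ * (t a * t a * (t b * t b)) ∈ W
      have e1 : t (a + b) * t (a + b) = t a * t a * (t b * t b) * br (t b) (t a) := by
        calc t (a + b) * t (a + b) = t a * (t b * (w * t a)) * (t b * w) := by rw [e]; simp [mul_assoc]
          _ = t a * (t b * t a) * (w * t b * w) := by rw [← hPZ _ (htP a) w hw]; simp [mul_assoc]
          _ = t a * (t b * t a) * (t b * (w * w)) := by rw [← hPZ _ (htP b) w hw]; simp [mul_assoc]
          _ = t a * (br (t b) (t a) * (t a * t b)) * t b := by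
            rw [hZsq w hw, mul_one]; simp [br, mul_assoc]
          _ = t a * (t a * t b * br (t b) (t a)) * t b := by
            rw [← hPZ _ (Pre.mul_mem (htP a) (htP b)) _ (hbrZ b a)]
          _ = t a * (t a * t b) * (br (t b) (t a) * t b) := by simp [mul_assoc]
          _ = _ := by rw [← hPZ _ (htP b) _ (hbrZ b a)]; simp [mul_assoc]
      rw [e1]
      have := W.inv_mem hC'
      simpa [mul_assoc] using this
    · obtain ⟨c, hc'⟩ := lam_surj (m := m) hG (div_ne_zero hb ha)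
      set k := τ (H hG c)
      obtain ⟨w, hw, e⟩ : ∃ w, w ∈ Zh ∧ k * t a * k⁻¹ = t b * w :=
        ⟨(t b)⁻¹ * (k * t a * k⁻¹), (hZh' _).mpr ⟨0, by
          rw [map_mul, map_inv, ht, hconj, hτ, hc', div_mul_cancel₀ _ ha, mul_zero, inv_mul_cancel, T_zero]⟩,
          by simp⟩
      show π _ = π _
      rw [← hπinv c ⟨t a * t a, hZP (hsqZ a)⟩ (hsqZ a) (hZP (hnorm c _ (hsqZ a)))]
      congr 1
      apply Subtype.ext
      show k * (t a * t a) * k⁻¹ = t b * t b
      calc k * (t a * t a) * k⁻¹ = (k * t a * k⁻¹) * (k * t a * k⁻¹) := by simp [mul_assoc]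
        _ = t b * (w * t b) * w := by rw [e]; simp [mul_assoc]
        _ = t b * t b := by rw [← hPZ _ (htP b) w hw, mul_assoc (t b), mul_assoc (t b), hZsq w hw, mul_one]
  have hQsq : ∀ q : Pre ⧸ W.subgroupOf Pre, q * q = 1 := by
    intro q
    obtain ⟨⟨v, hv⟩, rfl⟩ := QuotientGroup.mk'_surjective (W.subgroupOf Pre) q
    obtain ⟨a, w, hw, rfl⟩ := hPform v hv
    have e : t a * w * (t a * w) = t a * t a := by
      rw [mul_assoc (t a), ← mul_assoc w, ← hPZ _ (htP a) w hw, mul_assoc (t a) w, hZsq w hw, mul_one]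
    refine Eq.trans ?_ (hs a)
    rw [← map_mul]
    exact congrArg π (Subtype.ext e)
  letI : CommGroup (Pre ⧸ W.subgroupOf Pre) :=
    { (inferInstance : Group (Pre ⧸ W.subgroupOf Pre)) with
      mul_comm := fun a b => by
        have hinv : ∀ q : Pre ⧸ W.subgroupOf Pre, q⁻¹ = q := fun q => inv_eq_of_mul_eq_one_right (hQsq q)
        calc a * b = (a * b)⁻¹ := (hinv _).symm
          _ = b * a := by rw [_root_.mul_inv_rev, hinv, hinv] }
  have hzP : z ∈ Pre := by
    show σ z ∈ U hG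
    rw [show σ z = 1 from hz]; exact (U hG).one_mem
  refine transfer_kills (p := 2) Pre ?_ π (hc hz) hzc hzP (fun h => hzW ((hπ ⟨z, hzP⟩).mp h))
    (by rw [pow_two, hzsq])
  rw [hPre, Subgroup.index_comap_of_surjective _ hσ]
  exact not_dvd_index_U hG hm1 hF

end Two

theorem trivial_multiplier {Γ : Type u} [Group Γ] [Finite Γ] (σ : Γ →* Cfsg.Sz F m)
    (hσ : Cfsg.IsStemExtension σ) : σ.ker = ⊥ := by
  by_contra hne
  obtain ⟨Γ', _, _, σ', p, hp, hs, hk⟩ := stem_reduce _ σ rfl hσ hne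
  have := Fact.mk hp
  obtain ⟨⟨z, hz⟩, hzo⟩ := exists_prime_orderOf_dvd_card' (G := σ'.ker) p (hk ▸ dvd_rfl)
  rw [Subgroup.orderOf_mk] at hzo
  have hz1 : z ≠ 1 := fun e => hp.ne_one (by rw [← hzo, e, orderOf_one])
  rcases eq_or_ne p 2 with rfl | hp2
  · exact two_case hm hF hs.1 hs.2.1 hk hz hz1 (hs.2.2 hz)
  · let P : Sylow p (Cfsg.Sz F m) := default
    have := sylow_odd_isCyclic (by omega) hF hp2 P
    set Pre := (P : Subgroup (Cfsg.Sz F m)).comap σ'
    let f : Pre →* (P : Subgroup (Cfsg.Sz F m)) := σ'.subgroupComap _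
    have hker : f.ker ≤ Subgroup.center Pre := fun v hv => Subgroup.mem_center_iff.mpr fun g =>
      Subtype.ext (Subgroup.mem_center_iff.mp (hs.2.1 (congrArg Subtype.val hv : σ' (v : Γ') = 1)) g)
    letI : CommGroup Pre :=
      { (inferInstance : Group Pre) with mul_comm := commutative_of_cyclic_center_quotient f hker }
    refine transfer_kills (p := p) Pre ?_ (MonoidHom.id Pre) (hs.2.1 hz) (hs.2.2 hz)
      (show σ' z ∈ (P : Subgroup (Cfsg.Sz F m)) by rw [show σ' z = 1 from hz]; exact one_mem _)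
      (fun e => hz1 (congrArg Subtype.val e)) (hzo ▸ pow_orderOf_eq_one z)
    rw [Subgroup.index_comap_of_surjective _ hs.1]
    exact P.not_dvd_index

end Cfsg.Agent.Suzuki
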