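import Cfsg.Agent.Suzuki.Basic

/-!
The Sylow 2-subgroup of translations, its normaliser, centre and centralisers.
-/

set_option autoImplicit false

namespace Cfsg.Agent.Suzuki

open Matrix Cfsg.Agent.RankOne.Ovoid MulAction
open scoped Pointwise commutatorElement

universe u

variable {F : Type u} [Field F] [Fintype F] {m : ℕ} (hG : Good F m)

theorem H_conj_T (c : Fˣ) (a b : F) :
    H hG c * T hG a b = T hG (lam m (c : F) * a) ((c : F) ^ (2 ^ (m + 1)) * b) * H hG c := by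
  refine Subtype.ext (Subtype.ext ?_)
  show torMat m (c : F) * translMat m a b = translMat m _ _ * torMat m (c : F)
  have he := hG.sq (c : F)
  have hne : (c : F) ^ (2 ^ (m + 1)) ≠ 0 := pow_ne_zero _ c.ne_zero
  have hp : ((c : F) ^ 2) ^ (2 ^ (m + 1)) = ((c : F) ^ (2 ^ (m + 1))) ^ 2 := by
    rw [← pow_mul, ← pow_mul, mul_comm]
  ext i j
  rw [torMat, Matrix.diagonal_mul, Matrix.mul_diagonal]
  fin_cases i <;> fin_cases j <;>
    simp [torVec, translMat, vPt, lam, mul_pow, div_pow, he, hp, pow_add _ (2 ^ (m + 1)) 2,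
      zero_pow sigma_ne_zero] <;>
    field_simp
  all_goals grind

/-- The translations. -/
def U : Subgroup (Cfsg.Sz F m) where
  carrier := {g | ∃ a b, g = T hG a b}
  one_mem' := ⟨0, 0, (T_zero hG).symm⟩
  mul_mem' := by
    rintro _ _ ⟨a, b, rfl⟩ ⟨c, d, rfl⟩
    exact ⟨_, _, T_mul hG a b c d⟩
  inv_mem' := by
    rintro _ ⟨a, b, rfl⟩
    exact ⟨_, _, T_inv hG a b⟩

theorem T_mem (a b : F) : T hG a b ∈ U hG := ⟨a, b, rfl⟩

theorem card_U : Nat.card (U hG) = Nat.card F ^ 2 := by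
  rw [pow_two, ← Nat.card_prod]
  refine (Nat.card_eq_of_bijective (fun p : F × F => (⟨T hG p.1 p.2, T_mem hG _ _⟩ : U hG))
    ⟨fun p p' h => Prod.ext (T_inj hG (congrArg Subtype.val h)).1
      (T_inj hG (congrArg Subtype.val h)).2, fun g => ?_⟩).symm
  obtain ⟨a, b, h⟩ := g.2
  exact ⟨(a, b), Subtype.ext h.symm⟩

theorem U_le : U hG ≤ stabilizer (Cfsg.Sz F m) (pI : Cfsg.suzukiOvoid F m) := by
  rintro _ ⟨a, b, rfl⟩
  exact T_pI hG a b

theorem conj_mem_U (hm : 1 ≤ m) (hF : Fintype.card F = 2 ^ (2 * m + 1)) {g : Cfsg.Sz F m}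
    (hg : g • (pI : Cfsg.suzukiOvoid F m) = pI) {u : Cfsg.Sz F m} (hu : u ∈ U hG) :
    g * u * g⁻¹ ∈ U hG := by
  obtain ⟨x, y, c, rfl⟩ := eq_T_mul_H hG hm hF hg
  obtain ⟨a, b, rfl⟩ := hu
  have h : T hG x y * H hG c * T hG a b * (T hG x y * H hG c)⁻¹ =
      T hG x y * T hG (lam m (c : F) * a) ((c : F) ^ (2 ^ (m + 1)) * b) * (T hG x y)⁻¹ := by
    rw [mul_assoc (T hG x y), H_conj_T, _root_.mul_inv_rev]
    simp [mul_assoc]
  rw [h]
  exact (U hG).mul_mem ((U hG).mul_mem (T_mem hG _ _) (T_mem hG _ _)) ((U hG).inv_mem (T_mem hG _ _))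

theorem U_regular {p p' : Cfsg.suzukiOvoid F m} (hp : p ≠ pI) (hp' : p' ≠ pI) :
    ∃! x : U hG, (x : Cfsg.Sz F m) • p = p' := by
  obtain ⟨x, y, rfl⟩ := (point_cases p).resolve_left hp
  obtain ⟨x', y', rfl⟩ := (point_cases p').resolve_left hp'
  refine ⟨⟨_, T_mem hG (x' - x) (y' - y - (x' - x) ^ (2 ^ (m + 1)) * x)⟩, ?_, ?_⟩
  · show T hG _ _ • pP x y = pP x' y'
    rw [T_pP]
    congr 1 <;> ring
  · rintro ⟨_, a, b, rfl⟩ h
    have h' : T hG a b • (pP x y : Cfsg.suzukiOvoid F m) = pP x' y' := h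
    rw [T_pP] at h'
    obtain ⟨e1, e2⟩ := pP_inj h'
    obtain rfl : a = x' - x := by linear_combination e1
    obtain rfl : b = y' - y - (x' - x) ^ (2 ^ (m + 1)) * x := by linear_combination e2
    rfl

theorem U_fixes_only {u : Cfsg.Sz F m} (hu : u ∈ U hG) (h1 : u ≠ 1) {p : Cfsg.suzukiOvoid F m}
    (h : u • p = p) : p = pI := by
  by_contra hp
  exact h1 (congrArg Subtype.val ((U_regular hG hp hp).unique (y₁ := ⟨u, hu⟩) (y₂ := 1) h
    (one_smul _ _)))

theorem T_ne_one : T hG (0 : F) 1 ≠ 1 := fun h => by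
  rw [← T_zero hG] at h
  exact one_ne_zero (T_inj hG h).2

theorem fix_of_conj_mem_U {g u : Cfsg.Sz F m} (hu : u ∈ U hG) (h1 : u ≠ 1)
    (h : g * u * g⁻¹ ∈ U hG) : g • (pI : Cfsg.suzukiOvoid F m) = pI := by
  refine U_fixes_only hG h (fun e => h1 ?_) ?_
  · simpa [mul_inv_eq_one, mul_eq_left] using e
  · rw [mul_smul, mul_smul, inv_smul_smul, show u • (pI : Cfsg.suzukiOvoid F m) = pI from U_le hG hu]

theorem normalizer_U (hm : 1 ≤ m) (hF : Fintype.card F = 2 ^ (2 * m + 1)) :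
    Subgroup.normalizer (U hG : Set (Cfsg.Sz F m)) =
      stabilizer (Cfsg.Sz F m) (pI : Cfsg.suzukiOvoid F m) := by
  ext g
  refine ⟨fun hg => fix_of_conj_mem_U hG (T_mem hG 0 1) (T_ne_one hG)
    ((hg _).mp (T_mem hG 0 1)), fun hg n => ⟨fun hn => conj_mem_U hG hm hF hg hn, fun hn => ?_⟩⟩
  have hinv : g⁻¹ • (pI : Cfsg.suzukiOvoid F m) = pI := inv_smul_eq_iff.mpr hg.symm
  simpa [mul_assoc] using conj_mem_U hG hm hF hinv hn

theorem not_dvd_index_U (hm : 1 ≤ m) (hF : Fintype.card F = 2 ^ (2 * m + 1)) :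
    ¬ 2 ∣ (U hG).index := by
  have hc := (U hG).card_mul_index
  rw [card_U, card_eq hm hF, mul_assoc] at hc
  have hq0 : 0 < Nat.card F ^ 2 := by
    have : 0 < Nat.card F := Nat.card_pos
    positivity
  rw [Nat.eq_of_mul_eq_mul_left hq0 hc, Nat.card_eq_fintype_card, hF,
    show 2 * m + 1 = (2 * m) + 1 from rfl, pow_succ]
  have hs : 0 < (2 : ℕ) ^ (2 * m) := by positivity
  generalize (2 : ℕ) ^ (2 * m) = s at hs ⊢
  rw [Nat.prime_two.dvd_mul]
  rintro (h | h)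
  · omega
  · have : (s * 2) ^ 2 = 2 * (2 * s ^ 2) := by ring
    omega

theorem U_isPGroup (hF : Fintype.card F = 2 ^ (2 * m + 1)) : IsPGroup 2 (U hG) := by
  refine IsPGroup.of_card (n := (2 * m + 1) * 2) ?_
  rw [card_U, Nat.card_eq_fintype_card, hF, ← pow_mul]

/-- The translations as a Sylow 2-subgroup. -/
noncomputable def sylowU (hm : 1 ≤ m) (hF : Fintype.card F = 2 ^ (2 * m + 1)) :
    Sylow 2 (Cfsg.Sz F m) :=
  (U_isPGroup hG hF).toSylow (not_dvd_index_U hG hm hF)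

theorem coe_sylowU (hm : 1 ≤ m) (hF : Fintype.card F = 2 ^ (2 * m + 1)) :
    (sylowU hG hm hF : Subgroup (Cfsg.Sz F m)) = U hG := rfl

theorem exists_conj_U (hm : 1 ≤ m) (hF : Fintype.card F = 2 ^ (2 * m + 1))
    (P : Sylow 2 (Cfsg.Sz F m)) :
    ∃ g : Cfsg.Sz F m, ∀ x, x ∈ P ↔ g * x * g⁻¹ ∈ U hG := by
  have : Fact (Nat.Prime 2) := ⟨Nat.prime_two⟩
  obtain ⟨g, hg⟩ := MulAction.exists_smul_eq (Cfsg.Sz F m) P (sylowU hG hm hF)
  refine ⟨g, fun x => ?_⟩
  rw [← coe_sylowU hG hm hF, ← hg, Sylow.coe_subgroup_smul,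
    Subgroup.mem_pointwise_smul_iff_inv_smul_mem]
  simp [mul_assoc]
  rfl

theorem commute_T_iff {a b c d : F} :
    Commute (T hG a b) (T hG c d) ↔ a ^ (2 ^ (m + 1)) * c = c ^ (2 ^ (m + 1)) * a := by
  show T hG a b * T hG c d = T hG c d * T hG a b ↔ _
  rw [T_mul, T_mul]
  refine ⟨fun h => ?_, fun h => ?_⟩
  · have h2 := (T_inj hG h).2
    linear_combination h2
  · rw [add_comm a c, h, add_comm b d]

theorem exists_sigma_ne (hm : 1 ≤ m) (hF : Fintype.card F = 2 ^ (2 * m + 1)) :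
    ∃ c : F, c ≠ 0 ∧ c ≠ 1 ∧ c ^ (2 ^ (m + 1)) ≠ c := by
  classical
  have hG := good_of_card (m := m) hF
  have h7 := two_lt_card hm hF
  obtain ⟨c, -, hc⟩ := Finset.exists_mem_notMem_of_card_lt_card (s := ({0, 1} : Finset F))
    (t := Finset.univ) (lt_of_le_of_lt Finset.card_le_two (by rw [Finset.card_univ]; omega))
  simp only [Finset.mem_insert, Finset.mem_singleton, not_or] at hc
  exact ⟨c, hc.1, hc.2, fun h => (sigma_fix hG h).elim hc.1 hc.2⟩

theorem mem_center_U_iff (hm : 1 ≤ m) (hF : Fintype.card F = 2 ^ (2 * m + 1)) (x : U hG) :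
    x ∈ Subgroup.center (U hG) ↔ ∃ b, (x : Cfsg.Sz F m) = T hG 0 b := by
  rw [Subgroup.mem_center_iff]
  refine ⟨fun h => ?_, ?_⟩
  · obtain ⟨a, b, hab⟩ := x.2
    have h' : ∀ c, a ^ (2 ^ (m + 1)) * c = c ^ (2 ^ (m + 1)) * a := fun c => by
      refine (commute_T_iff hG (b := b) (d := 0)).mp ?_
      have := congrArg Subtype.val (h ⟨T hG c 0, T_mem hG c 0⟩)
      show T hG a b * T hG c 0 = T hG c 0 * T hG a b
      rw [← hab]
      exact this.symm
    have e1 := h' 1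
    rw [one_pow, mul_one, one_mul] at e1
    rcases sigma_fix hG e1 with ha | ha
    · exact ⟨b, by rw [hab, ha]⟩
    · obtain ⟨c, -, -, hc⟩ := exists_sigma_ne hm hF
      have e2 := h' c
      rw [ha, one_pow, one_mul, mul_one] at e2
      exact absurd e2.symm hc
  · rintro ⟨b, hb⟩ g
    obtain ⟨c, d, hg⟩ := g.2
    refine Subtype.ext ?_
    show (g : Cfsg.Sz F m) * x = x * g
    rw [hb, hg]
    exact (commute_T_iff hG).mpr (by simp [sigma_ne_zero])

theorem card_center_U (hm : 1 ≤ m) (hF : Fintype.card F = 2 ^ (2 * m + 1)) :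
    Nat.card (Subgroup.center (U hG)) = Nat.card F := by
  refine (Nat.card_eq_of_bijective (fun b : F => (⟨⟨T hG 0 b, T_mem hG 0 b⟩,
    (mem_center_U_iff hG hm hF _).mpr ⟨b, rfl⟩⟩ : Subgroup.center (U hG))) ⟨?_, ?_⟩).symm
  · intro b b' h
    exact (T_inj hG (congrArg (fun z : Subgroup.center (U hG) => ((z : U hG) : Cfsg.Sz F m)) h)).2
  · rintro ⟨x, hx⟩
    obtain ⟨b, hb⟩ := (mem_center_U_iff hG hm hF x).mp hx
    exact ⟨b, Subtype.ext (Subtype.ext hb.symm)⟩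

theorem T_sq (a b : F) : T hG a b * T hG a b = T hG 0 (a ^ (2 ^ (m + 1)) * a) := by
  rw [T_mul]
  have h2 := hG.two
  congr 1 <;> grind

include hG in
theorem sigma_succ_surj (b : F) : ∃ a : F, a ^ (2 ^ (m + 1)) * a = b := by
  refine Finite.surjective_of_injective (f := fun a : F => a ^ (2 ^ (m + 1)) * a) ?_ b
  intro a c h
  simp only at h
  rcases eq_or_ne c 0 with rfl | hc
  · rw [zero_pow sigma_ne_zero, zero_mul, mul_eq_zero] at h
    exact h.elim eq_zero_of_pow_eq_zero id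
  rcases eq_or_ne a 0 with rfl | ha
  · rw [zero_pow sigma_ne_zero, zero_mul, eq_comm, mul_eq_zero] at h
    exact (h.elim eq_zero_of_pow_eq_zero id).symm
  -- apply `σ` and divide
  have h1 := congrArg (fun z : F => z ^ (2 ^ (m + 1))) h
  simp only [mul_pow, hG.sq] at h1
  have h3 : a * (c ^ (2 ^ (m + 1)) * c) = c * (c ^ (2 ^ (m + 1)) * c) := by
    have e : a ^ 2 * a ^ (2 ^ (m + 1)) = a * (a ^ (2 ^ (m + 1)) * a) := by ring
    rw [e, h] at h1
    linear_combination h1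
  exact mul_right_cancel₀ (mul_ne_zero (pow_ne_zero _ hc) hc) h3

theorem center_U_eq_commutator (hm : 1 ≤ m) (hF : Fintype.card F = 2 ^ (2 * m + 1)) :
    Subgroup.center (U hG) = commutator (U hG) := by
  have hcalc : ∀ a c : F, ⁅T hG a 0, T hG c 0⁆ =
      T hG 0 (a ^ (2 ^ (m + 1)) * c + c ^ (2 ^ (m + 1)) * a) := by
    intro a c
    rw [commutatorElement_def, T_inv, T_inv, T_mul, T_mul, T_mul]
    have h2 := hG.two
    congr 1 <;> (try simp only [hG.add]) <;> grind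
  refine le_antisymm ?_ ?_
  · intro x hx
    obtain ⟨b, hb⟩ := (mem_center_U_iff hG hm hF x).mp hx
    obtain ⟨c, -, -, hc⟩ := exists_sigma_ne hm hF
    have hne : c + c ^ (2 ^ (m + 1)) ≠ 0 := fun h => hc (by
      have := hG.two
      grind)
    obtain ⟨r, hr⟩ := sigma_succ_surj hG (b / (c + c ^ (2 ^ (m + 1))))
    have hx' : x = ⁅(⟨T hG r 0, T_mem hG r 0⟩ : U hG), ⟨T hG (r * c) 0, T_mem hG _ 0⟩⁆ := by
      refine Subtype.ext ?_
      show (x : Cfsg.Sz F m) = ⁅T hG r 0, T hG (r * c) 0⁆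
      rw [hb, hcalc]
      congr 1
      rw [mul_pow, eq_div_iff hne] at *
      linear_combination -hr
    rw [hx', commutator_def]
    exact Subgroup.commutator_mem_commutator (Subgroup.mem_top _) (Subgroup.mem_top _)
  · rw [commutator_def, Subgroup.commutator_le]
    rintro ⟨_, a, b, rfl⟩ - ⟨_, c, d, rfl⟩ -
    refine (mem_center_U_iff hG hm hF _).mpr
      ⟨a ^ (2 ^ (m + 1)) * c + c ^ (2 ^ (m + 1)) * a, ?_⟩
    show ⁅T hG a b, T hG c d⁆ = _
    rw [commutatorElement_def, T_inv, T_inv, T_mul, T_mul, T_mul]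
    have h2 := hG.two
    congr 1 <;> (try simp only [hG.add]) <;> grind

theorem exponent_U : Monoid.exponent (U hG) = 4 := by
  have h4 : Monoid.exponent (U hG) ∣ 4 := by
    refine Monoid.exponent_dvd_of_forall_pow_eq_one ?_
    rintro ⟨_, a, b, rfl⟩
    refine Subtype.ext ?_
    show T hG a b ^ 4 = 1
    rw [show T hG a b ^ 4 = (T hG a b ^ 2) ^ 2 from pow_mul _ 2 2, pow_two, pow_two, T_sq, T_sq]
    simp [T_zero, sigma_ne_zero]
  have h2 : ¬ Monoid.exponent (U hG) ∣ 2 := fun h => by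
    have := congrArg Subtype.val
      (Monoid.exponent_dvd_iff_forall_pow_eq_one.mp h (⟨T hG 1 0, T_mem hG 1 0⟩ : U hG))
    rw [SubmonoidClass.coe_pow, OneMemClass.coe_one, pow_two, T_sq, ← T_zero hG] at this
    simpa using (T_inj hG this).2
  obtain ⟨k, hk, e⟩ := (Nat.dvd_prime_pow Nat.prime_two).mp (show Monoid.exponent (U hG) ∣ 2 ^ 2 from h4)
  interval_cases k
  · exact absurd (e ▸ one_dvd _) h2
  · exact absurd (e ▸ dvd_rfl) h2
  · exact e

theorem centralizer_le_U (hm : 1 ≤ m) (hF : Fintype.card F = 2 ^ (2 * m + 1)) {u : Cfsg.Sz F m}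
    (hu : u ∈ U hG) (h1 : u ≠ 1) : Subgroup.centralizer {u} ≤ U hG := by
  intro g hg
  have hgu := Subgroup.mem_centralizer_singleton_iff.mp hg
  have hfix : g • (pI : Cfsg.suzukiOvoid F m) = pI := fix_of_conj_mem_U hG hu h1
    (by rw [hgu, mul_inv_cancel_right]; exact hu)
  obtain ⟨x, y, c, rfl⟩ := eq_T_mul_H hG hm hF hfix
  obtain ⟨a, b, rfl⟩ := hu
  rw [mul_assoc, H_conj_T, ← mul_assoc, ← mul_assoc, T_mul, T_mul] at hgu
  obtain ⟨e1, e2, -⟩ := T_H_inj hG hgu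
  suffices hc : c = 1 by rw [hc, map_one, mul_one]; exact T_mem hG _ _
  rcases eq_or_ne a 0 with rfl | ha
  · rcases eq_or_ne b 0 with rfl | hb
    · exact absurd (T_zero hG) h1
    · refine sigma_eq_one hG ((mul_eq_right₀ hb).mp ?_)
      simp [sigma_ne_zero] at e2
      linear_combination e2
  · exact lam_eq_one hG ((mul_eq_right₀ ha).mp (by linear_combination e1))

end Cfsg.Agent.Suzuki
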