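import Cfsg.Agent.Suzuki.Sylow
import Cfsg.Agent.RankOne.Semilinear
import Cfsg.Prelude.Def_Solvable
import Cfsg.Prelude.Def_Transfer

/-!
The automorphism group of the Sylow 2-subgroup of the Suzuki group.
-/

set_option autoImplicit false

namespace Cfsg.Agent.Suzuki

open Matrix Cfsg.Agent.RankOne.Ovoid MulAction
open scoped Pointwise

universe u

variable {F : Type u} [Field F] [Fintype F] {m : ℕ}

omit [Fintype F] in
theorem finite_ringAut [Finite F] : Finite (F ≃+* F) :=
  Finite.of_injective (fun σ : F ≃+* F => (σ : F → F)) DFunLike.coe_injective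

variable (hG : Good F m)

include hG in
theorem charTwo : CharP F 2 := CharTwo.of_one_ne_zero_of_two_eq_zero one_ne_zero hG.two

/-- The twisting field automorphism. -/
noncomputable def sAut : F ≃+* F :=
  RingEquiv.ofBijective
    ({ toFun := fun x => x ^ (2 ^ (m + 1))
       map_one' := one_pow _
       map_mul' := fun x y => mul_pow x y _
       map_zero' := zero_pow sigma_ne_zero
       map_add' := hG.add } : F →+* F)
    (Finite.injective_iff_bijective.mp fun x y h => by
      have h' := congrArg (fun z : F => z ^ (2 ^ (m + 1))) (show x ^ (2 ^ (m + 1)) = y ^ _ from h)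
      simp only [hG.sq] at h'
      have : (x + y) * (x + y) = 0 := by
        have := hG.two
        linear_combination h' + (x * y + y ^ 2) * this
      have := mul_self_eq_zero.mp this
      linear_combination this - y * hG.two)

theorem sAut_apply (x : F) : sAut hG x = x ^ (2 ^ (m + 1)) := rfl

include hG in
theorem aut_sigma (σ : F ≃+* F) (x : F) : σ (x ^ (2 ^ (m + 1))) = σ x ^ (2 ^ (m + 1)) :=
  map_pow σ x _

theorem trans_sAut (σ : F ≃+* F) : σ.trans (sAut hG) = (sAut hG).trans σ :=
  RingEquiv.ext fun x => (aut_sigma hG σ x).symm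

theorem sAut_ne (hm : 1 ≤ m) (hF : Fintype.card F = 2 ^ (2 * m + 1)) :
    ((sAut hG).trans (sAut hG)).trans ((sAut hG).trans (sAut hG)) ≠ RingEquiv.refl F := by
  classical
  intro h
  have h4 : ∀ x : F, x ^ 4 = x := fun x => by
    have := RingEquiv.congr_fun h x
    simp only [RingEquiv.trans_apply, RingEquiv.refl_apply, sAut_apply, hG.sq] at this
    rwa [← pow_mul] at this
  have hp : (Polynomial.X ^ 4 - Polynomial.X : Polynomial F) ≠ 0 :=
    FiniteField.X_pow_card_sub_X_ne_zero F (by norm_num)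
  have hsub : (Finset.univ : Finset F) ⊆
      (Polynomial.X ^ 4 - Polynomial.X : Polynomial F).roots.toFinset := fun x _ => by
    rw [Multiset.mem_toFinset, Polynomial.mem_roots hp]
    simp [h4 x]
  have h1 := (Finset.card_le_card hsub).trans ((Multiset.toFinset_card_le _).trans
    (Polynomial.card_roots' _))
  rw [FiniteField.X_pow_card_sub_X_natDegree_eq F (by norm_num), Finset.card_univ] at h1
  have := two_lt_card hm hF
  omega

include hG in
/-- The key: additive maps respecting the squaring form are semilinear. -/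
theorem semilinear_of_square (hm : 1 ≤ m) (hF : Fintype.card F = 2 ^ (2 * m + 1)) (h g : F →+ F)
    (h0 : h ≠ 0) (hQ : ∀ a, g (a ^ (2 ^ (m + 1)) * a) = h a ^ (2 ^ (m + 1)) * h a) :
    ∃ (r : Fˣ) (φ : F ≃+* F), ∀ a, h a = (r : F) * φ a := by
  classical
  have := charTwo hG
  have := finite_ringAut (F := F)
  have := Fintype.ofFinite (F ≃+* F)
  set s := sAut hG
  obtain ⟨c, hc⟩ := RankOne.exists_additive_expand h
  obtain ⟨d, hd⟩ := RankOne.exists_additive_expand g
  set u : (F ≃+* F) → F := fun ρ => s (c (ρ.trans s.symm))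
  have hsh : ∀ a, h a ^ (2 ^ (m + 1)) = ∑ ρ, u ρ * ρ a := fun a => by
    rw [← sAut_apply hG, hc, map_sum]
    refine Fintype.sum_equiv
      { toFun := fun σ => σ.trans s
        invFun := fun ρ => ρ.trans s.symm
        left_inv := fun σ => RingEquiv.ext fun x => s.symm_apply_apply _
        right_inv := fun σ => RingEquiv.ext fun x => s.apply_symm_apply _ } _ _ fun σ => ?_
    show s (c σ * σ a) = s (c ((σ.trans s).trans s.symm)) * s (σ a)
    rw [map_mul, show (σ.trans s).trans s.symm = σ from RingEquiv.ext fun x => s.symm_apply_apply _]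
  set N : (F ≃+* F) × (F ≃+* F) → F :=
    fun p => u p.1 * c p.2 - if p.1 = p.2.trans s then d p.2 else 0
  have hzero : ∀ a, ∑ p, N p * (p.1 a * p.2 a) = 0 := fun a => by
    simp only [N, sub_mul, Finset.sum_sub_distrib, sub_eq_zero]
    calc ∑ p : (F ≃+* F) × (F ≃+* F), u p.1 * c p.2 * (p.1 a * p.2 a)
        = (∑ ρ, u ρ * ρ a) * ∑ π, c π * π a := by
          rw [Fintype.sum_prod_type, Finset.sum_mul_sum]
          exact Finset.sum_congr rfl fun ρ _ => Finset.sum_congr rfl fun π _ => by ring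
      _ = g (a ^ (2 ^ (m + 1)) * a) := by rw [← hsh, ← hc, hQ]
      _ = ∑ π, d π * ((π.trans s) a * π a) := by
          rw [hd]
          refine Finset.sum_congr rfl fun π _ => ?_
          rw [map_mul, RingEquiv.trans_apply, sAut_apply, aut_sigma hG]
      _ = _ := by
          rw [Fintype.sum_prod_type, Finset.sum_comm]
          refine Finset.sum_congr rfl fun π _ => ?_
          simp [ite_mul, Finset.sum_ite_eq', mul_assoc]
  -- polarise
  have hanti : ∀ ρ π, N (ρ, π) + N (π, ρ) = 0 := by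
    have hpol : ∀ x y, ∑ ρ, (∑ π, (N (ρ, π) + N (π, ρ)) * π y) * ρ x = 0 := fun x y => by
      have e := hzero (x + y)
      simp only [map_add, add_mul, mul_add, Finset.sum_add_distrib, hzero x, hzero y, zero_add,
        add_zero] at e
      simp only [add_mul, Finset.sum_add_distrib, Finset.sum_mul]
      rw [Fintype.sum_prod_type, Fintype.sum_prod_type] at e
      conv_lhs => arg 2; rw [Finset.sum_comm]
      refine Eq.trans ?_ e
      rw [add_comm]
      congr 1 <;> exact Finset.sum_congr rfl fun ρ _ => Finset.sum_congr rfl fun π _ => by ring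
    intro ρ π
    have h1 : ∀ y, ∑ π, (N (ρ, π) + N (π, ρ)) * π y = 0 := fun y => congrFun
      (RankOne.expand_unique (c := fun ρ => ∑ π, (N (ρ, π) + N (π, ρ)) * π y) (d := fun _ => 0)
        (fun x => by simpa using hpol x y)) ρ
    exact congrFun (RankOne.expand_unique (c := fun π => N (ρ, π) + N (π, ρ)) (d := fun _ => 0)
      (fun y => by simpa using h1 y)) π
  have hne : ∀ π : F ≃+* F, π ≠ π.trans s := fun π e => by
    have hs1 : s = RingEquiv.refl F := RingEquiv.ext fun x => by
      simpa using (RingEquiv.congr_fun e (π.symm x)).symm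
    exact sAut_ne hG hm hF (by rw [show sAut hG = RingEquiv.refl F from hs1]; rfl)
  have hdiag : ∀ ρ, N (ρ, ρ) = 0 := by
    have hsum : ∀ a, ∑ ρ, N (ρ, ρ) * (ρ a * ρ a) = 0 := fun a => by
      have hoff : ∑ p ∈ (Finset.univ : Finset ((F ≃+* F) × (F ≃+* F))).filter (fun p => p.1 ≠ p.2),
          N p * (p.1 a * p.2 a) = 0 := by
        refine Finset.sum_involution (fun p _ => p.swap) (fun p _ => ?_) (fun p hp _ e => ?_)
          (fun p hp => ?_) (fun p _ => p.swap_swap)
        · obtain ⟨ρ, π⟩ := p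
          show N (ρ, π) * (ρ a * π a) + N (π, ρ) * (π a * ρ a) = 0
          linear_combination (ρ a * π a) * hanti ρ π
        · exact (Finset.mem_filter.mp hp).2 (congrArg Prod.fst e).symm
        · exact Finset.mem_filter.mpr ⟨Finset.mem_univ _, Ne.symm (Finset.mem_filter.mp hp).2⟩
      have hsplit := Finset.sum_filter_add_sum_filter_not Finset.univ
        (fun p : (F ≃+* F) × (F ≃+* F) => p.1 ≠ p.2) (fun p => N p * (p.1 a * p.2 a))
      rw [hoff, hzero, zero_add] at hsplit
      rw [← hsplit]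
      refine Finset.sum_bij (fun ρ _ => (ρ, ρ)) (fun ρ _ => by simp) (fun ρ _ π _ e => congrArg Prod.fst e)
        (fun p hp => ⟨p.1, Finset.mem_univ _, ?_⟩) (fun ρ _ => rfl)
      simp only [Finset.mem_filter, Finset.mem_univ, true_and, not_not] at hp
      exact Prod.ext rfl hp
    have hsq : Function.Surjective fun x : F => x ^ 2 := Finite.surjective_of_injective fun x y e => by
      exact CharTwo.sq_inj.mp e
    choose rt hrt using hsq
    intro ρ
    have hr : (fun ρ => rt (N (ρ, ρ))) = fun _ : F ≃+* F => (0 : F) := RankOne.expand_unique fun a => by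
      simp only [zero_mul, Finset.sum_const_zero]
      refine eq_zero_of_pow_eq_zero (n := 2) ?_
      rw [CharTwo.sum_sq, ← hsum a]
      refine Finset.sum_congr rfl fun π _ => ?_
      rw [mul_pow, show rt (N (π, π)) ^ 2 = N (π, π) from hrt _, pow_two]
    rw [← show rt (N (ρ, ρ)) ^ 2 = N (ρ, ρ) from hrt _, congrFun hr ρ, zero_pow two_ne_zero]
  have hdisj : ∀ ρ, c ρ ≠ 0 → c (ρ.trans s) = 0 := fun ρ hρ => by
    have e := hdiag (ρ.trans s)
    simp only [N, u] at e
    rw [if_neg (hne _), sub_zero, show (ρ.trans s).trans s.symm = ρ from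
      RingEquiv.ext fun x => s.symm_apply_apply _] at e
    exact (mul_eq_zero.mp e).resolve_left (fun e' => hρ (s.map_eq_zero_iff.mp e'))
  have hstep : ∀ i j, c i ≠ 0 → c j ≠ 0 → i ≠ j → j = (i.trans s).trans s := fun i j hi hj hij => by
    have e := hanti (i.trans s) j
    simp only [N, u] at e
    rw [hdisj i hi, mul_zero, show (i.trans s).trans s.symm = i from
      RingEquiv.ext fun x => s.symm_apply_apply _] at e
    by_contra hne2
    rw [if_neg (fun e' => hij (RingEquiv.ext fun x => s.injective (RingEquiv.congr_fun e' x))),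
      if_neg hne2, sub_zero, sub_zero, add_zero] at e
    exact mul_ne_zero (fun e' => hi (s.map_eq_zero_iff.mp e')) hj e
  obtain ⟨i, hi⟩ : ∃ i, c i ≠ 0 := by
    by_contra hall
    push Not at hall
    exact h0 (AddMonoidHom.ext fun a => by simp [hc, hall])
  refine ⟨Units.mk0 _ hi, i, fun a => ?_⟩
  rw [hc, Units.val_mk0]
  refine Finset.sum_eq_single i (fun j _ hji => ?_) (fun h => absurd (Finset.mem_univ _) h)
  by_cases hj : c j = 0
  · rw [hj, zero_mul]
  exfalso
  have e1 := hstep i j hi hj (Ne.symm hji)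
  have e2 := hstep j i hj hi hji
  refine sAut_ne hG hm hF (RingEquiv.ext fun x => ?_)
  have e3 := RingEquiv.congr_fun e2 (i.symm x)
  rw [e1] at e3
  simp only [RingEquiv.trans_apply, RingEquiv.apply_symm_apply] at e3 ⊢
  exact e3.symm

/-- Coordinates on the translations. -/
noncomputable def tU : F × F ≃ U hG :=
  Equiv.ofBijective (fun p => ⟨T hG p.1 p.2, T_mem hG _ _⟩)
    ⟨fun p p' h => Prod.ext (T_inj hG (congrArg Subtype.val h)).1
      (T_inj hG (congrArg Subtype.val h)).2, fun g => by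
        obtain ⟨a, b, h⟩ := g.2
        exact ⟨(a, b), Subtype.ext h.symm⟩⟩

theorem tU_mul (a b c d : F) :
    tU hG (a, b) * tU hG (c, d) = tU hG (a + c, b + d + a ^ (2 ^ (m + 1)) * c) :=
  Subtype.ext (T_mul hG a b c d)

theorem tU_zero : tU hG (0, 0) = 1 := Subtype.ext (T_zero hG)

theorem coe_tU (p : F × F) : (tU hG p : Cfsg.Sz F m) = T hG p.1 p.2 := rfl

/-- The first coordinate. -/
noncomputable def fst' (x : U hG) : F := ((tU hG).symm x).1

theorem fst'_tU (a b : F) : fst' hG (tU hG (a, b)) = a := by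
  rw [fst', Equiv.symm_apply_apply]

theorem fst'_mul (x y : U hG) : fst' hG (x * y) = fst' hG x + fst' hG y := by
  obtain ⟨⟨a, b⟩, rfl⟩ := (tU hG).surjective x
  obtain ⟨⟨c, d⟩, rfl⟩ := (tU hG).surjective y
  rw [tU_mul, fst'_tU, fst'_tU, fst'_tU]

variable (hm : 1 ≤ m) (hF : Fintype.card F = 2 ^ (2 * m + 1))

include hm hF in
theorem mem_center_iff_fst (x : U hG) : x ∈ Subgroup.center (U hG) ↔ fst' hG x = 0 := by
  obtain ⟨⟨a, b⟩, rfl⟩ := (tU hG).surjective x
  rw [fst'_tU, mem_center_U_iff hG hm hF]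
  refine ⟨fun ⟨b', h⟩ => (T_inj hG h).1, fun h => ⟨b, ?_⟩⟩
  rw [coe_tU, h]

include hm hF in
theorem fst'_aut (α : MulAut (U hG)) (a b : F) :
    fst' hG (α (tU hG (a, b))) = fst' hG (α (tU hG (a, 0))) := by
  have hc : tU hG (0, b) ∈ Subgroup.center (U hG) :=
    (mem_center_iff_fst hG hm hF _).mpr (fst'_tU hG 0 b)
  have hc' : α (tU hG (0, b)) ∈ Subgroup.center (U hG) := Subgroup.mem_center_iff.mpr fun y => by
    obtain ⟨z, rfl⟩ := α.surjective y
    rw [← map_mul, Subgroup.mem_center_iff.mp hc z, map_mul]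
  rw [show tU hG (a, b) = tU hG (a, 0) * tU hG (0, b) by rw [tU_mul]; simp [sigma_ne_zero],
    map_mul, fst'_mul, (mem_center_iff_fst hG hm hF _).mp hc', add_zero]

include hm hF in
theorem fst'_aut_comp (α β : MulAut (U hG)) (a : F) :
    fst' hG (α (β (tU hG (a, 0)))) = fst' hG (α (tU hG (fst' hG (β (tU hG (a, 0))), 0))) := by
  obtain ⟨⟨c, d⟩, hcd⟩ := (tU hG).surjective (β (tU hG (a, 0)))
  rw [← hcd, fst'_tU, fst'_aut hG hm hF α c d]

/-- The induced action on the first coordinate. -/
noncomputable def autFst : MulAut (U hG) →* Equiv.Perm F :=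
  MonoidHom.mk' (fun α =>
    { toFun := fun a => fst' hG (α (tU hG (a, 0)))
      invFun := fun a => fst' hG (α⁻¹ (tU hG (a, 0)))
      left_inv := fun a => by
        dsimp only
        rw [← fst'_aut_comp hG hm hF α⁻¹ α a, ← MulAut.mul_apply, inv_mul_cancel, MulAut.one_apply,
          fst'_tU]
      right_inv := fun a => by
        dsimp only
        rw [← fst'_aut_comp hG hm hF α α⁻¹ a, ← MulAut.mul_apply, mul_inv_cancel, MulAut.one_apply,
          fst'_tU] })
    fun α β => Equiv.ext fun a => fst'_aut_comp hG hm hF α β a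

/-- The automorphism of the translations given by a semilinear map. -/
noncomputable def semiAut (r : Fˣ) (φ : F ≃+* F) : MulAut (U hG) where
  toEquiv := (tU hG).symm.trans (((Equiv.trans φ.toEquiv (Equiv.mulLeft₀ (r : F) r.ne_zero)).prodCongr
    (Equiv.trans φ.toEquiv (Equiv.mulLeft₀ ((r : F) ^ (2 ^ (m + 1)) * r)
      (mul_ne_zero (pow_ne_zero _ r.ne_zero) r.ne_zero)))).trans (tU hG))
  map_mul' x y := by
    obtain ⟨⟨a, b⟩, rfl⟩ := (tU hG).surjective x
    obtain ⟨⟨c, d⟩, rfl⟩ := (tU hG).surjective y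
    simp only [tU_mul, Equiv.toFun_as_coe, Equiv.trans_apply, Equiv.symm_apply_apply,
      Equiv.prodCongr_apply, Prod.map, Equiv.mulLeft₀_apply]
    show tU hG ((r : F) * φ (a + c), _ * φ (b + d + a ^ (2 ^ (m + 1)) * c)) =
      tU hG ((r : F) * φ a + (r : F) * φ c, _ * φ b + _ * φ d + ((r : F) * φ a) ^ (2 ^ (m + 1)) * ((r : F) * φ c))
    congr 2
    · rw [map_add, mul_add]
    · rw [map_add, map_add, map_mul, aut_sigma hG φ a, mul_pow]
      ring

theorem semiAut_apply (r : Fˣ) (φ : F ≃+* F) (a b : F) :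
    semiAut hG r φ (tU hG (a, b)) =
      tU hG ((r : F) * φ a, (r : F) ^ (2 ^ (m + 1)) * r * φ b) := by
  show tU hG _ = _
  rw [Equiv.symm_apply_apply]
  rfl

include hm hF in
theorem autFst_semi (r : Fˣ) (φ : F ≃+* F) (a : F) :
    autFst hG hm hF (semiAut hG r φ) a = (r : F) * φ a := by
  show fst' hG _ = _
  rw [semiAut_apply, fst'_tU]

include hm hF in
theorem autFst_add (α : MulAut (U hG)) (a c : F) :
    autFst hG hm hF α (a + c) = autFst hG hm hF α a + autFst hG hm hF α c := by
  show fst' hG _ = fst' hG _ + fst' hG _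
  rw [← fst'_mul, ← map_mul, tU_mul,
    fst'_aut hG hm hF α (a + c) (0 + 0 + a ^ (2 ^ (m + 1)) * c)]

include hm hF in
theorem exists_semi (α : MulAut (U hG)) :
    ∃ (r : Fˣ) (φ : F ≃+* F), ∀ a, autFst hG hm hF α a = (r : F) * φ a := by
  set h : F →+ F := AddMonoidHom.mk' (autFst hG hm hF α) (autFst_add hG hm hF α)
  have hZ : ∀ b, ∃ b', α (tU hG (0, b)) = tU hG (0, b') := fun b => by
    obtain ⟨⟨c, d⟩, hcd⟩ := (tU hG).surjective (α (tU hG (0, b)))
    have h1 : fst' hG (α (tU hG (0, b))) = 0 := by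
      rw [fst'_aut hG hm hF α, tU_zero, map_one, ← tU_zero hG, fst'_tU]
    rw [← hcd, fst'_tU] at h1
    exact ⟨d, by rw [← hcd, h1]⟩
  choose g hg using hZ
  have hgadd : ∀ b b', g (b + b') = g b + g b' := fun b b' => by
    have e : α (tU hG (0, b) * tU hG (0, b')) = _ := map_mul α _ _
    rw [hg, hg, tU_mul, tU_mul] at e
    simp only [mul_zero, add_zero, zero_add] at e
    rw [hg] at e
    exact congrArg Prod.snd ((tU hG).injective e)
  have hsq : ∀ a b : F, tU hG (a, b) * tU hG (a, b) = tU hG (0, a ^ (2 ^ (m + 1)) * a) := fun a b =>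
    Subtype.ext (T_sq hG a b)
  refine semilinear_of_square hG hm hF h (AddMonoidHom.mk' g hgadd) ?_ fun a => ?_
  · intro h0
    obtain ⟨x, hx⟩ := α.surjective (tU hG (1, 0))
    obtain ⟨⟨a, b⟩, rfl⟩ := (tU hG).surjective x
    have := congrArg (fst' hG) hx
    rw [fst'_aut hG hm hF α, fst'_tU] at this
    exact one_ne_zero (this.symm.trans (DFunLike.congr_fun h0 a))
  · have e : α (tU hG (a, 0) * tU hG (a, 0)) = _ := map_mul α _ _
    obtain ⟨⟨c, d⟩, hcd⟩ := (tU hG).surjective (α (tU hG (a, 0)))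
    rw [hsq, hg, ← hcd, hsq] at e
    show g _ = fst' hG (α (tU hG (a, 0))) ^ _ * fst' hG (α (tU hG (a, 0)))
    rw [← hcd, fst'_tU]
    exact congrArg Prod.snd ((tU hG).injective e)

include hm hF in
theorem card_range_autFst :
    Nat.card (autFst hG hm hF).range = (2 * m + 1) * (2 ^ (2 * m + 1) - 1) := by
  classical
  have := charTwo hG
  have := finite_ringAut (F := F)
  have := Fintype.ofFinite (F ≃+* F)
  letI : Algebra (ZMod 2) F := ZMod.algebra F 2
  let f : Fˣ × (F ≃+* F) → (autFst hG hm hF).range := fun p =>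
    ⟨autFst hG hm hF (semiAut hG p.1 p.2), _, rfl⟩
  have hf : Function.Bijective f := by
    refine ⟨fun p p' e => ?_, fun x => ?_⟩
    · have e' : ∀ a, (p.1 : F) * p.2 a = (p'.1 : F) * p'.2 a := fun a => by
        rw [← autFst_semi hG hm hF, ← autFst_semi hG hm hF]
        exact DFunLike.congr_fun (congrArg Subtype.val e) a
      have h1 : p.1 = p'.1 := Units.ext (by simpa using e' 1)
      refine Prod.ext h1 (RingEquiv.ext fun a => ?_)
      have := e' a
      rw [h1] at this
      exact mul_left_cancel₀ p'.1.ne_zero this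
    · obtain ⟨_, α, rfl⟩ := x
      obtain ⟨r, φ, h⟩ := exists_semi hG hm hF α
      exact ⟨(r, φ), Subtype.ext (Equiv.ext fun a => (autFst_semi hG hm hF r φ a).trans (h a).symm)⟩
  have hn : Module.finrank (ZMod 2) F = 2 * m + 1 := by
    have := Module.natCard_eq_pow_finrank (K := ZMod 2) (V := F)
    rw [Nat.card_zmod, Nat.card_eq_fintype_card, hF] at this
    exact (Nat.pow_right_injective le_rfl this).symm
  rw [← Nat.card_eq_of_bijective f hf, Nat.card_prod, Nat.card_units,
    RankOne.card_ringAut_eq_finrank, hn, Nat.card_eq_fintype_card, hF, mul_comm]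

/-- The automorphisms acting trivially modulo the centre. -/
noncomputable def autKer : Subgroup (MulAut (U hG)) := (autFst hG hm hF).ker

include hm hF in
theorem mem_autKer {α : MulAut (U hG)} :
    α ∈ autKer hG hm hF ↔ ∀ a, autFst hG hm hF α a = a := by
  rw [autKer, MonoidHom.mem_ker]
  exact ⟨fun h a => DFunLike.congr_fun h a, fun h => Equiv.ext h⟩

include hm hF in
theorem center_fixed {α : MulAut (U hG)} (hα : α ∈ autKer hG hm hF) (b : F) :
    α (tU hG (0, b)) = tU hG (0, b) := by
  obtain ⟨a, ha⟩ := sigma_succ_surj hG b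
  have hsq : ∀ a b : F, tU hG (a, b) * tU hG (a, b) = tU hG (0, a ^ (2 ^ (m + 1)) * a) := fun a b =>
    Subtype.ext (T_sq hG a b)
  obtain ⟨⟨c, d⟩, hcd⟩ := (tU hG).surjective (α (tU hG (a, 0)))
  have hc : fst' hG (α (tU hG (a, 0))) = a := (mem_autKer hG hm hF).mp hα a
  rw [← hcd, fst'_tU] at hc
  rw [← ha, ← hsq a 0, map_mul, ← hcd, hc, hsq, hsq]

/-- The central shift by an additive map. -/
noncomputable def shift (k : F →+ F) : MulAut (U hG) :=
  MulEquiv.mk ((tU hG).symm.trans (
    ({ toFun := fun p => (p.1, p.2 + k p.1)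
       invFun := fun p => (p.1, p.2 - k p.1)
       left_inv := fun p => by simp
       right_inv := fun p => by simp } : F × F ≃ F × F).trans (tU hG))) (fun x y => by
    obtain ⟨⟨a, b⟩, rfl⟩ := (tU hG).surjective x
    obtain ⟨⟨c, d⟩, rfl⟩ := (tU hG).surjective y
    simp only [tU_mul, Equiv.trans_apply, Equiv.symm_apply_apply, Equiv.toFun_as_coe,
      Equiv.coe_fn_mk]
    congr 2
    rw [map_add]; ring)

theorem shift_apply (k : F →+ F) (a b : F) :
    shift hG k (tU hG (a, b)) = tU hG (a, b + k a) := by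
  show tU hG _ = _
  rw [Equiv.symm_apply_apply]
  rfl

include hm hF in
theorem shift_mem (k : F →+ F) : shift hG k ∈ autKer hG hm hF :=
  (mem_autKer hG hm hF).mpr fun a => by
    show fst' hG (shift hG k (tU hG (a, 0))) = a
    rw [shift_apply, fst'_tU]

include hm hF in
theorem exists_shift {α : MulAut (U hG)} (hα : α ∈ autKer hG hm hF) :
    ∃ k : F →+ F, α = shift hG k := by
  have hfix := center_fixed hG hm hF hα
  have h : ∀ a, ∃ d, α (tU hG (a, 0)) = tU hG (a, d) := fun a => by
    obtain ⟨⟨a', d⟩, h1⟩ := (tU hG).surjective (α (tU hG (a, 0)))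
    have ha : fst' hG (α (tU hG (a, 0))) = a := (mem_autKer hG hm hF).mp hα a
    rw [← h1, fst'_tU] at ha
    exact ⟨d, by rw [← h1, ha]⟩
  choose k hk using h
  have hsplit : ∀ a b, α (tU hG (a, b)) = tU hG (a, b + k a) := fun a b => by
    have h1 : tU hG (a, b) = tU hG (a, 0) * tU hG (0, b) := by rw [tU_mul]; simp
    rw [h1, map_mul, hfix, hk, tU_mul]
    simp [add_comm]
  refine ⟨AddMonoidHom.mk' k fun a c => ?_, MulEquiv.ext fun x => ?_⟩
  · have e : α (tU hG (a, 0) * tU hG (c, 0)) = _ := map_mul _ _ _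
    rw [tU_mul, hsplit, hk, hk, tU_mul] at e
    have e' := congrArg Prod.snd ((tU hG).injective e)
    simp only [zero_add] at e'
    linear_combination e'
  · obtain ⟨⟨a, b⟩, rfl⟩ := (tU hG).surjective x
    rw [hsplit, shift_apply]
    rfl

include hm hF in
theorem card_autKer : Nat.card (autKer hG hm hF) = 2 ^ ((2 * m + 1) ^ 2) := by
  classical
  have := charTwo hG
  letI : Algebra (ZMod 2) F := ZMod.algebra F 2
  have hn : Module.finrank (ZMod 2) F = 2 * m + 1 := by
    have := Module.natCard_eq_pow_finrank (K := ZMod 2) (V := F)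
    rw [Nat.card_zmod, Nat.card_eq_fintype_card, hF] at this
    exact (Nat.pow_right_injective le_rfl this).symm
  let e : (F →+ F) ≃ (F →ₗ[ZMod 2] F) :=
    { toFun := fun f => f.toZModLinearMap 2
      invFun := fun f => f.toAddMonoidHom
      left_inv := fun _ => rfl
      right_inv := fun _ => rfl }
  have hb : Function.Bijective
      (fun k : F →+ F => (⟨shift hG k, shift_mem hG hm hF k⟩ : autKer hG hm hF)) := by
    refine ⟨fun k k' h => AddMonoidHom.ext fun a => ?_, fun α => ?_⟩
    · have := DFunLike.congr_fun (congrArg Subtype.val h) (tU hG (a, 0))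
      rw [shift_apply, shift_apply] at this
      simpa using congrArg Prod.snd ((tU hG).injective this)
    · obtain ⟨k, hk⟩ := exists_shift hG hm hF α.2
      exact ⟨k, Subtype.ext hk.symm⟩
  rw [← Nat.card_eq_of_bijective _ hb, Nat.card_congr e,
    Module.natCard_eq_pow_finrank (K := ZMod 2), Nat.card_zmod, Module.finrank_linearMap, hn, pow_two]

include hm hF in
theorem card_mulAut :
    Nat.card (MulAut (U hG)) = 2 ^ ((2 * m + 1) ^ 2) * ((2 * m + 1) * (2 ^ (2 * m + 1) - 1)) := by
  rw [Subgroup.card_eq_card_quotient_mul_card_subgroup (autKer hG hm hF), card_autKer, autKer,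
    Nat.card_congr (QuotientGroup.quotientKerEquivRange (autFst hG hm hF)).toEquiv,
    ← card_range_autFst hG hm hF, mul_comm]

include hm hF in
theorem autKer_elementary : Cfsg.IsElementaryAbelian 2 (autKer hG hm hF) := by
  refine ⟨⟨⟨fun α β => Subtype.ext (MulEquiv.ext fun x => ?_)⟩⟩, fun α hα => MulEquiv.ext fun x => ?_⟩
  · obtain ⟨⟨a, b⟩, rfl⟩ := (tU hG).surjective x
    obtain ⟨k, hk⟩ := exists_shift hG hm hF α.2
    obtain ⟨l, hl⟩ := exists_shift hG hm hF β.2
    show (α : MulAut (U hG)) ((β : MulAut (U hG)) (tU hG (a, b))) =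
      (β : MulAut (U hG)) ((α : MulAut (U hG)) (tU hG (a, b)))
    simp only [hk, hl, shift_apply, add_right_comm]
  · obtain ⟨⟨a, b⟩, rfl⟩ := (tU hG).surjective x
    obtain ⟨k, rfl⟩ := exists_shift hG hm hF hα
    rw [pow_two, MulAut.mul_apply, shift_apply, shift_apply, MulAut.one_apply, add_assoc,
      show ∀ z : F, z + z = 0 from fun z => by linear_combination z * hG.two, add_zero]

include hm hF in
theorem pCore_mulAut : Cfsg.pCore 2 (MulAut (U hG)) = autKer hG hm hF := by
  have hn : (autKer hG hm hF).Normal := MonoidHom.normal_ker _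
  have hp : IsPGroup 2 (autKer hG hm hF) := IsPGroup.of_card (card_autKer hG hm hF)
  refine le_antisymm (sSup_le ?_) (le_sSup ⟨hn, hp⟩)
  rintro N ⟨-, hN⟩ x hx
  obtain ⟨j, hj⟩ := hN ⟨x, hx⟩
  have h1 : (autFst hG hm hF) x ^ (2 ^ j) = 1 := by
    rw [← map_pow, show x ^ (2 ^ j) = 1 from congrArg Subtype.val hj, map_one]
  have hodd : Odd ((2 * m + 1) * (2 ^ (2 * m + 1) - 1)) :=
    Odd.mul ⟨m, rfl⟩ (Nat.Even.sub_odd Nat.one_le_two_pow ((Nat.even_pow).mpr ⟨even_two, by omega⟩) odd_one)
  rw [autKer, MonoidHom.mem_ker, ← orderOf_eq_one_iff]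
  have h2 : orderOf ((autFst hG hm hF) x) ∣ 2 ^ j := orderOf_dvd_of_pow_eq_one h1
  have h3 : orderOf ((autFst hG hm hF) x) ∣ (2 * m + 1) * (2 ^ (2 * m + 1) - 1) := by
    rw [← card_range_autFst hG hm hF, ← Subgroup.orderOf_mk _ (MonoidHom.mem_range.mpr ⟨x, rfl⟩ :
      (autFst hG hm hF) x ∈ (autFst hG hm hF).range)]
    exact orderOf_dvd_natCard _
  exact Nat.dvd_one.mp ((Nat.Coprime.gcd_eq_one
    ((Nat.coprime_two_left.mpr hodd).pow_left j)) ▸ Nat.dvd_gcd h2 h3)

end Cfsg.Agent.Suzuki
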