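import Cfsg.Agent.Suzuki.Tori
import Cfsg.Agent.Suzuki.AutU

/-!
Subfield subgroups of the Suzuki group: existence, and conjugacy of all copies.
-/

set_option autoImplicit false

namespace Cfsg.Agent.Suzuki

open Matrix Cfsg.Agent.RankOne.Ovoid MulAction
open scoped Pointwise

universe u v

variable {F : Type u} [Field F] [Fintype F] {m : ℕ}

/-- Conjugating an element of the point stabiliser outside `U` into the torus. -/
theorem exists_U_conj (hG : Good F m) (hm : 1 ≤ m) (hF : Fintype.card F = 2 ^ (2 * m + 1))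
    {a b : F} {c : Fˣ} (hc : c ≠ 1) :
    ∃ w ∈ U hG, ∃ d, w * (T hG a b * H hG c) * w⁻¹ = H hG d := by
  have hl : (1 : F) - lam m (c : F) ≠ 0 := fun h => hc (lam_eq_one hG (sub_eq_zero.mp h).symm)
  have hs : (1 : F) - (c : F) ^ (2 ^ (m + 1)) ≠ 0 :=
    fun h => hc (sigma_eq_one hG (sub_eq_zero.mp h).symm)
  set x := a / (1 - lam m (c : F))
  have hx : x * (1 - lam m (c : F)) = a := div_mul_cancel₀ _ hl
  set y := (a ^ (2 ^ (m + 1)) * (lam m (c : F) * x) + b) / (1 - (c : F) ^ (2 ^ (m + 1)))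
  have hy : y * (1 - (c : F) ^ (2 ^ (m + 1))) = a ^ (2 ^ (m + 1)) * (lam m (c : F) * x) + b :=
    div_mul_cancel₀ _ hs
  have hfix : (T hG a b * H hG c) • (pP x y : Cfsg.suzukiOvoid F m) = pP x y := by
    rw [mul_smul, H_pP, T_pP]
    congr 1
    · linear_combination -hx
    · linear_combination -hy
  have e : T hG x y • (pP 0 0 : Cfsg.suzukiOvoid F m) = pP x y := by rw [T_pP]; simp
  refine ⟨(T hG x y)⁻¹, (U hG).inv_mem (T_mem hG x y), ?_⟩
  rw [inv_inv]
  obtain ⟨d, hd⟩ := eq_H_of_fix hG hm hF (g := (T hG x y)⁻¹ * (T hG a b * H hG c) * T hG x y)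
    (by rw [mul_smul, mul_smul, T_pI, mul_smul, H_pI, T_pI, inv_smul_eq_iff, T_pI])
    (by rw [mul_smul, mul_smul, e, hfix, inv_smul_eq_iff, e])
  exact ⟨d, hd⟩

theorem J_pP (hG : Good F m) {y : F} (hy : y ≠ 0) :
    J hG • (pP 0 y : Cfsg.suzukiOvoid F m) = pP (y / y ^ (2 ^ (m + 1))) 0 := by
  have hne : y ^ (2 ^ (m + 1)) ≠ 0 := pow_ne_zero _ hy
  refine smul_eq_of_mulVec (J hG) (c := y ^ (2 ^ (m + 1))) (vPt_ne_zero _ _) (vPt_ne_zero _ _) ?_
  show revMat F *ᵥ vPt m 0 y = y ^ (2 ^ (m + 1)) • vPt m (y / y ^ (2 ^ (m + 1))) 0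
  have he := hG.sq y
  have hnz : (2 : ℕ) ^ (m + 1) ≠ 0 := sigma_ne_zero
  simp only [vPt]
  generalize (2 : ℕ) ^ (m + 1) = e at he hne hnz ⊢
  funext i
  fin_cases i <;>
    simp [revMat, vPt, vInf, Matrix.mulVec, dotProduct, Fin.sum_univ_four, hnz, pow_add, div_pow,
      he, mul_pow] <;>
    first | field_simp | grind

variable {K : Type v} [Field K] [Fintype K] {k : ℕ}

theorem sigma_restrict (hK : Fintype.card K = 2 ^ (2 * k + 1)) (hdiv : 2 * k + 1 ∣ 2 * m + 1)
    (x : K) : x ^ (2 ^ (m + 1)) = x ^ (2 ^ (k + 1)) := by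
  obtain ⟨t, ht⟩ := hdiv
  obtain ⟨j, hj⟩ : Odd t := (Nat.odd_mul.mp (ht ▸ (⟨m, rfl⟩ : Odd (2 * m + 1)))).2
  have hm : m + 1 = (2 * k + 1) * j + (k + 1) := by subst hj; linarith
  rw [hm, pow_add, pow_mul, pow_mul (2 : ℕ), ← hK, FiniteField.pow_card_pow]

variable (ι : K →+* F) (hσ : ∀ x : K, x ^ (2 ^ (m + 1)) = x ^ (2 ^ (k + 1)))

include hσ in
theorem iota_sigma (x : K) : ι (x ^ (2 ^ (k + 1))) = ι x ^ (2 ^ (m + 1)) := by
  rw [← hσ, map_pow]

variable (hG : Good F m) (hGK : Good K k)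

include hσ in
theorem mapι_T (a b : K) :
    Matrix.SpecialLinearGroup.map ι (T hGK a b : SpecialLinearGroup (Fin 4) K) =
      T hG (ι a) (ι b) := by
  refine Subtype.ext ?_
  show (translMat k a b).map ι = translMat m (ι a) (ι b)
  ext i j
  have hh := iota_sigma ι hσ
  simp only [translMat, vPt]
  generalize (2 : ℕ) ^ (k + 1) = e' at hh ⊢
  generalize (2 : ℕ) ^ (m + 1) = e at hh ⊢
  fin_cases i <;> fin_cases j <;> simp [pow_add, hh]

include hσ in
theorem mapι_H (c : Kˣ) :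
    Matrix.SpecialLinearGroup.map ι (H hGK c : SpecialLinearGroup (Fin 4) K) =
      H hG (Units.map (ι : K →* F) c) := by
  refine Subtype.ext ?_
  show (torMat k (c : K)).map ι = torMat m (ι (c : K))
  ext i j
  have hh := iota_sigma ι hσ
  simp only [torMat, torVec, Matrix.diagonal]
  generalize (2 : ℕ) ^ (k + 1) = e' at hh ⊢
  generalize (2 : ℕ) ^ (m + 1) = e at hh ⊢
  fin_cases i <;> fin_cases j <;> simp [hh]

theorem mapι_J :
    Matrix.SpecialLinearGroup.map ι (J hGK : SpecialLinearGroup (Fin 4) K) = J hG := by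
  refine Subtype.ext ?_
  show (revMat K).map ι = revMat F
  ext i j
  fin_cases i <;> fin_cases j <;> simp [revMat]

variable (hk : 1 ≤ k) (hK : Fintype.card K = 2 ^ (2 * k + 1))

include hσ hG hk hK in
theorem mapι_mem (g : Cfsg.Sz K k) :
    Matrix.SpecialLinearGroup.map ι (g : SpecialLinearGroup (Fin 4) K) ∈ Cfsg.Sz F m := by
  have hGK := good_of_card (m := k) hK
  let L : Subgroup (Cfsg.Sz K k) :=
    (Cfsg.Sz F m).comap ((Matrix.SpecialLinearGroup.map ι).comp (Cfsg.Sz K k).subtype)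
  have hL : L = ⊤ := eq_top_of_gen hGK hk hK L
    (fun a b => by
      show Matrix.SpecialLinearGroup.map ι (T hGK a b : SpecialLinearGroup (Fin 4) K) ∈ Cfsg.Sz F m
      rw [mapι_T ι hσ hG]; exact SetLike.coe_mem _)
    (fun c => by
      show Matrix.SpecialLinearGroup.map ι (H hGK c : SpecialLinearGroup (Fin 4) K) ∈ Cfsg.Sz F m
      rw [mapι_H ι hσ hG]; exact SetLike.coe_mem _)
    (by
      show Matrix.SpecialLinearGroup.map ι (J hGK : SpecialLinearGroup (Fin 4) K) ∈ Cfsg.Sz F m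
      rw [mapι_J ι hG]; exact SetLike.coe_mem _)
  exact (hL ▸ Subgroup.mem_top g : g ∈ L)

/-- The embedding of a subfield Suzuki group. -/
def sub : Cfsg.Sz K k →* Cfsg.Sz F m where
  toFun g := ⟨_, mapι_mem ι hσ hG hk hK g⟩
  map_one' := Subtype.ext (map_one _)
  map_mul' g h := Subtype.ext (map_mul _ _ _)

theorem sub_T (a b : K) : sub ι hσ hG hk hK (T hGK a b) = T hG (ι a) (ι b) :=
  Subtype.ext (mapι_T ι hσ hG hGK a b)

theorem sub_H (c : Kˣ) : sub ι hσ hG hk hK (H hGK c) = H hG (Units.map (ι : K →* F) c) :=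
  Subtype.ext (mapι_H ι hσ hG hGK c)

theorem sub_J : sub ι hσ hG hk hK (J hGK) = J hG := Subtype.ext (mapι_J ι hG hGK)

theorem sub_injective : Function.Injective (sub ι hσ hG hk hK) := fun g h e => by
  refine Subtype.ext (Subtype.ext (Matrix.ext fun i j => ι.injective ?_))
  exact congrFun (congrFun (congrArg (fun z : Cfsg.Sz F m =>
    ((z : SpecialLinearGroup (Fin 4) F) : Matrix (Fin 4) (Fin 4) F)) e) i) j

theorem mem_range_of_pow {x : F} (hx : x ^ Fintype.card K = x) : ∃ y, ι y = x := by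
  classical
  by_contra hno
  push Not at hno
  have h1 : 1 < Fintype.card K := Fintype.one_lt_card
  set P : Polynomial F := Polynomial.X ^ Fintype.card K - Polynomial.X
  have hP : P ≠ 0 := FiniteField.X_pow_card_sub_X_ne_zero F h1
  have hsub : insert x (Finset.univ.image ι) ⊆ P.roots.toFinset := by
    intro z hz
    rw [Multiset.mem_toFinset, Polynomial.mem_roots hP]
    rcases Finset.mem_insert.mp hz with rfl | hz
    · simp [P, hx]
    · obtain ⟨y, -, rfl⟩ := Finset.mem_image.mp hz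
      simp [P, ← map_pow, FiniteField.pow_card]
  have hle := (Finset.card_le_card hsub).trans ((Multiset.toFinset_card_le _).trans
    (Polynomial.card_roots' _))
  rw [Finset.card_insert_of_notMem (by simpa using hno),
    Finset.card_image_of_injective _ ι.injective, Finset.card_univ,
    FiniteField.X_pow_card_sub_X_natDegree_eq F h1] at hle
  omega

include hσ in
/-- Every monomorphism of the smaller group has image conjugate into the subfield subgroup. -/
theorem exists_conj_le (hm : 1 ≤ m) (hF : Fintype.card F = 2 ^ (2 * m + 1))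
    (f : Cfsg.Sz K k →* Cfsg.Sz F m) (hf : Function.Injective f) :
    ∃ g : Cfsg.Sz F m, ∀ x, g * f x * g⁻¹ ∈ (sub ι hσ hG hk hK).range := by
  classical
  have hGK := good_of_card (m := k) hK
  have : Fact (Nat.Prime 2) := ⟨Nat.prime_two⟩
  -- translations
  obtain ⟨P, hP⟩ := ((U_isPGroup hGK hK).map f).exists_le_sylow
  obtain ⟨g0, hg0⟩ := exists_conj_U hG hm hF P
  set f0 := (MulAut.conj g0).toMonoidHom.comp f with hf0
  have hf0i : Function.Injective f0 := (MulAut.conj g0).injective.comp hf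
  have hU0 : ∀ u ∈ U hGK, f0 u ∈ U hG := fun u hu => (hg0 _).mp (hP ⟨u, hu, rfl⟩)
  have hne0 : ∀ x, x ≠ 1 → f0 x ≠ 1 := fun x hx e => hx (hf0i (e.trans (map_one f0).symm))
  -- torus
  obtain ⟨c0, hc0⟩ := IsCyclic.exists_generator (α := Kˣ)
  obtain ⟨e0, he0, he1, -⟩ := exists_sigma_ne hk hK
  have hc01 : c0 ≠ 1 := fun e => by
    obtain ⟨j, hj⟩ := hc0 (Units.mk0 e0 he0)
    refine he1 (congrArg Units.val (show Units.mk0 e0 he0 = 1 from ?_))
    rw [← hj, e]
    exact _root_.one_zpow j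
  have hfix : f0 (H hGK c0) • (pI : Cfsg.suzukiOvoid F m) = pI := by
    refine fix_of_conj_mem_U hG (hU0 _ (T_mem hGK 0 1)) (hne0 _ (T_ne_one hGK)) ?_
    rw [← map_inv, ← map_mul, ← map_mul]
    exact hU0 _ (conj_mem_U hGK hk hK (H_pI hGK c0) (T_mem hGK 0 1))
  obtain ⟨a, b, c, hc⟩ := eq_T_mul_H hG hm hF hfix
  have hc1 : c ≠ 1 := fun e => by
    rw [e, map_one, mul_one] at hc
    have h4 : orderOf (H hGK c0) ∣ 4 := by
      rw [← orderOf_injective f0 hf0i, hc]
      refine orderOf_dvd_of_pow_eq_one ?_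
      have := Monoid.pow_exponent_eq_one (⟨_, T_mem hG a b⟩ : U hG)
      rw [exponent_U] at this
      exact congrArg Subtype.val this
    rw [orderOf_injective _ (H_injective hGK), orderOf_eq_card_of_forall_mem_zpowers hc0,
      Nat.card_units, Nat.card_eq_fintype_card, hK] at h4
    have h7 := two_lt_card hk hK
    rw [hK] at h7
    have := Nat.le_of_dvd (by norm_num) h4
    omega
  obtain ⟨w, hw, d0, hd0⟩ := exists_U_conj hG hm hF (a := a) (b := b) hc1
  rw [← hc] at hd0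
  set f1 := (MulAut.conj w).toMonoidHom.comp f0 with hf1
  have hf1i : Function.Injective f1 := (MulAut.conj w).injective.comp hf0i
  have hU1 : ∀ u ∈ U hGK, f1 u ∈ U hG := fun u hu =>
    (U hG).mul_mem ((U hG).mul_mem hw (hU0 u hu)) ((U hG).inv_mem hw)
  have hH1 : ∀ e, ∃ d, f1 (H hGK e) = H hG d := fun e => by
    obtain ⟨j, rfl⟩ := hc0 e
    refine ⟨d0 ^ j, ?_⟩
    simp only [map_zpow]
    congr 1
  choose χ hχ using hH1
  have hZ1 : ∀ s : K, ∃ z, f1 (T hGK 0 s) = T hG 0 z := fun s => by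
    obtain ⟨r, hr⟩ := sigma_succ_surj hGK s
    obtain ⟨x, y, hxy⟩ := hU1 _ (T_mem hGK r 0)
    exact ⟨_, by rw [← hr, ← T_sq hGK r 0, map_mul, hxy, T_sq]⟩
  choose z1 hz1 using hZ1
  have hz11 : z1 1 ≠ 0 := fun e => by
    have h1 := hz1 1
    rw [e, T_zero] at h1
    exact T_ne_one hGK (hf1i (h1.trans (map_one f1).symm))
  obtain ⟨s, hs⟩ := (sAut hG).surjective (z1 1)⁻¹
  rw [sAut_apply] at hs
  have hs0 : s ≠ 0 := fun e => by
    rw [e, zero_pow sigma_ne_zero] at hs
    exact inv_ne_zero hz11 hs.symm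
  set d := Units.mk0 s hs0
  set f2 := (MulAut.conj (H hG d)).toMonoidHom.comp f1 with hf2
  have hf2i : Function.Injective f2 := (MulAut.conj (H hG d)).injective.comp hf1i
  have hH : ∀ e, f2 (H hGK e) = H hG (χ e) := fun e => by
    show H hG d * f1 (H hGK e) * (H hG d)⁻¹ = _
    rw [hχ, ← map_inv, ← map_mul, ← map_mul, mul_comm d, mul_inv_cancel_right]
  have hU : ∀ u ∈ U hGK, f2 u ∈ U hG := fun u hu =>
    conj_mem_U hG hm hF (H_pI hG d) (hU1 u hu)
  set z : K → F := fun t => s ^ (2 ^ (m + 1)) * z1 t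
  have hconjT : ∀ (e : Fˣ) (a b : F), H hG e * T hG a b * (H hG e)⁻¹ =
      T hG (lam m (e : F) * a) ((e : F) ^ (2 ^ (m + 1)) * b) := fun e a b => by
    rw [H_conj_T, mul_inv_cancel_right]
  have hconjTK : ∀ (e : Kˣ) (a b : K), H hGK e * T hGK a b * (H hGK e)⁻¹ =
      T hGK (lam k (e : K) * a) ((e : K) ^ (2 ^ (k + 1)) * b) := fun e a b => by
    rw [H_conj_T, mul_inv_cancel_right]
  have hZ : ∀ t, f2 (T hGK 0 t) = T hG 0 (z t) := fun t => by
    show H hG d * f1 (T hGK 0 t) * (H hG d)⁻¹ = _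
    rw [hz1, hconjT, mul_zero]
    rfl
  have hzone : z 1 = 1 := by
    show s ^ _ * z1 1 = 1
    rw [hs, inv_mul_cancel₀ hz11]
  -- the torus lies in the subfield
  have hχpow : ∀ e, (χ e : F) ^ Fintype.card K = χ e := fun e => by
    have h : H hG (χ e) ^ (Fintype.card K) = H hG (χ e) := by
      rw [← hH, ← map_pow, ← map_pow]
      congr 2
      refine Units.ext ?_
      rw [Units.val_pow_eq_pow_val, FiniteField.pow_card]
    rw [← map_pow] at h
    rw [← Units.val_pow_eq_pow_val, H_injective hG h]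
  have hzι : ∀ t, ∃ y, ι y = z t := fun t => by
    rcases eq_or_ne t 0 with rfl | ht
    · refine ⟨0, ?_⟩
      have h := hZ 0
      rw [T_zero, map_one, ← T_zero hG] at h
      rw [map_zero]
      exact (T_inj hG h).2
    obtain ⟨w, hw⟩ := (sAut hGK).surjective t
    rw [sAut_apply] at hw
    have hw0 : w ≠ 0 := fun e => by
      rw [e, zero_pow sigma_ne_zero] at hw
      exact ht hw.symm
    have h := congrArg f2 (hconjTK (Units.mk0 w hw0) 0 1)
    rw [map_mul, map_mul, map_inv, hH, hZ, hconjT, mul_zero, mul_zero, mul_one, Units.val_mk0, hw,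
      hZ, hzone, mul_one] at h
    rw [← (T_inj hG h).2]
    obtain ⟨y, hy⟩ := mem_range_of_pow ι (hχpow (Units.mk0 w hw0))
    exact ⟨y ^ (2 ^ (m + 1)), by rw [map_pow, hy]⟩
  -- translations lie in the subfield
  have hp : ∀ a : K, ∃ p : F × F, f2 (T hGK a 0) = T hG p.1 p.2 := fun a => by
    obtain ⟨x, y, h⟩ := hU _ (T_mem hGK a 0)
    exact ⟨(x, y), h⟩
  choose p hp using hp
  have hpfst : ∀ a, ∃ y, ι y = (p a).1 := fun a => by
    have e := congrArg f2 (T_sq hGK a 0)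
    rw [map_mul, hp, T_sq, hZ] at e
    obtain ⟨y, hy⟩ := hzι (a ^ (2 ^ (k + 1)) * a)
    obtain ⟨r, hr⟩ := sigma_succ_surj hGK y
    refine ⟨r, (Finite.injective_iff_surjective.mpr (sigma_succ_surj hG) :
      Function.Injective fun t : F => t ^ (2 ^ (m + 1)) * t) ?_⟩
    show ι r ^ _ * ι r = (p a).1 ^ _ * (p a).1
    rw [← iota_sigma ι hσ, ← map_mul, hr, hy, (T_inj hG e).2]
  choose y hy using hpfst
  have hlamK : ∀ a : K, a ≠ 0 → ∃ e : Kˣ, lam k (e : K) = a := fun a ha => by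
    have hf' : Function.Injective fun e : Kˣ => lam k (e : K) := fun e e' h => by
      have h2 : (e : K) ^ (2 ^ (k + 1)) = (e' : K) ^ (2 ^ (k + 1)) := by
        have h0 : lam k (e : K) = lam k (e' : K) := h
        have hl : ∀ t : K, t ≠ 0 → lam k t ^ (2 ^ (k + 1)) * lam k t = t ^ (2 ^ (k + 1)) := fun t ht => by
          have hne : t ^ (2 ^ (k + 1)) ≠ 0 := pow_ne_zero _ ht
          have hp : (t ^ 2) ^ (2 ^ (k + 1)) = (t ^ (2 ^ (k + 1))) ^ 2 := by
            rw [← pow_mul, ← pow_mul, mul_comm]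
          rw [lam, div_pow, hp, hGK.sq t]
          field_simp
        rw [← hl _ e.ne_zero, ← hl _ e'.ne_zero, h0]
      exact Units.ext ((sAut hGK).injective h2)
    let g : Kˣ → Kˣ := fun e => Units.mk0 (lam k (e : K))
      (div_ne_zero (pow_ne_zero _ e.ne_zero) (pow_ne_zero _ e.ne_zero))
    obtain ⟨e, he⟩ := Finite.surjective_of_injective (f := g)
      (fun e e' h => hf' (congrArg Units.val h)) (Units.mk0 a ha)
    exact ⟨e, congrArg Units.val he⟩
  have hr0 : (p 1).1 ≠ 0 := fun e => by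
    have h := congrArg f2 (T_sq hGK 1 0)
    rw [map_mul, hp, T_sq, hZ, e, one_pow, one_mul, hzone, zero_pow sigma_ne_zero, zero_mul] at h
    exact zero_ne_one (T_inj hG h).2
  have hform : ∀ a, (p a).2 = ((p a).1 / (p 1).1) ^ (2 ^ (m + 1)) * ((p a).1 / (p 1).1) * (p 1).2 :=
    fun a => by
    rcases eq_or_ne a 0 with rfl | ha
    · have h := hp 0
      rw [T_zero, map_one, ← T_zero hG] at h
      obtain ⟨e1, e2⟩ := T_inj hG h
      rw [← e1, ← e2]
      simp [sigma_ne_zero]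
    obtain ⟨e, he⟩ := hlamK a ha
    have h := congrArg f2 (hconjTK e 1 0)
    rw [map_mul, map_mul, map_inv, hH, hp, hconjT, mul_zero, mul_one, he, hp] at h
    obtain ⟨h1, h2⟩ := T_inj hG h
    rw [← h1, ← h2, mul_div_assoc, div_self hr0, mul_one]
    have hne : (χ e : F) ^ (2 ^ (m + 1)) ≠ 0 := pow_ne_zero _ (χ e).ne_zero
    have hpq : ((χ e : F) ^ 2) ^ (2 ^ (m + 1)) = ((χ e : F) ^ (2 ^ (m + 1))) ^ 2 := by
      rw [← pow_mul, ← pow_mul, mul_comm]
    rw [lam, div_pow, hpq, hG.sq (χ e : F)]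
    field_simp
  obtain ⟨β, hβ⟩ : ∃ β, ι β = (p 1).2 := by
    obtain ⟨t, ht0, ht1, -⟩ := exists_sigma_ne hk hK
    have h := congrArg f2 (T_mul hGK 1 0 t 0)
    have hsplit : T hGK (1 + t) (0 + 0 + (1 : K) ^ (2 ^ (k + 1)) * t) =
        T hGK (1 + t) 0 * T hGK 0 t := by rw [T_mul]; simp
    rw [hsplit, map_mul, map_mul, hp, hp, hp, hZ, T_mul, T_mul, mul_zero, add_zero, add_zero] at h
    obtain ⟨h1, h2⟩ := T_inj hG h
    rw [hform t, hform (1 + t), ← h1] at h2
    set r := (p 1).1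
    have hx : ((r + (p t).1) / r) = 1 + (p t).1 / r := by rw [add_div, div_self hr0]
    rw [hx, hG.add, one_pow] at h2
    set x := (p t).1 / r with hxdef
    have hsub : ∃ q, ι q = x + x ^ (2 ^ (m + 1)) := by
      refine ⟨y t / y 1 + (y t / y 1) ^ (2 ^ (k + 1)), ?_⟩
      rw [map_add, iota_sigma ι hσ, map_div₀, hy, hy]
    obtain ⟨q, hq⟩ := hsub
    obtain ⟨zt, hzt⟩ := hzι t
    have hqne : q ≠ 0 := fun e => by
      have hfix : x ^ (2 ^ (m + 1)) = x := by
        rw [e, map_zero] at hq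
        have := hG.two
        grind
      have hinj : Function.Injective y := fun a b e => by
        have e' : (p a).1 = (p b).1 := by rw [← hy, ← hy, e]
        have e2 : (p a).2 = (p b).2 := by rw [hform a, hform b, e']
        have := hp a
        rw [e', e2, ← hp b] at this
        exact (T_inj hGK (hf2i this)).1
      rcases sigma_fix hG hfix with h | h
      · refine ht0 (hinj (ι.injective ?_))
        rw [hy, hy, (div_eq_zero_iff.mp h).resolve_right hr0]
        have h0 := hp 0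
        rw [T_zero, map_one, ← T_zero hG] at h0
        exact (T_inj hG h0).1
      · refine ht1 (hinj (ι.injective ?_))
        rw [hy, hy]
        exact div_eq_one_iff_eq hr0 |>.mp h
    refine ⟨(zt + y 1 ^ (2 ^ (k + 1)) * y t) / q, ?_⟩
    rw [map_div₀, map_add, map_mul, iota_sigma ι hσ, hy, hy, hzt, hq,
      div_eq_iff (hq ▸ (map_ne_zero ι).mpr hqne)]
    have := hG.two
    grind
  have hT : ∀ a b : K, f2 (T hGK a b) ∈ (sub ι hσ hG hk hK).range := fun a b => by
    obtain ⟨zb, hzb⟩ := hzι b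
    have h : f2 (T hGK a 0) ∈ (sub ι hσ hG hk hK).range := by
      refine ⟨T hGK (y a) ((y a / y 1) ^ (2 ^ (k + 1)) * (y a / y 1) * β), ?_⟩
      rw [sub_T, hp, hy, map_mul, map_mul, iota_sigma ι hσ, map_div₀, hy, hy, hβ, ← hform]
    rw [show T hGK a b = T hGK a 0 * T hGK 0 b by rw [T_mul]; simp, map_mul]
    exact Subgroup.mul_mem _ h ⟨T hGK 0 zb, by rw [sub_T, hZ, hzb, map_zero]⟩
  have hHr : ∀ e, f2 (H hGK e) ∈ (sub ι hσ hG hk hK).range := fun e => by
    obtain ⟨y, hy⟩ := mem_range_of_pow ι (hχpow e)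
    have hy0 : y ≠ 0 := fun h => (χ e).ne_zero (by rw [← hy, h, map_zero])
    exact ⟨H hGK (Units.mk0 y hy0), by rw [sub_H, hH]; congr 1; exact Units.ext hy⟩
  -- the inversion
  obtain ⟨u, hu, hu1, -⟩ := exists_sigma_ne hk hK
  set uu := Units.mk0 u hu
  have hχne : χ uu ≠ 1 := fun e => by
    have h := hH uu
    rw [e, map_one, ← map_one f2] at h
    exact hu1 (congrArg Units.val (H_injective hGK ((hf2i h).trans (map_one (H hGK)).symm)))
  obtain ⟨dd, hdd⟩ : ∃ dd, f2 (J hGK) = J hG * H hG dd := by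
    have hχinv : χ uu⁻¹ = (χ uu)⁻¹ := H_injective hG (by rw [← hH, map_inv, map_inv, hH, ← map_inv])
    have e0 := J_H_J hGK uu
    have e := congrArg f2 e0
    rw [map_mul, map_mul, hH, hH, hχinv] at e
    have hbj : f2 (J hGK) * f2 (J hGK) = 1 := by rw [← map_mul, J_mul_J, map_one]
    have hmem : J hG * f2 (J hGK) ∈ Subgroup.centralizer {H hG (χ uu)} := by
      rw [Subgroup.mem_centralizer_singleton_iff]
      have h1 : f2 (J hGK) * H hG (χ uu) = H hG (χ uu)⁻¹ * f2 (J hGK) := by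
        rw [← e, mul_assoc (f2 (J hGK) * _), hbj, mul_one]
      have h2 : J hG * H hG (χ uu)⁻¹ = H hG (χ uu) * J hG := by
        have e' := J_H_J hG (χ uu)⁻¹
        rw [inv_inv] at e'
        rw [← e', mul_assoc (J hG * _), J_mul_J, mul_one]
      rw [mul_assoc, h1, ← mul_assoc, h2, mul_assoc]
    rw [centralizer_H hG hm hF hχne] at hmem
    obtain ⟨dd, hdd⟩ := hmem
    exact ⟨dd, by rw [hdd, ← mul_assoc, J_mul_J, one_mul]⟩
  have hpt : ∀ g : Cfsg.Sz K k, f2 g • (pI : Cfsg.suzukiOvoid F m) = pI ∨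
      ∃ a b : K, f2 g • (pI : Cfsg.suzukiOvoid F m) = pP (ι a) (ι b) := fun g => by
    have hB : ∀ n : Cfsg.Sz K k, n • (pI : Cfsg.suzukiOvoid K k) = pI →
        f2 n • (pI : Cfsg.suzukiOvoid F m) = pI := fun n hn => by
      obtain ⟨a, b, e, rfl⟩ := eq_T_mul_H hGK hk hK hn
      rw [map_mul, mul_smul, hH, H_pI]
      exact U_le hG (hU _ (T_mem hGK a b))
    rcases point_cases (g • (pI : Cfsg.suzukiOvoid K k)) with h | ⟨x, w, h⟩
    · exact Or.inl (hB g h)
    · right
      have hb : (J hGK * (T hGK x w)⁻¹ * g) • (pI : Cfsg.suzukiOvoid K k) = pI := by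
        rw [mul_smul, mul_smul, h, show (T hGK x w)⁻¹ • (pP x w : Cfsg.suzukiOvoid K k) = pP 0 0 from
          inv_smul_eq_iff.mpr (by rw [T_pP]; simp), J_pP_zero]
      have e := hB _ hb
      have hg : g = T hGK x w * (J hGK * (J hGK * (T hGK x w)⁻¹ * g)) := by
        rw [← mul_assoc (J hGK), ← mul_assoc (J hGK) (J hGK), J_mul_J, one_mul, mul_inv_cancel_left]
      obtain ⟨τ, hτ⟩ := hT x w
      obtain ⟨a, b, e2⟩ : ∃ a b : K, τ = T hGK a b := by
        obtain ⟨a', b', h'⟩ := hU _ (T_mem hGK x w)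
        rw [h'] at hτ
        have hτI : τ • (pI : Cfsg.suzukiOvoid K k) = pI := by
          rcases point_cases (τ • (pI : Cfsg.suzukiOvoid K k)) with h | ⟨a, b, hab⟩
          · exact h
          exfalso
          obtain ⟨a1, b1, e1, he1⟩ := eq_T_mul_H hGK hk hK (g := J hGK * (T hGK a b)⁻¹ * τ) (by
            rw [mul_smul, mul_smul, hab, show (T hGK a b)⁻¹ • (pP a b : Cfsg.suzukiOvoid K k) = pP 0 0
              from inv_smul_eq_iff.mpr (by rw [T_pP]; simp), J_pP_zero])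
          have hτe : τ = T hGK a b * (J hGK * (T hGK a1 b1 * H hGK e1)) := by
            rw [← he1, ← mul_assoc (J hGK), ← mul_assoc (J hGK) (J hGK), J_mul_J, one_mul,
              mul_inv_cancel_left]
          rw [hτe, map_mul, map_mul, map_mul, sub_T, sub_T, sub_H, sub_J] at hτ
          have := congrArg (fun z : Cfsg.Sz F m => z • (pI : Cfsg.suzukiOvoid F m)) hτ
          simp only [mul_smul, H_pI, T_pI, J_pI, T_pP] at this
          exact pP_ne_pI _ _ this
        obtain ⟨a, b, e, rfl⟩ := eq_T_mul_H hGK hk hK hτI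
        refine ⟨a, b, ?_⟩
        rw [map_mul, sub_T, sub_H] at hτ
        have h3 := (T_H_inj hG (c' := 1) (hτ.trans (by rw [map_one, mul_one]))).2.2
        have he : e = 1 := Units.ext (ι.injective
          ((congrArg Units.val h3).trans (map_one ι).symm))
        rw [he, map_one, mul_one]
      refine ⟨a, b, ?_⟩
      rw [hg, map_mul, map_mul, ← hτ, e2, sub_T, mul_smul, mul_smul, e, hdd, mul_smul, H_pI, J_pI,
        T_pP]
      simp
  have hdι : ∃ y, ι y = (dd : F) := by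
    have h := hpt (J hGK * T hGK 0 1 * J hGK)
    rw [map_mul, map_mul, hdd, hZ, hzone] at h
    simp only [mul_smul, H_pI, J_pI, T_pP, H_pP] at h
    have hne : (dd : F) ^ (2 ^ (m + 1)) ≠ 0 := pow_ne_zero _ dd.ne_zero
    simp only [zero_pow sigma_ne_zero, zero_mul, mul_zero, zero_add, add_zero, mul_one] at h
    rw [J_pP hG hne] at h
    rcases h with h | ⟨a, b, h⟩
    · exact absurd h (pP_ne_pI _ _)
    obtain ⟨e1, -⟩ := pP_inj h
    rw [hG.sq] at e1
    refine mem_range_of_pow ι ((sAut hG).injective ?_)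
    rw [sAut_apply, sAut_apply, ← pow_mul, mul_comm, pow_mul]
    have hl : lam m (dd : F) = ι a⁻¹ := by
      rw [lam, map_inv₀, ← e1, inv_div]
    have hd : (dd : F) ^ (2 ^ (m + 1)) = ι ((a⁻¹) ^ (2 ^ (k + 1)) * a⁻¹) := by
      rw [map_mul, iota_sigma ι hσ, ← hl]
      have hpq : ((dd : F) ^ 2) ^ (2 ^ (m + 1)) = ((dd : F) ^ (2 ^ (m + 1))) ^ 2 := by
        rw [← pow_mul, ← pow_mul, mul_comm]
      rw [lam, div_pow, hpq, hG.sq (dd : F)]
      field_simp
    rw [hd, ← map_pow, FiniteField.pow_card]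
  have hJ : f2 (J hGK) ∈ (sub ι hσ hG hk hK).range := by
    obtain ⟨y, hy⟩ := hdι
    have hy0 : y ≠ 0 := fun h => dd.ne_zero (by rw [← hy, h, map_zero])
    refine ⟨J hGK * H hGK (Units.mk0 y hy0), ?_⟩
    rw [map_mul, sub_J, sub_H, hdd]
    congr 2
    exact Units.ext hy
  refine ⟨H hG d * w * g0, fun x => ?_⟩
  have hall : (sub ι hσ hG hk hK).range.comap f2 = ⊤ :=
    eq_top_of_gen hGK hk hK _ hT hHr hJ
  have hx : f2 x ∈ (sub ι hσ hG hk hK).range := (hall ▸ Subgroup.mem_top x : x ∈ _)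
  convert hx using 1
  show _ = H hG d * (w * (g0 * f x * g0⁻¹) * w⁻¹) * (H hG d)⁻¹
  simp [mul_assoc]

include hσ in
theorem conjugate (hm : 1 ≤ m) (hF : Fintype.card F = 2 ^ (2 * m + 1))
    (S : Subgroup (Cfsg.Sz F m)) (hS : Nonempty (S ≃* Cfsg.Sz K k)) :
    ∃ g : Cfsg.Sz F m, S.map (MulAut.conj g).toMonoidHom = (sub ι hσ hG hk hK).range := by
  obtain ⟨e⟩ := hS
  obtain ⟨g, hg⟩ := exists_conj_le ι hσ hG hk hK hm hF (S.subtype.comp e.symm.toMonoidHom)
    (Subtype.val_injective.comp e.symm.injective)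
  refine ⟨g, Subgroup.eq_of_le_of_card_ge ?_ (le_of_eq ?_)⟩
  · rintro _ ⟨x, hx, rfl⟩
    have := hg (e ⟨x, hx⟩)
    simpa using this
  · rw [Subgroup.card_map_of_injective (MulAut.conj g).injective, Nat.card_congr e.toEquiv,
      ← Nat.card_congr (MonoidHom.ofInjective (sub_injective ι hσ hG hk hK)).toEquiv]

end Cfsg.Agent.Suzuki
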