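import Cfsg.Agent.Suzuki.Matrix
import Cfsg.Agent.S0334
import Cfsg.Agent.S0338

/-!
The Suzuki group as the symmetry group of the ovoid: generators, stabilisers, order, simplicity, and
the identification with the twisted subgroup of `Sp₄`.
-/

set_option autoImplicit false

namespace Cfsg.Agent.Suzuki

open Matrix Cfsg.Agent.RankOne.Ovoid MulAction
open scoped Pointwise

universe u

variable {F : Type u} [Field F] [Fintype F] {m : ℕ}

theorem mem_iff {g : SpecialLinearGroup (Fin 4) F} :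
    g ∈ Cfsg.Sz F m ↔ ∀ v, OnOvoid m v → OnOvoid m ((g : Matrix (Fin 4) (Fin 4) F) *ᵥ v) := by
  have hv0 : ∀ v : Fin 4 → F, OnOvoid m v → v ≠ 0 := by
    rintro v ⟨c, hc, rfl | ⟨x, y, rfl⟩⟩
    · exact smul_ne_zero hc vInf_ne_zero
    · exact smul_ne_zero hc (vPt_ne_zero x y)
  refine ⟨fun hg v hv => ?_, fun h => ?_⟩
  · have h1 : g • Projectivization.mk F v (hv0 v hv) ∈ g • Cfsg.suzukiOvoid F m :=
      Set.smul_mem_smul_set ((mem_suzukiOvoid _).mpr hv)
    rw [show g • Cfsg.suzukiOvoid F m = Cfsg.suzukiOvoid F m from hg] at h1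
    exact (mem_suzukiOvoid (v := (g : Matrix (Fin 4) (Fin 4) F).mulVec v) _).mp h1
  · show g • Cfsg.suzukiOvoid F m = Cfsg.suzukiOvoid F m
    refine Set.eq_of_subset_of_ncard_le ?_ ?_ (Set.toFinite _)
    · rintro _ ⟨p, hp, rfl⟩
      induction p using Projectivization.ind with
      | h v hv => exact (mem_suzukiOvoid _).mpr (h v ((mem_suzukiOvoid hv).mp hp))
    · exact (Set.ncard_smul_set g _).ge

/-- The translation as a group element. -/
def T (hG : Good F m) (a b : F) : Cfsg.Sz F m :=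
  ⟨⟨translMat m a b, det_translMat a b⟩, mem_iff.mpr fun v hv => by
    show OnOvoid m (translMat m a b *ᵥ v)
    rw [translMat_mulVec]
    exact transl_onOvoid hG a b hv⟩

/-- The inversion as a group element. -/
def J (hG : Good F m) : Cfsg.Sz F m :=
  ⟨⟨revMat F, det_revMat⟩, mem_iff.mpr fun v hv => by
    show OnOvoid m (revMat F *ᵥ v)
    rw [revMat_mulVec]
    exact inver_onOvoid hG hv⟩

/-- The multiplier of a torus element on the first coordinate. -/
def lam (m : ℕ) (a : F) : F := a ^ 2 / a ^ (2 ^ (m + 1))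

omit [Fintype F] in
theorem torMat_vPt (hG : Good F m) {a : F} (ha : a ≠ 0) (x y : F) :
    torMat m a *ᵥ vPt m x y = a⁻¹ • vPt m (lam m a * x) (a ^ (2 ^ (m + 1)) * y) := by
  have he := hG.sq a
  have hne : a ^ (2 ^ (m + 1)) ≠ 0 := pow_ne_zero _ ha
  funext i
  rw [torMat, Matrix.mulVec_diagonal]
  fin_cases i <;>
    simp [torVec, vPt, lam, mul_pow, div_pow, pow_add _ (2 ^ (m + 1)) 2, he, ← pow_mul,
      mul_comm 2 (2 ^ (m + 1))]
  · rw [pow_mul]
    field_simp
  all_goals field_simp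

omit [Fintype F] in
theorem torMat_vInf (a : F) : torMat m a *ᵥ vInf F = a • vInf F := by
  funext i
  rw [torMat, Matrix.mulVec_diagonal]
  fin_cases i <;> simp [torVec, vInf]

/-- The torus. -/
def H (hG : Good F m) : Fˣ →* Cfsg.Sz F m where
  toFun a := ⟨⟨torMat m (a : F), det_torMat a.ne_zero⟩, mem_iff.mpr fun v hv => by
    show OnOvoid m (torMat m (a : F) *ᵥ v)
    obtain ⟨c, hc, rfl | ⟨x, y, rfl⟩⟩ := hv
    · rw [Matrix.mulVec_smul, torMat_vInf, smul_smul]
      exact onOvoid_smul onOvoid_inf (mul_ne_zero hc a.ne_zero)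
    · rw [Matrix.mulVec_smul, torMat_vPt hG a.ne_zero, smul_smul]
      exact onOvoid_smul (onOvoid_pt _ _) (mul_ne_zero hc (inv_ne_zero a.ne_zero))⟩
  map_one' := Subtype.ext (Subtype.ext (by
    show torMat m ((1 : Fˣ) : F) = 1
    rw [torMat, ← Matrix.diagonal_one]
    congr 1
    funext i
    fin_cases i <;> simp [torVec]))
  map_mul' a b := Subtype.ext (Subtype.ext (by
    show torMat m ((a * b : Fˣ) : F) = torMat m (a : F) * torMat m (b : F)
    rw [torMat, torMat, torMat, Matrix.diagonal_mul_diagonal]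
    congr 1
    funext i
    fin_cases i <;> simp [torVec, mul_pow] <;> field_simp))

variable (hG : Good F m)

theorem coe_T (a b : F) :
    ((T hG a b : SpecialLinearGroup (Fin 4) F) : Matrix (Fin 4) (Fin 4) F) = translMat m a b := rfl

theorem coe_J : ((J hG : SpecialLinearGroup (Fin 4) F) : Matrix (Fin 4) (Fin 4) F) = revMat F := rfl

theorem coe_H (a : Fˣ) :
    ((H hG a : SpecialLinearGroup (Fin 4) F) : Matrix (Fin 4) (Fin 4) F) = torMat m (a : F) := rfl

theorem T_mul (a b c d : F) :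
    T hG a b * T hG c d = T hG (a + c) (b + d + a ^ (2 ^ (m + 1)) * c) := by
  refine Subtype.ext (Subtype.ext ?_)
  show translMat m a b * translMat m c d = _
  refine Matrix.ext_of_mulVec_single fun i => ?_
  rw [← Matrix.mulVec_mulVec, coe_T, translMat_mulVec, translMat_mulVec, translMat_mulVec]
  have h2 := hG.two
  have hm' : (a ^ (2 ^ (m + 1)) * c) ^ (2 ^ (m + 1)) = a ^ 2 * c ^ (2 ^ (m + 1)) := by
    rw [mul_pow, hG.sq]
  generalize (Pi.single i 1 : Fin 4 → F) = v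
  funext k
  fin_cases k <;>
    simp [transl, vPt, pow_add _ (2 ^ (m + 1)) 2, hG.add, hm'] <;> grind

theorem T_zero : T hG 0 0 = 1 := mul_eq_left.mp ((T_mul hG 0 0 0 0).trans (by simp))

theorem T_inv (a b : F) : (T hG a b)⁻¹ = T hG a (b + a ^ (2 ^ (m + 1)) * a) := by
  refine inv_eq_of_mul_eq_one_right ?_
  rw [T_mul, ← T_zero hG]
  have h2 := hG.two
  congr 1 <;> grind

theorem J_mul_J : J hG * J hG = 1 := Subtype.ext (Subtype.ext (by
  show revMat F * revMat F = 1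
  rw [revMat_eq_J4, PrimeGraph.J4_mul_self]))

theorem J_H_J (a : Fˣ) : J hG * H hG a * J hG = H hG a⁻¹ := by
  refine Subtype.ext (Subtype.ext ?_)
  show revMat F * torMat m (a : F) * revMat F = torMat m ((a⁻¹ : Fˣ) : F)
  refine Matrix.ext_of_mulVec_single fun i => ?_
  rw [← Matrix.mulVec_mulVec, ← Matrix.mulVec_mulVec, revMat_mulVec, revMat_mulVec]
  generalize (Pi.single i 1 : Fin 4 → F) = v
  funext k
  fin_cases k <;> simp [torMat, Matrix.mulVec_diagonal, inver, torVec, inv_pow] <;> field_simp <;>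
    tauto

/-- The point at infinity. -/
def pI : Cfsg.suzukiOvoid F m :=
  ⟨Projectivization.mk F (vInf F) vInf_ne_zero, (mem_suzukiOvoid _).mpr onOvoid_inf⟩

/-- The finite points. -/
def pP (x y : F) : Cfsg.suzukiOvoid F m :=
  ⟨Projectivization.mk F (vPt m x y) (vPt_ne_zero x y), (mem_suzukiOvoid _).mpr (onOvoid_pt x y)⟩

theorem point_cases (p : Cfsg.suzukiOvoid F m) : p = pI ∨ ∃ x y, p = pP x y := by
  obtain ⟨_, v, hv, rfl, rfl | ⟨x, y, rfl⟩⟩ := p
  · exact Or.inl rfl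
  · exact Or.inr ⟨x, y, rfl⟩

omit [Fintype F] in
theorem pP_ne_pI (x y : F) : (pP x y : Cfsg.suzukiOvoid F m) ≠ pI := fun h => by
  obtain ⟨a, ha⟩ := (Projectivization.mk_eq_mk_iff' F _ _ _ _).mp (congrArg Subtype.val h)
  have h3 : a * 0 = 1 := congrFun ha 3
  rw [mul_zero] at h3
  exact zero_ne_one h3

omit [Fintype F] in
theorem pP_inj {x y x' y' : F} (h : (pP x y : Cfsg.suzukiOvoid F m) = pP x' y') :
    x = x' ∧ y = y' := by
  obtain ⟨a, ha⟩ := (Projectivization.mk_eq_mk_iff' F _ _ _ _).mp (congrArg Subtype.val h)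
  have h3 : a * 1 = 1 := congrFun ha 3
  rw [mul_one] at h3
  rw [h3, one_smul] at ha
  exact ⟨(congrFun ha 2).symm, (congrFun ha 1).symm⟩

theorem smul_eq_of_mulVec (g : Cfsg.Sz F m) {v w : Fin 4 → F} (hv : v ≠ 0) (hw : w ≠ 0) {hp hq} {c : F}
    (h : ((g : SpecialLinearGroup (Fin 4) F) : Matrix (Fin 4) (Fin 4) F) *ᵥ v = c • w) :
    g • (⟨Projectivization.mk F v hv, hp⟩ : Cfsg.suzukiOvoid F m) =
      ⟨Projectivization.mk F w hw, hq⟩ := by
  refine Subtype.ext ?_
  show (g : SpecialLinearGroup (Fin 4) F) • Projectivization.mk F v hv = _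
  exact (Projectivization.mk_eq_mk_iff' F _ _ _ hw).mpr ⟨c, h.symm⟩

theorem T_pI (a b : F) : T hG a b • (pI : Cfsg.suzukiOvoid F m) = pI :=
  smul_eq_of_mulVec _ _ _ (c := 1) (by rw [coe_T, translMat_mulVec, transl_inf, one_smul])

theorem T_pP (a b x y : F) :
    T hG a b • (pP x y : Cfsg.suzukiOvoid F m) = pP (x + a) (y + a ^ (2 ^ (m + 1)) * x + b) :=
  smul_eq_of_mulVec _ _ _ (c := 1) (by rw [coe_T, translMat_mulVec, transl_pt hG, one_smul])

theorem J_pI : J hG • (pI : Cfsg.suzukiOvoid F m) = pP 0 0 :=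
  smul_eq_of_mulVec _ _ _ (c := 1) (by rw [coe_J, revMat_mulVec, inver_inf (m := m), one_smul])

theorem J_pP_zero : J hG • (pP 0 0 : Cfsg.suzukiOvoid F m) = pI :=
  smul_eq_of_mulVec _ _ _ (c := 1) (by rw [coe_J, revMat_mulVec, inver_zero, one_smul])

theorem H_pI (a : Fˣ) : H hG a • (pI : Cfsg.suzukiOvoid F m) = pI :=
  smul_eq_of_mulVec _ _ _ (c := (a : F)) (by rw [coe_H, torMat_vInf])

theorem H_pP (a : Fˣ) (x y : F) :
    H hG a • (pP x y : Cfsg.suzukiOvoid F m) = pP (lam m (a : F) * x) ((a : F) ^ (2 ^ (m + 1)) * y) :=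
  smul_eq_of_mulVec _ _ _ (c := (a : F)⁻¹) (by rw [coe_H, torMat_vPt hG a.ne_zero])

theorem H_pP_zero (a : Fˣ) : H hG a • (pP 0 0 : Cfsg.suzukiOvoid F m) = pP 0 0 := by
  rw [H_pP]; simp

omit [Fintype F] in
theorem lam_eq_one (hG : Good F m) {a : Fˣ} (h : lam m (a : F) = 1) : a = 1 := by
  rw [lam, div_eq_one_iff_eq (pow_ne_zero _ a.ne_zero)] at h
  have h1 := congrArg (fun z : F => z ^ (2 ^ (m + 1))) h
  simp only [hG.sq] at h1
  rw [← pow_mul, mul_comm, pow_mul] at h1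
  have h2 : ((a : F) ^ (2 ^ (m + 1)) - a) ^ 2 = 0 := by
    have := hG.two
    grind
  rcases sigma_fix hG (sub_eq_zero.mp (eq_zero_of_pow_eq_zero h2)) with h3 | h3
  · exact absurd h3 a.ne_zero
  · exact Units.ext h3

omit [Fintype F] in
theorem sigma_eq_one (hG : Good F m) {a : Fˣ} (h : (a : F) ^ (2 ^ (m + 1)) = 1) : a = 1 :=
  Units.ext (sigma_inj hG (by rw [h, Units.val_one, one_pow]))

theorem H_injective : Function.Injective (H hG) := fun a b h =>
  Units.ext (congrFun (congrFun (congrArg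
    (fun g : Cfsg.Sz F m => ((g : SpecialLinearGroup (Fin 4) F) : Matrix (Fin 4) (Fin 4) F)) h) 0) 0)

theorem H_fix (a : Fˣ) {x y : F} (h : H hG a • (pP x y : Cfsg.suzukiOvoid F m) = pP x y)
    (hxy : x ≠ 0 ∨ y ≠ 0) : a = 1 := by
  rw [H_pP] at h
  obtain ⟨h1, h2⟩ := pP_inj h
  rcases hxy with hx | hy
  · exact lam_eq_one hG ((mul_eq_right₀ hx).mp h1)
  · exact sigma_eq_one hG ((mul_eq_right₀ hy).mp h2)

theorem T_inj {a b c d : F} (h : T hG a b = T hG c d) : a = c ∧ b = d := by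
  have := congrArg (fun g => g • (pP 0 0 : Cfsg.suzukiOvoid F m)) h
  simp only [T_pP] at this
  simpa using pP_inj this

include hG in
theorem pretransitive_two : IsMultiplyPretransitive (Cfsg.Sz F m) (Cfsg.suzukiOvoid F m) 2 := by
  have hone : ∀ p : Cfsg.suzukiOvoid F m, ∃ g : Cfsg.Sz F m, g • p = pI := by
    intro p
    rcases point_cases p with rfl | ⟨x, y, rfl⟩
    · exact ⟨1, one_smul _ _⟩
    · refine ⟨J hG * T hG x (y + x ^ (2 ^ (m + 1)) * x), ?_⟩
      have h2 := hG.two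
      rw [mul_smul, T_pP, show x + x = 0 by grind,
        show y + x ^ (2 ^ (m + 1)) * x + (y + x ^ (2 ^ (m + 1)) * x) = 0 by grind, J_pP_zero]
  have htwo : ∀ p p' : Cfsg.suzukiOvoid F m, p ≠ p' →
      ∃ g : Cfsg.Sz F m, g • p = pI ∧ g • p' = pP 0 0 := by
    intro p p' hne
    obtain ⟨g, hg⟩ := hone p
    rcases point_cases (g • p') with h | ⟨x, y, h⟩
    · exact absurd (MulAction.injective g (hg.trans h.symm)) hne
    · refine ⟨T hG x (y + x ^ (2 ^ (m + 1)) * x) * g, by rw [mul_smul, hg, T_pI], ?_⟩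
      have h2 := hG.two
      rw [mul_smul, h, T_pP]
      congr 1 <;> grind
  rw [is_two_pretransitive_iff]
  intro p p' r r' hp hr
  obtain ⟨g, hg, hg'⟩ := htwo p p' hp
  obtain ⟨k, hk, hk'⟩ := htwo r r' hr
  exact ⟨k⁻¹ * g, by rw [mul_smul, hg, inv_smul_eq_iff, hk],
    by rw [mul_smul, hg', inv_smul_eq_iff, hk']⟩

include hG in
theorem pretransitive : IsPretransitive (Cfsg.Sz F m) (Cfsg.suzukiOvoid F m) :=
  haveI := pretransitive_two hG
  isPretransitive_of_is_two_pretransitive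

theorem symp (hm : 1 ≤ m) (hF : Fintype.card F = 2 ^ (2 * m + 1)) (g : Cfsg.Sz F m) :
    PrimeGraph.IsSymp ((g : SpecialLinearGroup (Fin 4) F) : Matrix (Fin 4) (Fin 4) F) :=
  S0334.result hm hF g.2

theorem eq_H_of_fix (hm : 1 ≤ m) (hF : Fintype.card F = 2 ^ (2 * m + 1)) {g : Cfsg.Sz F m}
    (hI : g • (pI : Cfsg.suzukiOvoid F m) = pI) (h0 : g • (pP 0 0 : Cfsg.suzukiOvoid F m) = pP 0 0) :
    ∃ a : Fˣ, g = H hG a := by
  set M := ((g : SpecialLinearGroup (Fin 4) F) : Matrix (Fin 4) (Fin 4) F)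
  have hs : PrimeGraph.IsSymp M := symp hm hF g
  obtain ⟨α, hα⟩ : ∃ α : F, α • vInf F = M *ᵥ vInf F :=
    (Projectivization.mk_eq_mk_iff' F _ _ _ _).mp (congrArg Subtype.val hI)
  obtain ⟨δ, hδ⟩ : ∃ δ : F, δ • vPt m (0 : F) 0 = M *ᵥ vPt m 0 0 :=
    (Projectivization.mk_eq_mk_iff' F _ _ _ _).mp (congrArg Subtype.val h0)
  have hM : M *ᵥ vInf F = fun k => M k 0 := by
    funext k; simp [vInf, Matrix.mulVec, dotProduct, Fin.sum_univ_four]
  have hM3 : M *ᵥ vPt m (0 : F) 0 = fun k => M k 3 := by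
    funext k; simp [vPt_zero_zero, Matrix.mulVec, dotProduct, Fin.sum_univ_four]
  rw [hM] at hα
  rw [hM3] at hδ
  have c00 : M 0 0 = α := by simpa [vInf] using (congrFun hα 0).symm
  have c10 : M 1 0 = 0 := by simpa [vInf] using (congrFun hα 1).symm
  have c20 : M 2 0 = 0 := by simpa [vInf] using (congrFun hα 2).symm
  have c30 : M 3 0 = 0 := by simpa [vInf] using (congrFun hα 3).symm
  have c03 : M 0 3 = 0 := by simpa [vPt] using (congrFun hδ 0).symm
  have c13 : M 1 3 = 0 := by simpa [vPt] using (congrFun hδ 1).symm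
  have c23 : M 2 3 = 0 := by simpa [vPt] using (congrFun hδ 2).symm
  have c33 : M 3 3 = δ := by simpa [vPt] using (congrFun hδ 3).symm
  have hαδ : α * δ = 1 := by
    simpa [Lie.altForm4, PrimeGraph.J4, c00, c10, c20, c30, c33] using hs.cols 0 3
  have hα0 : α ≠ 0 := left_ne_zero_of_mul_eq_one hαδ
  have hδ0 : δ ≠ 0 := right_ne_zero_of_mul_eq_one hαδ
  have c31 : M 3 1 = 0 := by
    simpa [Lie.altForm4, PrimeGraph.J4, c00, c10, c20, c30, hα0] using hs.cols 0 1
  have c32 : M 3 2 = 0 := by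
    simpa [Lie.altForm4, PrimeGraph.J4, c00, c10, c20, c30, hα0] using hs.cols 0 2
  have c01 : M 0 1 = 0 := by
    simpa [Lie.altForm4, PrimeGraph.J4, c03, c13, c23, c33, hδ0] using hs.cols 3 1
  have c02 : M 0 2 = 0 := by
    simpa [Lie.altForm4, PrimeGraph.J4, c03, c13, c23, c33, hδ0] using hs.cols 3 2
  obtain ⟨e11, e12, e21, e22⟩ := diag_of_fix hm hF (P := M 1 1) (Q := M 1 2) (R := M 2 1)
    (S := M 2 2) hαδ fun x y => by
      have h := mem_iff.mp g.2 _ (onOvoid_pt (m := m) x y)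
      convert h using 1
      funext k
      fin_cases k <;>
        simp [vPt, Matrix.mulVec, dotProduct, Fin.sum_univ_four, M, c00, c10, c20, c30, c03, c13, c23,
          c33, c31, c32, c01, c02]
  refine ⟨Units.mk0 α hα0, Subtype.ext (Subtype.ext ?_)⟩
  show M = torMat m α
  have hδ' : δ = α⁻¹ := eq_inv_of_mul_eq_one_right hαδ
  ext i j
  fin_cases i <;> fin_cases j <;>
    simp [torMat, torVec, c00, c10, c20, c30, c03, c13, c23, c33, c31, c32, c01, c02, e11, e12, e21,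
      e22, hδ']

theorem eq_T_mul_H (hm : 1 ≤ m) (hF : Fintype.card F = 2 ^ (2 * m + 1)) {g : Cfsg.Sz F m}
    (hI : g • (pI : Cfsg.suzukiOvoid F m) = pI) :
    ∃ (a b : F) (c : Fˣ), g = T hG a b * H hG c := by
  rcases point_cases (g • (pP 0 0 : Cfsg.suzukiOvoid F m)) with h | ⟨x, y, h⟩
  · exact absurd (MulAction.injective g (h.trans hI.symm)) (pP_ne_pI 0 0)
  · obtain ⟨c, hc⟩ := eq_H_of_fix hG hm hF (g := (T hG x y)⁻¹ * g)
      (by rw [mul_smul, hI, inv_smul_eq_iff, T_pI])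
      (by rw [mul_smul, h, inv_smul_eq_iff, T_pP]; simp)
    exact ⟨x, y, c, by rw [← hc, mul_inv_cancel_left]⟩

theorem T_H_inj {a b a' b' : F} {c c' : Fˣ}
    (h : T hG a b * H hG c = T hG a' b' * H hG c') : a = a' ∧ b = b' ∧ c = c' := by
  have h' := congrArg (fun g => g • (pP 0 0 : Cfsg.suzukiOvoid F m)) h
  simp only [mul_smul, H_pP_zero, T_pP] at h'
  obtain ⟨e1, e2⟩ := pP_inj h'
  simp only [zero_add, mul_zero] at e1 e2
  subst e1
  obtain rfl : b = b' := by simpa using e2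
  exact ⟨by simp, rfl, H_injective hG (mul_left_cancel h)⟩

theorem card_stabilizer (hm : 1 ≤ m) (hF : Fintype.card F = 2 ^ (2 * m + 1)) :
    Nat.card (stabilizer (Cfsg.Sz F m) (pI : Cfsg.suzukiOvoid F m)) =
      Nat.card F ^ 2 * (Nat.card F - 1) := by
  classical
  have hG := good_of_card (m := m) hF
  let φ : (F × F) × Fˣ → stabilizer (Cfsg.Sz F m) (pI : Cfsg.suzukiOvoid F m) := fun p =>
    ⟨T hG p.1.1 p.1.2 * H hG p.2, by rw [mem_stabilizer_iff, mul_smul, H_pI, T_pI]⟩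
  have hb : Function.Bijective φ := by
    refine ⟨fun p p' h => ?_, fun g => ?_⟩
    · obtain ⟨e1, e2, e3⟩ := T_H_inj hG (congrArg Subtype.val h)
      exact Prod.ext (Prod.ext e1 e2) e3
    · obtain ⟨a, b, c, h⟩ := eq_T_mul_H hG hm hF g.2
      exact ⟨((a, b), c), Subtype.ext h.symm⟩
  rw [← Nat.card_eq_of_bijective φ hb, Nat.card_prod, Nat.card_prod, Nat.card_units, pow_two]

theorem card_eq (hm : 1 ≤ m) (hF : Fintype.card F = 2 ^ (2 * m + 1)) :
    Nat.card (Cfsg.Sz F m) = Nat.card F ^ 2 * (Nat.card F - 1) * (Nat.card F ^ 2 + 1) := by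
  have := pretransitive (good_of_card (m := m) hF)
  rw [← card_stabilizer hm hF, ← Subgroup.card_mul_index (stabilizer (Cfsg.Sz F m)
    (pI : Cfsg.suzukiOvoid F m)), MulAction.index_stabilizer_of_transitive, card_ovoid,
    Nat.card_eq_fintype_card (α := F)]

theorem two_lt_card (hm : 1 ≤ m) (hF : Fintype.card F = 2 ^ (2 * m + 1)) : 7 < Fintype.card F := by
  rw [hF]
  calc 7 < 2 ^ 3 := by norm_num
    _ ≤ 2 ^ (2 * m + 1) := Nat.pow_le_pow_right (by norm_num) (by omega)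

theorem odd_points (hF : Fintype.card F = 2 ^ (2 * m + 1)) :
    Odd (Nat.card (Cfsg.suzukiOvoid F m)) := by
  rw [card_ovoid, hF]
  exact ⟨2 ^ (4 * m + 1), by ring⟩

theorem isThreeFree (hm : 1 ≤ m) (hF : Fintype.card F = 2 ^ (2 * m + 1)) :
    RankOne.IsThreeFree (Cfsg.Sz F m) (Cfsg.suzukiOvoid F m) := by
  have hG := good_of_card (m := m) hF
  have h2t := pretransitive_two hG
  refine ⟨⟨fun {g h} e => ?_⟩, h2t, ?_, ?_⟩
  · have hfix : ∀ p : Cfsg.suzukiOvoid F m, (h⁻¹ * g) • p = p := fun p => by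
      rw [mul_smul, e p, inv_smul_smul]
    obtain ⟨a, ha⟩ := eq_H_of_fix hG hm hF (hfix pI) (hfix (pP 0 0))
    have ha1 := H_fix hG a (x := 1) (y := 0) (ha ▸ hfix _) (Or.inl one_ne_zero)
    rw [ha1, map_one] at ha
    exact (inv_mul_eq_one.mp ha).symm
  · intro g a b c hab hbc hac ha hb hc
    obtain ⟨k, hka, hkb⟩ := (is_two_pretransitive_iff.mp h2t) hab
      (pP_ne_pI (m := m) (0 : F) 0).symm
    have hc' : (k * g * k⁻¹) • (k • c) = k • c := by
      rw [mul_smul, mul_smul, inv_smul_smul, hc]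
    obtain ⟨u, hu⟩ := eq_H_of_fix hG hm hF (g := k * g * k⁻¹)
      (by rw [← hka, mul_smul, mul_smul, inv_smul_smul, ha])
      (by rw [← hkb, mul_smul, mul_smul, inv_smul_smul, hb])
    rcases point_cases (k • c) with h | ⟨x, y, h⟩
    · exact absurd (MulAction.injective k (hka.trans h.symm)) hac
    · rw [h, hu] at hc'
      have hxy : x ≠ 0 ∨ y ≠ 0 := by
        by_contra hh
        push Not at hh
        rw [hh.1, hh.2] at h
        exact hbc (MulAction.injective k (hkb.trans h.symm))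
      rw [H_fix hG u hc' hxy, map_one] at hu
      simpa [mul_inv_eq_one, mul_eq_left] using hu
  · obtain ⟨a, ha⟩ : ∃ a : Fˣ, a ≠ 1 := by
      have : Nontrivial Fˣ := by
        rw [← Finite.one_lt_card_iff_nontrivial, Nat.card_units, Nat.card_eq_fintype_card]
        have := two_lt_card hm hF
        omega
      exact exists_ne 1
    exact ⟨H hG a, fun e => ha (H_injective hG (e.trans (map_one _).symm)), pI, pP 0 0,
      (pP_ne_pI 0 0).symm, H_pI hG a, H_pP_zero hG a⟩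

theorem zassenhaus (hm : 1 ≤ m) (hF : Fintype.card F = 2 ^ (2 * m + 1)) :
    Cfsg.IsZassenhausGroup (Cfsg.Sz F m) (Cfsg.suzukiOvoid F m) := by
  classical
  have hT := isThreeFree hm hF
  refine ⟨hT.faithful, hT.two_transitive, hT.three, hT.two, fun N hN hNt => ?_⟩
  by_contra hcon
  push Not at hcon
  have hexp := hT.regular_exponent_two hNt hcon
  obtain ⟨p⟩ : Nonempty (Cfsg.suzukiOvoid F m) := ⟨pI⟩
  have hcard : Nat.card N = Nat.card (Cfsg.suzukiOvoid F m) := by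
    rw [← MulAction.index_stabilizer_of_transitive N p, hcon p, Subgroup.index_bot]
  have hodd := odd_points (m := m) hF
  have hbot : Nat.card N = 1 := by
    refine Subgroup.card_eq_one.mpr (eq_bot_iff.mpr fun x hx => (Subgroup.mem_bot).mpr ?_)
    have h1 : orderOf (⟨x, hx⟩ : N) ∣ 2 := orderOf_dvd_of_pow_eq_one
      (Subtype.ext (by show x ^ 2 = 1; rw [pow_two]; exact hexp x hx))
    have h2 := orderOf_dvd_natCard (⟨x, hx⟩ : N)
    rcases (Nat.dvd_prime Nat.prime_two).mp h1 with h3 | h3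
    · exact congrArg Subtype.val (orderOf_eq_one_iff.mp h3)
    · rw [h3, hcard] at h2
      exact absurd (even_iff_two_dvd.mpr h2) (Nat.not_even_iff_odd.mpr hodd)
  rw [hcard, card_ovoid] at hbot
  have := two_lt_card hm hF
  nlinarith

theorem isSimple (hm : 1 ≤ m) (hF : Fintype.card F = 2 ^ (2 * m + 1)) :
    IsSimpleGroup (Cfsg.Sz F m) := by
  have : Fintype (Cfsg.suzukiOvoid F m) := Fintype.ofFinite _
  refine S0338.result (zassenhaus hm hF) ?_
  rw [← Nat.card_eq_fintype_card]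
  exact odd_points hF

/-- The translations, torus and inversion generate. -/
theorem eq_top_of_gen (hm : 1 ≤ m) (hF : Fintype.card F = 2 ^ (2 * m + 1))
    (K : Subgroup (Cfsg.Sz F m)) (hT : ∀ a b, T hG a b ∈ K) (hH : ∀ a, H hG a ∈ K)
    (hJ : J hG ∈ K) : K = ⊤ := by
  rw [Subgroup.eq_top_iff']
  intro g
  rcases point_cases (g • (pI : Cfsg.suzukiOvoid F m)) with h | ⟨x, y, h⟩
  · obtain ⟨a, b, c, rfl⟩ := eq_T_mul_H hG hm hF h
    exact K.mul_mem (hT _ _) (hH _)
  · obtain ⟨a, b, c, hc⟩ := eq_T_mul_H hG hm hF (g := J hG * (T hG x y)⁻¹ * g) (by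
      rw [mul_smul, mul_smul, h, show (T hG x y)⁻¹ • (pP x y : Cfsg.suzukiOvoid F m) = pP 0 0 from
        inv_smul_eq_iff.mpr (by rw [T_pP]; simp), J_pP_zero])
    have : J hG * (T hG x y)⁻¹ * g ∈ K := hc ▸ K.mul_mem (hT _ _) (hH _)
    exact (K.mul_mem_cancel_left (K.mul_mem hJ (K.inv_mem (hT _ _)))).mp this

theorem toGL_mem [CharP F 2] {M : GL (Fin 4) F} (hs : PrimeGraph.IsSymp (M : Matrix (Fin 4) (Fin 4) F))
    (hst : Lie.star4 (M : Matrix (Fin 4) (Fin 4) F) =
      (M : Matrix (Fin 4) (Fin 4) F).map fun x => x ^ (2 ^ (m + 1))) :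
    M ∈ Lie.Sz F (2 ^ (m + 1)) :=
  Subgroup.subset_closure ⟨PrimeGraph.mem_Sp4_iff.mpr hs, hst⟩

theorem map_toGL (hm : 1 ≤ m) (hF : Fintype.card F = 2 ^ (2 * m + 1)) :
    (Cfsg.Sz F m).map Matrix.SpecialLinearGroup.toGL = Lie.Sz F (2 ^ (m + 1)) := by
  have : Fact (Nat.Prime 2) := ⟨Nat.prime_two⟩
  have : CharP F 2 := charP_of_card_eq_prime_pow hF
  have hG := good_of_card (m := m) hF
  refine le_antisymm ?_ ?_
  · let K : Subgroup (Cfsg.Sz F m) :=
      (Lie.Sz F (2 ^ (m + 1))).comap (Matrix.SpecialLinearGroup.toGL.comp (Cfsg.Sz F m).subtype)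
    have hK : K = ⊤ := eq_top_of_gen hG hm hF K
      (fun a b => toGL_mem (translMat_symp hG a b) (translMat_star hG a b))
      (fun a => toGL_mem (torMat_symp a.ne_zero) (torMat_star hG a.ne_zero))
      (toGL_mem revMat_symp (revMat_star hG))
    rintro _ ⟨g, hg, rfl⟩
    exact (hK ▸ Subgroup.mem_top (⟨g, hg⟩ : Cfsg.Sz F m) : (⟨g, hg⟩ : Cfsg.Sz F m) ∈ K)
  · rw [Lie.Sz, Subgroup.closure_le]
    rintro M ⟨hsp, hst⟩
    have hs := PrimeGraph.mem_Sp4_iff.mp hsp
    have hdet : (M : Matrix (Fin 4) (Fin 4) F).det = 1 := by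
      have hd := congrArg Matrix.det hs
      rw [Matrix.det_mul, Matrix.det_mul, Matrix.det_transpose, ← revMat_eq_J4, det_revMat, mul_one,
        ← pow_two] at hd
      exact CharTwo.sq_inj.mp (hd.trans (one_pow 2).symm)
    refine ⟨⟨(M : Matrix (Fin 4) (Fin 4) F), hdet⟩, mem_iff.mpr fun v hv => ?_, Units.ext rfl⟩
    refine onOvoid_of_polar hG ?_ (polar_image hG hs hst (polar_of_onOvoid hG hv))
    obtain ⟨c, hc, h | ⟨x, y, h⟩⟩ := hv
    all_goals
      intro h0
      have h1 := congrArg (fun w => ((M⁻¹ : GL (Fin 4) F) : Matrix (Fin 4) (Fin 4) F) *ᵥ w) h0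
      simp only [Matrix.mulVec_mulVec, Matrix.mulVec_zero] at h1
      rw [Units.inv_mul, Matrix.one_mulVec, h] at h1
    · exact smul_ne_zero hc vInf_ne_zero h1
    · exact smul_ne_zero hc (vPt_ne_zero x y) h1

/-- The ovoid model is isomorphic to the twisted model. -/
theorem nonempty_equiv (hm : 1 ≤ m) (hF : Fintype.card F = 2 ^ (2 * m + 1)) :
    Nonempty (Cfsg.Sz F m ≃* Lie.Sz F (2 ^ (m + 1))) :=
  ⟨((Cfsg.Sz F m).equivMapOfInjective _ Matrix.SpecialLinearGroup.toGL_injective).trans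
    (MulEquiv.subgroupCongr (map_toGL hm hF))⟩

end Cfsg.Agent.Suzuki
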