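import Cfsg.Agent.Suzuki.Tori2

/-!
Consequences of the torus structure of the Suzuki group: centralisers, odd Sylow subgroups, the
partition.
-/

set_option autoImplicit false

namespace Cfsg.Agent.Suzuki

open Matrix Cfsg.Agent.RankOne.Ovoid MulAction
open scoped Pointwise

universe u

variable {F : Type u} [Field F] [Fintype F] {m : ℕ} (hm : 1 ≤ m)
  (hF : Fintype.card F = 2 ^ (2 * m + 1))

include hm hF

omit hm in
theorem mem_centralizer_conj {g k z : Cfsg.Sz F m} (hz : z ∈ Subgroup.centralizer {g}) :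
    k * z * k⁻¹ ∈ Subgroup.centralizer {k * g * k⁻¹} := by
  rw [centralizer_conj]
  exact ⟨z, hz, rfl⟩

theorem centralizer_of_conj_U {g k : Cfsg.Sz F m} (hg : g ≠ 1)
    (hk : k * g * k⁻¹ ∈ U (good_of_card (m := m) hF)) :
    IsPGroup 2 (Subgroup.centralizer {g}) := by
  have hne : k * g * k⁻¹ ≠ 1 := fun e => hg (by simpa [mul_inv_eq_one, mul_eq_left] using e)
  have h : (Subgroup.centralizer {g}).map (MulAut.conj k).toMonoidHom ≤
      U (good_of_card (m := m) hF) := by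
    rw [← centralizer_conj]
    exact centralizer_le_U _ hm hF hk hne
  exact ((U_isPGroup (good_of_card (m := m) hF) hF).to_le h).of_equiv
    ((Subgroup.centralizer {g}).equivMapOfInjective _ (MulAut.conj k).injective).symm

theorem centralizer_of_conj_H {g k : Cfsg.Sz F m} {c : Fˣ} (hc : c ≠ 1)
    (hk : k * g * k⁻¹ = H (good_of_card (m := m) hF) c) :
    IsCyclic (Subgroup.centralizer {g}) ∧
      Nat.card (Subgroup.centralizer {g}) = Nat.card F - 1 := by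
  have h : (Subgroup.centralizer {g}).map (MulAut.conj k).toMonoidHom =
      (H (good_of_card (m := m) hF)).range := by
    rw [← centralizer_conj, hk]
    exact centralizer_H _ hm hF hc
  let e := (Subgroup.centralizer {g}).equivMapOfInjective (MulAut.conj k).toMonoidHom
    (MulAut.conj k).injective
  refine ⟨?_, ?_⟩
  · have := isCyclic_range_H (good_of_card (m := m) hF)
    rw [e.isCyclic]
    rw [show ((Subgroup.centralizer {g}).map (MulAut.conj k).toMonoidHom) = _ from h]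
    infer_instance
  · rw [Nat.card_congr e.toEquiv, h, card_range_H]

theorem isCNGroup : Cfsg.IsCNGroup (Cfsg.Sz F m) := by
  intro g hg
  rcases elt_cases hm hF g with h | ⟨k, hk⟩ | ⟨k, c, hc, hk⟩
  · have := centralizer_isCyclic hm hF h
    letI := IsCyclic.commGroup (α := Subgroup.centralizer {g})
    exact CommGroup.isNilpotent
  · have : Fact (Nat.Prime 2) := ⟨Nat.prime_two⟩
    exact (centralizer_of_conj_U hm hF hg hk).isNilpotent
  · have := (centralizer_of_conj_H hm hF hc hk).1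
    letI := IsCyclic.commGroup (α := Subgroup.centralizer {g})
    exact CommGroup.isNilpotent

theorem sylow_odd_isCyclic {p : ℕ} [Fact p.Prime] (hp : p ≠ 2) (P : Sylow p (Cfsg.Sz F m)) :
    IsCyclic P := by
  have hG := good_of_card (m := m) hF
  by_cases hd : p ∣ Nat.card F - 1
  · obtain ⟨k, hk⟩ := sylow_fix_of_dvd hG hm hF hp hd P
    have := isCyclic_range_H hG
    have : IsCyclic ((H hG).range.map (MulAut.conj k).toMonoidHom) :=
      isCyclic_of_surjective _ ((H hG).range.equivMapOfInjective _ (MulAut.conj k).injective).surjective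
    exact isCyclic_of_injective (Subgroup.inclusion hk) (Subgroup.inclusion_injective _)
  rcases subsingleton_or_nontrivial (P : Subgroup (Cfsg.Sz F m)) with hP | hP
  · exact isCyclic_of_subsingleton
  obtain ⟨⟨y, hy⟩, hy1⟩ := exists_ne (1 : (P : Subgroup (Cfsg.Sz F m)))
  have hy1' : y ≠ 1 := fun e => hy1 (Subtype.ext e)
  obtain ⟨n, hn⟩ := IsPGroup.iff_orderOf.mp P.isPGroup' ⟨y, hy⟩
  rw [Subgroup.orderOf_mk] at hn
  have hpy : p ∣ orderOf y := by
    rw [hn]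
    refine dvd_pow_self p fun e => hy1' (orderOf_eq_one_iff.mp ?_)
    rw [hn, e, pow_zero]
  have hf : Fpf y := by
    rcases elt_cases hm hF y with h | ⟨k, hk⟩ | ⟨k, c, hc, hk⟩
    · exact h
    · exact absurd ((Nat.prime_dvd_prime_iff_eq Fact.out Nat.prime_two).mp
        ((Fact.out : p.Prime).dvd_of_dvd_pow
          (show p ∣ 2 ^ 2 from hpy.trans (orderOf_dvd_four hF hk)))) hp
    · exact absurd (hpy.trans (orderOf_dvd_sub_one hF hk)) hd
  have := centralizer_isCyclic hm hF hf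
  have hle := sylow_le_torus hm hF hf (Subgroup.mem_centralizer_singleton_iff.mpr rfl) hy1' P hy
  exact isCyclic_of_injective (Subgroup.inclusion hle) (Subgroup.inclusion_injective _)

theorem exceptional_subgroups :
    ∀ k ∈ ({2 ^ (2 * m + 1) + 2 ^ (m + 1) + 1, 2 ^ (2 * m + 1) - 2 ^ (m + 1) + 1} : Set ℕ),
      ∃ A : Subgroup (Cfsg.Sz F m), IsCyclic A ∧ Nat.card A = k ∧
        (∀ u ∈ A, u ≠ 1 → Subgroup.centralizer {u} = A) ∧
        Nat.card (Subgroup.normalizer (A : Set (Cfsg.Sz F m))) = 4 * k := by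
  obtain ⟨g, h, hg, hh, -, hcg, hch, hN⟩ := torus_structure hm hF
  intro k hk
  rcases hk with rfl | rfl
  · exact ⟨_, centralizer_isCyclic hm hF hh, hch, fun u hu h1 => centralizer_eq hm hF hh hu h1,
      by rw [hN h hh, hch]⟩
  · exact ⟨_, centralizer_isCyclic hm hF hg, hcg, fun u hu h1 => centralizer_eq hm hF hg hu h1,
      by rw [hN g hg, hcg]⟩

theorem torus_card_cases {g : Cfsg.Sz F m} (hg : Fpf g) :
    Nat.card (Subgroup.centralizer {g}) = 2 ^ (2 * m + 1) - 2 ^ (m + 1) + 1 ∨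
      Nat.card (Subgroup.centralizer {g}) = 2 ^ (2 * m + 1) + 2 ^ (m + 1) + 1 := by
  obtain ⟨a, b, ha, hb, hcov, hca, hcb, -⟩ := torus_structure hm hF
  rcases hcov g hg with h | h
  · exact Or.inl (by rw [card_eq_of_mem_cls hm hF ha h, hca])
  · exact Or.inr (by rw [card_eq_of_mem_cls hm hF hb h, hcb])

omit hF in
theorem torus_facts :
    (2 ^ (2 * m + 1) + 2 ^ (m + 1) + 1) * (2 ^ (2 * m + 1) - 2 ^ (m + 1) + 1) =
      (2 ^ (2 * m + 1)) ^ 2 + 1 ∧
    (2 ^ (2 * m + 1) + 2 ^ (m + 1) + 1).Coprime (2 ^ (2 * m + 1) - 2 ^ (m + 1) + 1) ∧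
      2 ^ (m + 1) < 2 ^ (2 * m + 1) := by
  have hlt : 2 ^ (m + 1) < 2 ^ (2 * m + 1) := Nat.pow_lt_pow_right (by norm_num) (by omega)
  have hs : (2 ^ (m + 1)) ^ 2 = 2 * 2 ^ (2 * m + 1) := by
    rw [← pow_mul, ← pow_succ']; congr 1; ring
  obtain ⟨d, hd⟩ := Nat.exists_eq_add_of_le hlt.le
  refine ⟨?_, ?_, hlt⟩
  · rw [hd, Nat.add_sub_cancel_left]
    rw [hd] at hs
    nlinarith
  · refine Nat.coprime_of_dvd fun p hp h1 h2 => ?_
    have hodd : p ≠ 2 := by
      rintro rfl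
      rw [pow_succ] at h1
      omega
    have hdiff : p ∣ 2 * 2 ^ (m + 1) := by
      have := Nat.dvd_sub h1 h2
      rwa [show 2 ^ (2 * m + 1) + 2 ^ (m + 1) + 1 - (2 ^ (2 * m + 1) - 2 ^ (m + 1) + 1) =
        2 * 2 ^ (m + 1) by omega] at this
    rw [← pow_succ'] at hdiff
    exact hodd ((Nat.prime_dvd_prime_iff_eq hp Nat.prime_two).mp (hp.dvd_of_dvd_pow hdiff))

theorem eq_centralizer_of_cyclic {A : Subgroup (Cfsg.Sz F m)} (hA : IsCyclic A)
    (hcard : Nat.card A = Nat.card F - 1 ∨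
      Nat.card A ∣ Nat.card F ^ 2 + 1 ∧
        (Nat.card A = 2 ^ (2 * m + 1) + 2 ^ (m + 1) + 1 ∨
         Nat.card A = 2 ^ (2 * m + 1) - 2 ^ (m + 1) + 1))
    {g : Cfsg.Sz F m} (hgA : g ∈ A) (hg : g ≠ 1) : A = Subgroup.centralizer {g} := by
  have hle : A ≤ Subgroup.centralizer {g} := fun x hx =>
    Subgroup.mem_centralizer_singleton_iff.mpr (congrArg Subtype.val
      ((IsCyclic.commutative (α := A)).is_comm.comm ⟨x, hx⟩ ⟨g, hgA⟩))
  have hdvd : orderOf g ∣ Nat.card A := Subgroup.orderOf_mk g hgA ▸ orderOf_dvd_natCard _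
  refine Subgroup.eq_of_le_of_card_ge hle (le_of_eq ?_)
  obtain ⟨p, hp, hpd⟩ := Nat.exists_prime_and_dvd (n := orderOf g)
    (fun e => hg (orderOf_eq_one_iff.mp e))
  have hpA := hpd.trans hdvd
  have h8 := eight_le hm hF
  rcases elt_cases hm hF g with h | ⟨k, hk⟩ | ⟨k, c, hc, hk⟩
  · obtain ⟨-, hq1, hq2⟩ := dvd_of_fpf (good_of_card (m := m) hF) hm hF h hp hpd
    rcases hcard with e | ⟨-, e⟩
    · exact absurd (e ▸ hpA) hq1
    obtain ⟨-, hcop, hlt⟩ := torus_facts hm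
    have hd1 := Subgroup.card_dvd_of_le hle
    rcases e with e | e <;> rcases torus_card_cases hm hF h with e' | e'
    · rw [e, e'] at hd1
      have := Nat.eq_one_of_dvd_coprimes hcop dvd_rfl hd1
      have := Nat.two_pow_pos (m + 1)
      omega
    · rw [e, e']
    · rw [e, e']
    · rw [e, e'] at hd1
      have := Nat.eq_one_of_dvd_coprimes hcop hd1 dvd_rfl
      have := Nat.two_pow_pos (m + 1)
      omega
  · exfalso
    have h2 : p = 2 := (Nat.prime_dvd_prime_iff_eq hp Nat.prime_two).mp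
      (hp.dvd_of_dvd_pow (show p ∣ 2 ^ 2 from hpd.trans (orderOf_dvd_four hF hk)))
    subst h2
    rcases hcard with e | ⟨hd, -⟩
    · have := even_q hm hF
      omega
    · exact (prime_facts hm hF hp (hpA.trans hd)).1 rfl
  · rcases hcard with e | ⟨hd, -⟩
    · rw [(centralizer_of_conj_H hm hF hc hk).2, e]
    · exact absurd (hpd.trans (orderOf_dvd_sub_one hF hk))
        (prime_facts hm hF hp (hpA.trans hd)).2.1

theorem sylow_two_unique {g : Cfsg.Sz F m} (hg : g ≠ 1) {P Q : Sylow 2 (Cfsg.Sz F m)}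
    (hP : g ∈ P) (hQ : g ∈ Q) : P = Q := by
  have hG := good_of_card (m := m) hF
  obtain ⟨k, hk⟩ := exists_conj_U hG hm hF P
  obtain ⟨l, hl⟩ := exists_conj_U hG hm hF Q
  have hne : k * g * k⁻¹ ≠ 1 := fun e => hg (by simpa [mul_inv_eq_one, mul_eq_left] using e)
  have hfix : (l * k⁻¹) • (pI : Cfsg.suzukiOvoid F m) = pI :=
    fix_of_conj_mem_U hG ((hk g).mp hP) hne (by
      rw [show l * k⁻¹ * (k * g * k⁻¹) * (l * k⁻¹)⁻¹ = l * g * l⁻¹ by simp [mul_assoc]]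
      exact (hl g).mp hQ)
  refine Sylow.ext (SetLike.ext fun x => ?_)
  show x ∈ P ↔ x ∈ Q
  rw [hk, hl]
  constructor
  · intro h
    have := conj_mem_U hG hm hF hfix h
    rwa [show l * k⁻¹ * (k * x * k⁻¹) * (l * k⁻¹)⁻¹ = l * x * l⁻¹ by simp [mul_assoc]] at this
  · intro h
    have := conj_mem_U hG hm hF (g := (l * k⁻¹)⁻¹) (inv_smul_eq_iff.mpr hfix.symm) h
    rwa [show (l * k⁻¹)⁻¹ * (l * x * l⁻¹) * ((l * k⁻¹)⁻¹)⁻¹ = k * x * k⁻¹ by simp [mul_assoc]] at this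

theorem partition (g : Cfsg.Sz F m) (hg : g ≠ 1) :
    ∃! A : Subgroup (Cfsg.Sz F m), ((∃ P : Sylow 2 (Cfsg.Sz F m), A = (P : Subgroup (Cfsg.Sz F m))) ∨
      (IsCyclic A ∧ Nat.card A ∈ ({2 ^ (2 * m + 1) - 1, 2 ^ (2 * m + 1) + 2 ^ (m + 1) + 1,
        2 ^ (2 * m + 1) - 2 ^ (m + 1) + 1} : Set ℕ))) ∧ g ∈ A := by
  have hG := good_of_card (m := m) hF
  have : Fact (Nat.Prime 2) := ⟨Nat.prime_two⟩
  have hq : Nat.card F = 2 ^ (2 * m + 1) := by rw [Nat.card_eq_fintype_card, hF]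
  obtain ⟨hmul, -, -⟩ := torus_facts hm
  have hcase : ∀ A : Subgroup (Cfsg.Sz F m), IsCyclic A → Nat.card A ∈ ({2 ^ (2 * m + 1) - 1,
      2 ^ (2 * m + 1) + 2 ^ (m + 1) + 1, 2 ^ (2 * m + 1) - 2 ^ (m + 1) + 1} : Set ℕ) → g ∈ A →
      A = Subgroup.centralizer {g} := fun A hA hc hgA => by
    refine eq_centralizer_of_cyclic hm hF hA ?_ hgA hg
    rw [hq]
    rcases hc with e | e | e
    · exact Or.inl e
    · exact Or.inr ⟨e ▸ hmul ▸ dvd_mul_right _ _, Or.inl e⟩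
    · exact Or.inr ⟨e ▸ hmul ▸ dvd_mul_left _ _, Or.inr e⟩
  have hgU : ∀ P : Sylow 2 (Cfsg.Sz F m), g ∈ P → orderOf g ∣ 4 := fun P hP => by
    obtain ⟨k, hk⟩ := exists_conj_U hG hm hF P
    exact orderOf_dvd_four hF ((hk g).mp hP)
  have hodd : ∀ A : Subgroup (Cfsg.Sz F m), Nat.card A ∈ ({2 ^ (2 * m + 1) - 1,
      2 ^ (2 * m + 1) + 2 ^ (m + 1) + 1, 2 ^ (2 * m + 1) - 2 ^ (m + 1) + 1} : Set ℕ) → g ∈ A →
      ∀ P : Sylow 2 (Cfsg.Sz F m), g ∉ P := fun A hc hgA P hP => by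
    have h4 := hgU P hP
    have hd : orderOf g ∣ Nat.card A := Subgroup.orderOf_mk g hgA ▸ orderOf_dvd_natCard _
    have hodd : ¬ 2 ∣ Nat.card A := by
      have h1 : 2 ∣ 2 ^ (2 * m + 1) := dvd_pow_self 2 (by omega)
      have h2 : 2 ∣ 2 ^ (m + 1) := dvd_pow_self 2 (by omega)
      obtain ⟨-, -, hlt⟩ := torus_facts hm
      have := Nat.two_pow_pos (2 * m + 1)
      rcases hc with e | e | e <;> rw [e] <;> omega
    obtain ⟨p, hp, hpd⟩ := Nat.exists_prime_and_dvd (n := orderOf g)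
      (fun e => hg (orderOf_eq_one_iff.mp e))
    have h2 := (Nat.prime_dvd_prime_iff_eq hp Nat.prime_two).mp
      (hp.dvd_of_dvd_pow (show p ∣ 2 ^ 2 from hpd.trans h4))
    exact hodd (h2 ▸ hpd.trans hd)
  have key : (∃ P : Sylow 2 (Cfsg.Sz F m), g ∈ P) ∨ (IsCyclic (Subgroup.centralizer {g}) ∧
      Nat.card (Subgroup.centralizer {g}) ∈ ({2 ^ (2 * m + 1) - 1, 2 ^ (2 * m + 1) + 2 ^ (m + 1) + 1,
        2 ^ (2 * m + 1) - 2 ^ (m + 1) + 1} : Set ℕ)) := by
    rcases elt_cases hm hF g with h | ⟨k, hk⟩ | ⟨k, c, hc, hk⟩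
    · refine Or.inr ⟨centralizer_isCyclic hm hF h, ?_⟩
      rcases torus_card_cases hm hF h with e | e
      · exact Or.inr (Or.inr e)
      · exact Or.inr (Or.inl e)
    · left
      have hP : IsPGroup 2 (Subgroup.centralizer {g}) := centralizer_of_conj_U hm hF hg hk
      obtain ⟨P, hP'⟩ := hP.exists_le_sylow
      exact ⟨P, hP' (Subgroup.mem_centralizer_singleton_iff.mpr rfl)⟩
    · refine Or.inr ⟨(centralizer_of_conj_H hm hF hc hk).1, Or.inl ?_⟩
      rw [(centralizer_of_conj_H hm hF hc hk).2, hq]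
  rcases key with ⟨P, hP⟩ | ⟨hcy, hcc⟩
  · refine ⟨P, ⟨Or.inl ⟨P, rfl⟩, hP⟩, ?_⟩
    rintro A ⟨⟨Q, rfl⟩ | ⟨-, hc⟩, hA⟩
    · rw [sylow_two_unique hm hF hg hA hP]
    · exact absurd hP (hodd A hc hA P)
  · refine ⟨_, ⟨Or.inr ⟨hcy, hcc⟩, Subgroup.mem_centralizer_singleton_iff.mpr rfl⟩, ?_⟩
    rintro A ⟨⟨Q, rfl⟩ | ⟨hA', hc⟩, hA⟩
    · exact absurd hA (hodd _ hcc (Subgroup.mem_centralizer_singleton_iff.mpr rfl) Q)
    · exact hcase A hA' hc hA

end Cfsg.Agent.Suzuki
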