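import Cfsg.Agent.Suzuki.SolubilizerCount

/-!
The solubilizer sizes in `Sz(q)` with `2m + 1` prime.
-/

set_option autoImplicit false

namespace Cfsg.Agent.Suzuki

open Matrix Cfsg.Agent.RankOne.Ovoid MulAction
open OddTori (IsTor)
open scoped Pointwise

universe u

variable {F : Type u} [Field F] [Fintype F] {m : ℕ} (hm : 1 ≤ m)
  (hF : Fintype.card F = 2 ^ (2 * m + 1))

include hm hF

theorem tor_of_fpf {g : Cfsg.Sz F m} (hg : Fpf g) : IsTor g := by
  have h1 := ne_one_of_fpf hm hF hg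
  refine ⟨h1, (odd_or_two hm hF h1).resolve_left fun h => ?_⟩
  obtain ⟨p, hp⟩ := exists_fix_of_two hm hF (g := g) (j := 2) (orderOf_dvd_iff_pow_eq_one.mp h)
  exact hg p hp

theorem tor_H {c : Fˣ} (hc : c ≠ 1) : IsTor (H (good_of_card (m := m) hF) c) := by
  refine ⟨fun e => hc (H_injective _ (e.trans (map_one _).symm)), ?_⟩
  refine Odd.of_dvd_nat ?_ (orderOf_dvd_sub_one hF (g := H (good_of_card (m := m) hF) c) (k := 1)
    (c := c) (by simp))
  obtain ⟨j, hj⟩ := even_q hm hF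
  have := eight_le hm hF
  exact ⟨j - 1, by omega⟩

/-- One torus of each of the three sizes. -/
theorem exists_three :
    ∃ c₁ c₂ c₃ : Cfsg.Sz F m, IsTor c₁ ∧ IsTor c₂ ∧ IsTor c₃ ∧
      Nat.card (Subgroup.centralizer {c₁}) = 2 ^ (2 * m + 1) - 1 ∧
      Nat.card (Subgroup.centralizer {c₂}) = 2 ^ (2 * m + 1) + 2 ^ (m + 1) + 1 ∧
      Nat.card (Subgroup.centralizer {c₃}) = 2 ^ (2 * m + 1) - 2 ^ (m + 1) + 1 := by
  obtain ⟨g, h, hg, hh, -, hcg, hch, -⟩ := torus_structure hm hF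
  obtain ⟨d, hd0, hd1, -⟩ := exists_sigma_ne hm hF
  have hd : Units.mk0 d hd0 ≠ 1 := fun e => hd1 (congrArg Units.val e)
  refine ⟨_, h, g, tor_H hm hF hd, tor_of_fpf hm hF hh, tor_of_fpf hm hF hg, ?_, hch, hcg⟩
  rw [centralizer_H _ hm hF hd, card_range_H, Nat.card_eq_fintype_card, hF]

theorem sum_pairs {o : ℕ} (ho : o ∣ 4) (ho1 : o ≠ 1) {n₁ n₂ : ℕ}
    (hn : ∀ c : Cfsg.Sz F m, IsTor c →
      Set.ncard {x : Cfsg.Sz F m | orderOf x = o ∧ x ∈ NC c} =
        (if Nat.card (Subgroup.centralizer {c}) = 2 ^ (2 * m + 1) - 1 then n₁ else n₂) *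
          Nat.card (Subgroup.centralizer {c})) :
    Set.ncard {p : Cfsg.Sz F m × Cfsg.Sz F m | orderOf p.1 = o ∧ p.2 ∈ Out p.1} =
      (n₁ * (2 ^ (2 * m + 1) - 2) + n₂ * (2 * 2 ^ (2 * m + 1))) * Nat.card (Cfsg.Sz F m) := by
  classical
  obtain ⟨c₁, c₂, c₃, h₁, h₂, h₃, e₁, e₂, e₃⟩ := exists_three hm hF
  obtain ⟨-, -, hlt⟩ := torus_facts hm
  have h4 : 2 ^ 2 ≤ 2 ^ (m + 1) := Nat.pow_le_pow_right (by norm_num) (by omega)
  have key : ∀ Q s : ℕ, s < Q → 4 ≤ s → Q + s + 1 ≠ Q - 1 ∧ Q - s + 1 ≠ Q - 1 ∧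
      Q + s + 1 ≠ Q - s + 1 ∧ Q - 1 - 1 = Q - 2 ∧ Q + s + 1 - 1 + (Q - s + 1 - 1) = 2 * Q :=
    fun Q s _ _ => by omega
  obtain ⟨k1, k2, k3, k4, k5⟩ := key _ _ hlt h4
  have hset : {p : Cfsg.Sz F m × Cfsg.Sz F m | orderOf p.1 = o ∧ p.2 ∈ Out p.1} =
      Pairs o (2 ^ (2 * m + 1) - 1) ∪ (Pairs o (2 ^ (2 * m + 1) + 2 ^ (m + 1) + 1) ∪
        Pairs o (2 ^ (2 * m + 1) - 2 ^ (m + 1) + 1)) := by
    ext ⟨x, y⟩
    constructor
    · rintro ⟨ho', hne, c, hc, hx, hy⟩
      rcases tor_cases hm hF hc with ⟨e, -⟩ | ⟨e | e, -⟩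
      · exact Or.inl ⟨ho', hne, c, hc, e, hx, hy⟩
      · exact Or.inr (Or.inl ⟨ho', hne, c, hc, e, hx, hy⟩)
      · exact Or.inr (Or.inr ⟨ho', hne, c, hc, e, hx, hy⟩)
    · rintro (h | h | h) <;> obtain ⟨ho', hne, c, hc, -, hx, hy⟩ := h <;>
        exact ⟨ho', hne, c, hc, hx, hy⟩
  have huniq : ∀ a b : ℕ, ∀ p : Cfsg.Sz F m × Cfsg.Sz F m,
      p ∈ Pairs o a → p ∈ Pairs o b → a = b := by
    rintro a b ⟨x, y⟩ ⟨-, hne, c, hc, hca, hx, hy⟩ ⟨-, -, c', hc', hcb, hx', hy'⟩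
    have hu : x * y * x⁻¹ * y⁻¹ ≠ 1 := fun e =>
      hne (mul_inv_eq_iff_eq_mul.mp (mul_inv_eq_one.mp e))
    rw [← hca, ← hcb, ← eq_torus hm hF hc (comm_mem hm hF hc hx hy) hu,
      eq_torus hm hF hc' (comm_mem hm hF hc' hx' hy') hu]
  have hd : ∀ a b : ℕ, a ≠ b → Disjoint (Pairs o a : Set (Cfsg.Sz F m × Cfsg.Sz F m)) (Pairs o b) :=
    fun a b hab => Set.disjoint_left.mpr fun p h h' => hab (huniq a b p h h')
  have hP : ∀ c₀ : Cfsg.Sz F m, IsTor c₀ → ∀ a, Nat.card (Subgroup.centralizer {c₀}) = a →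
      Set.ncard (Pairs o a : Set (Cfsg.Sz F m × Cfsg.Sz F m)) =
        (if a = 2 ^ (2 * m + 1) - 1 then n₁ else n₂) * (a - 1) * Nat.card (Cfsg.Sz F m) := by
    rintro c₀ h₀ a rfl
    refine card_pairs hm hF ho ho1 h₀ fun c hc he => ?_
    rw [hn c hc, he]
  rw [hset, Set.ncard_union_eq (Set.disjoint_union_right.mpr ⟨hd _ _ k1.symm, hd _ _ k2.symm⟩),
    Set.ncard_union_eq (hd _ _ k3), hP c₁ h₁ _ e₁, hP c₂ h₂ _ e₂, hP c₃ h₃ _ e₃,
    if_pos rfl, if_neg k1, if_neg k2, k4, ← add_mul, ← mul_add, k5, ← add_mul]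

omit hm hF in
theorem conj_Out_subset {G : Type*} [Group G] [Finite G] (k x : G) :
    (MulAut.conj k) '' Out x ⊆ Out (k * x * k⁻¹) := by
  rintro _ ⟨y, ⟨hne, c, hc, hx, hy⟩, rfl⟩
  have hN : (NC c).map (MulAut.conj k).toMonoidHom = NC (k * c * k⁻¹) := by
    show (Subgroup.normalizer _).map _ = Subgroup.normalizer _
    rw [Subgroup.map_equiv_normalizer_eq, OddTori.centralizer_conj']
  refine ⟨fun e => hne ((MulAut.conj k).injective (by simpa [mul_assoc] using e)), k * c * k⁻¹,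
    ⟨fun e => hc.1 (by simpa [mul_inv_eq_one, mul_eq_left] using e), ?_⟩, hN ▸ ⟨x, hx, rfl⟩,
    hN ▸ ⟨y, hy, rfl⟩⟩
  rw [show k * c * k⁻¹ = MulAut.conj k c from rfl, MulEquiv.orderOf_eq]
  exact hc.2

omit hm hF in
theorem card_Out_conj {G : Type*} [Group G] [Finite G] (k x : G) :
    Set.ncard (Out (k * x * k⁻¹)) = Set.ncard (Out x) := by
  refine le_antisymm ?_ ?_
  · have h := Set.ncard_le_ncard (conj_Out_subset k⁻¹ (k * x * k⁻¹)) (Set.toFinite _)
    rwa [Set.ncard_image_of_injective _ (MulAut.conj k⁻¹).injective,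
      show k⁻¹ * (k * x * k⁻¹) * (k⁻¹)⁻¹ = x by simp [mul_assoc]] at h
  · rw [← Set.ncard_image_of_injective (Out x) (MulAut.conj k).injective]
    exact Set.ncard_le_ncard (conj_Out_subset k x) (Set.toFinite _)

omit hm hF in
theorem Out_inv {G : Type*} [Group G] (x : G) : Out x⁻¹ = Out x := by
  ext y
  simp only [Out, Set.mem_setOf_eq, inv_mem_iff]
  refine and_congr_left fun _ => not_congr ?_
  exact Commute.inv_left_iff

omit hm hF in
/-- If the pairs have equally many partners, count them by the first entry. -/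
theorem pairs_eq_mul {G : Type*} [Group G] [Finite G] {o k : ℕ}
    (h : ∀ x : G, orderOf x = o → Set.ncard (Out x) = k) :
    Set.ncard {p : G × G | orderOf p.1 = o ∧ p.2 ∈ Out p.1} =
      Set.ncard {x : G | orderOf x = o} * k := by
  classical
  have := Fintype.ofFinite G
  rw [Set.ncard_eq_toFinset_card', Finset.card_eq_sum_card_fiberwise (f := Prod.fst)
    (t := {x : G | orderOf x = o}.toFinset) (fun p hp => by
      simp only [Finset.mem_coe, Set.mem_toFinset, Set.mem_setOf_eq] at hp ⊢; exact hp.1),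
    Finset.sum_const_nat (m := k), ← Set.ncard_eq_toFinset_card']
  intro x hx
  have hxo : orderOf x = o := by simpa using hx
  rw [← h x hxo, Set.ncard_eq_toFinset_card',
    ← Finset.card_image_of_injective (Out x).toFinset (Prod.mk_right_injective x)]
  congr 1
  ext ⟨a, b⟩
  simp only [Finset.mem_filter, Set.mem_toFinset, Set.mem_setOf_eq, Finset.mem_image, Prod.mk.injEq]
  constructor
  · rintro ⟨⟨-, hb⟩, rfl⟩
    exact ⟨b, hb, rfl, rfl⟩
  · rintro ⟨b', hb, rfl, rfl⟩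
    exact ⟨⟨hxo, hb⟩, rfl⟩

theorem involution_conj {x : Cfsg.Sz F m} (hx : orderOf x = 2) :
    ∃ k, k * x * k⁻¹ = T (good_of_card (m := m) hF) 0 1 := by
  have hG := good_of_card (m := m) hF
  rcases elt_cases hm hF x with h | ⟨g, hg⟩ | ⟨g, c, hc, hg⟩
  · have := (tor_of_fpf hm hF h).2
    rw [hx] at this
    exact absurd this (by decide)
  · have h2 := orderOf_two_iff.mp hx
    obtain ⟨b, hb⟩ := involution_form hm hF hg (by
      rw [conj_mul, h2.2]; simp)
    have hb0 : b ≠ 0 := fun e => h2.1 (by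
      rw [e, T_zero] at hb
      simpa [mul_inv_eq_one, mul_eq_left] using hb)
    obtain ⟨s, hs⟩ := (sAut hG).surjective b⁻¹
    rw [sAut_apply] at hs
    have hs0 : s ≠ 0 := fun e => by
      rw [e, zero_pow sigma_ne_zero] at hs
      exact inv_ne_zero hb0 hs.symm
    refine ⟨H hG (Units.mk0 s hs0) * g, ?_⟩
    rw [show H hG (Units.mk0 s hs0) * g * x * (H hG (Units.mk0 s hs0) * g)⁻¹ =
      H hG (Units.mk0 s hs0) * (g * x * g⁻¹) * (H hG (Units.mk0 s hs0))⁻¹ by simp [mul_assoc], hb,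
      H_conj_T, mul_inv_cancel_right, mul_zero, Units.val_mk0, hs, inv_mul_cancel₀ hb0]
  · have := (tor_H hm hF hc).2
    rw [← hg, show g * x * g⁻¹ = MulAut.conj g x from rfl, MulEquiv.orderOf_eq, hx] at this
    exact absurd this (by decide)

theorem four_conj {x : Cfsg.Sz F m} (hx : orderOf x = 4) :
    ∃ k, k * x * k⁻¹ = T (good_of_card (m := m) hF) 1 0 ∨
      k * x * k⁻¹ = (T (good_of_card (m := m) hF) 1 0)⁻¹ := by
  classical
  have hG := good_of_card (m := m) hF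
  rcases elt_cases hm hF x with h | ⟨g, a, b, hg⟩ | ⟨g, c, hc, hg⟩
  · have := (tor_of_fpf hm hF h).2
    rw [hx] at this
    exact absurd this (by decide)
  · have hg : g * x * g⁻¹ = T hG a b := hg
    have ha : a ≠ 0 := by
      rintro rfl
      have h2 : x ^ 2 = 1 := by
        apply (MulAut.conj g).injective
        rw [map_pow, map_one, MulAut.conj_apply, hg, pow_two, T_sq]
        simp [T_zero]
      have := Nat.le_of_dvd (by norm_num) (orderOf_dvd_of_pow_eq_one h2)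
      omega
    obtain ⟨s, hs⟩ := lam_surj (m := m) hG (inv_ne_zero ha)
    set b' := (s : F) ^ (2 ^ (m + 1)) * b with hb'
    have h1 : H hG s * g * x * (H hG s * g)⁻¹ = T hG 1 b' := by
      rw [show H hG s * g * x * (H hG s * g)⁻¹ = H hG s * (g * x * g⁻¹) * (H hG s)⁻¹ by
        simp [mul_assoc], hg, H_T_comm, hs, inv_mul_cancel₀ ha]
    set ψ : F → F := fun t => t ^ (2 ^ (m + 1)) + t with hψ
    obtain ⟨t, ht⟩ : ∃ t, ψ t = b' ∨ ψ t = b' + 1 := by
      have hadd : ∀ u v : F, ψ (u + v) = ψ u + ψ v := fun u v => by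
        simp only [hψ, hG.add]; ring
      have h2 := hG.two
      have hfib : ∀ y ∈ Finset.univ.image ψ, (Finset.univ.filter fun t => ψ t = y).card ≤ 2 := by
        intro y hy
        obtain ⟨u, -, rfl⟩ := Finset.mem_image.mp hy
        refine le_trans (Finset.card_le_card (t := ({u, u + 1} : Finset F)) fun v hv => ?_)
          Finset.card_le_two
        simp only [Finset.mem_filter, Finset.mem_univ, true_and, hψ] at hv
        have hvu : (v + u) ^ (2 ^ (m + 1)) = v + u := by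
          rw [hG.add]; linear_combination hv + ((u : F) ^ (2 ^ (m + 1)) - v) * h2
        rcases sigma_fix hG hvu with e | e <;> simp only [Finset.mem_insert, Finset.mem_singleton]
        · exact Or.inl (by linear_combination e - u * h2)
        · exact Or.inr (by linear_combination e - u * h2)
      have hcard := Finset.card_le_mul_card_image (Finset.univ : Finset F) 2 hfib
      set S := Finset.univ.image ψ
      have hone : ∀ t, ψ t ≠ 1 := by
        intro t ht
        simp only [hψ] at ht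
        have hs2 : t ^ 2 + t ^ (2 ^ (m + 1)) = 1 := by
          have := congrArg (fun z : F => z ^ (2 ^ (m + 1))) ht
          simpa [hG.add, hG.sq] using this
        rcases eq_or_ne t 0 with rfl | h0
        · simp [zero_pow sigma_ne_zero] at ht
        · have h3 : t = 1 := by
            apply mul_left_cancel₀ h0
            rw [mul_one]
            linear_combination hs2 - ht
          rw [h3, one_pow] at ht
          exact one_ne_zero (α := F) (by rw [← ht]; linear_combination h2)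
      have hdisj : Disjoint S (S.image (· + 1)) := by
        rw [Finset.disjoint_left]
        intro y hy hy'
        simp only [S, Finset.mem_image, Finset.mem_univ, true_and] at hy hy'
        obtain ⟨u, rfl⟩ := hy
        obtain ⟨_, ⟨v, rfl⟩, e⟩ := hy'
        exact hone (u + v) (by rw [hadd, ← e]; linear_combination ψ v * h2)
      have hfull : S ∪ S.image (· + 1) = Finset.univ := by
        apply Finset.eq_univ_of_card
        have := Finset.card_le_univ (S ∪ S.image (· + 1))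
        rw [Finset.card_union_of_disjoint hdisj,
          Finset.card_image_of_injective _ (add_left_injective 1)] at this ⊢
        rw [Finset.card_univ] at hcard
        omega
      have hb := Finset.mem_univ b'
      rw [← hfull] at hb
      simp only [S, Finset.mem_union, Finset.mem_image, Finset.mem_univ, true_and] at hb
      rcases hb with ⟨t, ht⟩ | ⟨_, ⟨t, rfl⟩, ht⟩
      · exact ⟨t, Or.inl ht⟩
      · exact ⟨t, Or.inr (by rw [← ht]; linear_combination -h2)⟩
    refine ⟨T hG t 0 * (H hG s * g), ?_⟩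
    have h2 := hG.two
    have e : T hG t 0 * (H hG s * g) * x * (T hG t 0 * (H hG s * g))⁻¹ = T hG 1 (b' + ψ t) := by
      rw [show T hG t 0 * (H hG s * g) * x * (T hG t 0 * (H hG s * g))⁻¹ =
        T hG t 0 * (H hG s * g * x * (H hG s * g)⁻¹) * (T hG t 0)⁻¹ by simp [mul_assoc], h1,
        mul_inv_eq_iff_eq_mul, T_mul, T_mul, add_comm t 1, one_pow, one_mul, mul_one]
      congr 1
      simp only [hψ]
      linear_combination -t * h2
    rcases ht with ht | ht
    · left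
      rw [e, ht]; congr 1; linear_combination b' * h2
    · right
      rw [e, ht, T_inv, one_pow, mul_one]; congr 1; linear_combination b' * h2
  · have := (tor_H hm hF hc).2
    rw [← hg, show g * x * g⁻¹ = MulAut.conj g x from rfl, MulEquiv.orderOf_eq, hx] at this
    exact absurd this (by decide)

/-- The value of `Out` for involutions and for elements of order four. -/
theorem out_values :
    (∀ x : Cfsg.Sz F m, orderOf x = 2 →
      Set.ncard (Out x) = (2 ^ (2 * m + 1)) ^ 2 * (3 * 2 ^ (2 * m + 1) - 2)) ∧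
    (∀ x : Cfsg.Sz F m, orderOf x = 4 → Set.ncard (Out x) = 4 * (2 ^ (2 * m + 1)) ^ 2) := by
  classical
  have hG := good_of_card (m := m) hF
  have := Fintype.ofFinite (Cfsg.Sz F m)
  have hGpos : 0 < Nat.card (Cfsg.Sz F m) := Nat.card_pos
  have hq : Nat.card F = 2 ^ (2 * m + 1) := by rw [Nat.card_eq_fintype_card, hF]
  constructor
  · have hsame : ∀ y : Cfsg.Sz F m, orderOf y = 2 → Set.ncard (Out y) = Set.ncard (Out (T hG 0 1)) :=
      fun y hy => by
        obtain ⟨k, hk⟩ := involution_conj hm hF hy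
        rw [← hk, card_Out_conj]
    intro x hx
    rw [hsame x hx]
    have hP := sum_pairs hm hF (o := 2) (by norm_num) (by norm_num) (n₁ := 1) (n₂ := 1)
      (fun c hc => by rw [(card_order_two hm hF hc).1, ite_self, one_mul])
    rw [pairs_eq_mul hsame] at hP
    have hT : orderOf (T hG (0 : F) 1) = 2 :=
      orderOf_two_iff.mpr ⟨T_ne_one hG, by rw [T_sq]; simp [T_zero]⟩
    have hcls : {y : Cfsg.Sz F m | orderOf y = 2} = {y | ∃ g, g * T hG 0 1 * g⁻¹ = y} := by
      ext y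
      constructor
      · intro hy
        obtain ⟨k, hk⟩ := involution_conj hm hF hy
        exact ⟨k⁻¹, by rw [← hk]; simp [mul_assoc]⟩
      · rintro ⟨g, rfl⟩
        show orderOf (MulAut.conj g (T hG 0 1)) = 2
        rw [MulEquiv.orderOf_eq, hT]
    have hC : Subgroup.centralizer {T hG (0 : F) 1} = U hG := by
      refine le_antisymm (centralizer_le_U hG hm hF (T_mem hG 0 1) (T_ne_one hG)) ?_
      rintro _ ⟨a, b, rfl⟩
      exact Subgroup.mem_centralizer_singleton_iff.mpr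
        ((commute_T_iff hG (a := a) (b := b) (c := 0) (d := 1)).mpr (by simp [sigma_ne_zero])).eq
    have hK := class_card (T hG (0 : F) 1)
    rw [← hcls, hC, card_U, hq] at hK
    set Q := 2 ^ (2 * m + 1)
    have h8 : 8 ≤ Q := hq ▸ eight_le hm hF
    refine Nat.eq_of_mul_eq_mul_left hGpos ?_
    conv_lhs => rw [← hK, mul_right_comm, hP, one_mul, one_mul]
    rw [show Q - 2 + 2 * Q = 3 * Q - 2 by omega]
    ring
  · have hsame : ∀ y : Cfsg.Sz F m, orderOf y = 4 → Set.ncard (Out y) = Set.ncard (Out (T hG 1 0)) :=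
      fun y hy => by
        obtain ⟨k, hk | hk⟩ := four_conj hm hF hy
        · rw [← hk, card_Out_conj]
        · rw [← Out_inv (T hG 1 0), ← hk, card_Out_conj]
    intro x hx
    rw [hsame x hx]
    have hP := sum_pairs hm hF (o := 4) dvd_rfl (by norm_num) (n₁ := 0) (n₂ := 2) (fun c hc => by
      have h := (card_order_two hm hF hc).2
      rcases tor_cases hm hF hc with ⟨e, hN⟩ | ⟨e, hN⟩ <;> change Nat.card (NC c) = _ at hN
      · rw [if_pos e, zero_mul]
        show Set.ncard _ = 0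
        generalize Nat.card (Subgroup.centralizer {c}) = a at h hN
        omega
      · rw [if_neg fun e' => ?_]
        · show Set.ncard _ = _
          generalize Nat.card (Subgroup.centralizer {c}) = a at h hN ⊢
          omega
        obtain ⟨-, -, hlt⟩ := torus_facts hm
        have h4 : 2 ^ 2 ≤ 2 ^ (m + 1) := Nat.pow_le_pow_right (by norm_num) (by omega)
        have key : ∀ Q s : ℕ, s < Q → 4 ≤ s → Q + s + 1 ≠ Q - 1 ∧ Q - s + 1 ≠ Q - 1 :=
          fun Q s _ _ => by omega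
        obtain ⟨k1, k2⟩ := key _ _ hlt h4
        rcases e with e | e
        · exact k1 (e.symm.trans e')
        · exact k2 (e.symm.trans e'))
    rw [pairs_eq_mul hsame] at hP
    set t := T hG (1 : F) 0 with ht
    have ht2 : t * t ≠ 1 := fun e => one_ne_zero (α := F) (fst_eq_zero hG e)
    have ht4 : orderOf t = 4 := by
      have : Fact (Nat.Prime 2) := ⟨Nat.prime_two⟩
      refine orderOf_eq_prime_pow (p := 2) (n := 1) (by rwa [pow_one, pow_two]) ?_
      rw [show (2 : ℕ) ^ (1 + 1) = 2 * 2 by norm_num, pow_mul, pow_two, pow_two, ht, T_sq, T_sq]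
      simp [T_zero, sigma_ne_zero]
    have htU : t ∈ U hG := T_mem hG 1 0
    have ht1 : t ≠ 1 := fun e => ht2 (by rw [e, one_mul])
    have hC : Nat.card (Subgroup.centralizer {t}) = 2 * 2 ^ (2 * m + 1) := by
      have hset : ((Subgroup.centralizer {t} : Subgroup _) : Set (Cfsg.Sz F m)) =
          (fun p : F × F => T hG p.1 p.2) '' (({0, 1} : Set F) ×ˢ Set.univ) := by
        ext y
        constructor
        · intro hy
          obtain ⟨a, b, rfl⟩ := centralizer_le_U hG hm hF htU ht1 hy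
          refine ⟨(a, b), ⟨?_, trivial⟩, rfl⟩
          have h := (commute_T_iff hG).mp (Subgroup.mem_centralizer_singleton_iff.mp hy)
          rw [one_pow, one_mul, mul_one] at h
          exact sigma_fix hG h
        · rintro ⟨⟨a, b⟩, ⟨ha, -⟩, rfl⟩
          refine Subgroup.mem_centralizer_singleton_iff.mpr ((commute_T_iff hG).mpr ?_).eq
          rcases (ha : a = 0 ∨ a = 1) with rfl | rfl <;> simp [sigma_ne_zero]
      rw [← SetLike.coe_sort_coe, Nat.card_coe_set_eq, hset,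
        Set.ncard_image_of_injective _ (fun p q e => Prod.ext (T_inj hG e).1 (T_inj hG e).2),
        Set.ncard_prod, Set.ncard_pair zero_ne_one, Set.ncard_univ, hq]
    have hdis : Disjoint {y | ∃ g, g * t * g⁻¹ = y} {y | ∃ g, g * t⁻¹ * g⁻¹ = y} := by
      rw [Set.disjoint_left]
      rintro y ⟨g, rfl⟩ ⟨h, e⟩
      refine ht2 (involution_of_real hG hm hF htU (g := h⁻¹ * g) (h1 := ht1) ?_)
      calc h⁻¹ * g * t * (h⁻¹ * g)⁻¹ = h⁻¹ * (g * t * g⁻¹) * h := by simp [mul_assoc]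
        _ = t⁻¹ := by rw [← e]; simp [mul_assoc]
    have hcls : {y : Cfsg.Sz F m | orderOf y = 4} =
        {y | ∃ g, g * t * g⁻¹ = y} ∪ {y | ∃ g, g * t⁻¹ * g⁻¹ = y} := by
      ext y
      constructor
      · intro hy
        obtain ⟨k, hk | hk⟩ := four_conj hm hF hy
        · exact Or.inl ⟨k⁻¹, by rw [ht, ← hk]; simp [mul_assoc]⟩
        · exact Or.inr ⟨k⁻¹, by rw [ht, ← hk]; simp [mul_assoc]⟩
      · rintro (⟨g, rfl⟩ | ⟨g, rfl⟩)
        · show orderOf (MulAut.conj g t) = 4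
          rw [MulEquiv.orderOf_eq, ht4]
        · show orderOf (MulAut.conj g t⁻¹) = 4
          rw [MulEquiv.orderOf_eq, orderOf_inv, ht4]
    have hK1 := class_card t
    have hK2 := class_card t⁻¹
    have hC' : Subgroup.centralizer {t⁻¹} = Subgroup.centralizer {t} := by
      ext z
      simp only [Subgroup.mem_centralizer_singleton_iff]
      exact Commute.inv_right_iff (a := z) (b := t)
    rw [hC'] at hK2
    rw [hC] at hK1 hK2
    have hK : Set.ncard {y : Cfsg.Sz F m | orderOf y = 4} * 2 ^ (2 * m + 1) =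
        Nat.card (Cfsg.Sz F m) := by
      rw [hcls, Set.ncard_union_eq hdis]
      nlinarith
    set Q := 2 ^ (2 * m + 1)
    refine Nat.eq_of_mul_eq_mul_left hGpos ?_
    conv_lhs => rw [← hK, mul_right_comm, hP, zero_mul, zero_add]
    ring

theorem sol_two_part (hp : (2 * m + 1).Prime) {x : Cfsg.Sz F m}
    (hx : x ∈ U (good_of_card (m := m) hF)) (h1 : x ≠ 1) :
    Nat.card (Sol x) = (2 ^ (2 * m + 1)) ^ 2 * (2 ^ (2 * m + 1) - 1) + Set.ncard (Out x) := by
  classical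
  have hG := good_of_card (m := m) hF
  have hfix : x • (pI : Cfsg.suzukiOvoid F m) = pI := U_le hG hx
  have hset : Sol x =
      ((stabilizer (Cfsg.Sz F m) (pI : Cfsg.suzukiOvoid F m) : Subgroup _) : Set (Cfsg.Sz F m)) ∪
        Out x := by
    ext y
    show Group.IsSolvable _ ↔ _
    rw [solvable_iff hm hF hp]
    constructor
    · rintro (⟨p, hxp, hyp⟩ | ⟨c, hc, hxc, hyc⟩)
      · obtain rfl := U_fixes_only hG hx h1 hxp
        exact Or.inl hyp
      · by_cases hcom : x * y = y * x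
        · exact Or.inl (U_le hG (centralizer_le_U hG hm hF hx h1
            (Subgroup.mem_centralizer_singleton_iff.mpr hcom.symm)))
        · exact Or.inr ⟨hcom, c, hc, hxc, hyc⟩
    · rintro (h | ⟨-, h⟩)
      · exact Or.inl ⟨pI, hfix, h⟩
      · exact Or.inr h
  have hd : Disjoint
      ((stabilizer (Cfsg.Sz F m) (pI : Cfsg.suzukiOvoid F m) : Subgroup _) : Set (Cfsg.Sz F m))
      (Out x) := by
    rw [Set.disjoint_left]
    rintro y hy ⟨hne, c, hc, hxc, hyc⟩
    have hu : y * x * y⁻¹ * x⁻¹ ∈ Subgroup.centralizer {c} := comm_mem hm hF hc hyc hxc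
    have hu1 : y * x * y⁻¹ * x⁻¹ ≠ 1 := fun e =>
      hne (mul_inv_eq_iff_eq_mul.mp (mul_inv_eq_one.mp e)).symm
    have huU : y * x * y⁻¹ * x⁻¹ ∈ U hG :=
      (U hG).mul_mem (conj_mem_U hG hm hF hy hx) ((U hG).inv_mem hx)
    exact not_mem_of_four hm hF hc hu1 (orderOf_dvd_four hF (k := 1) (by simpa using huU)) hu
  rw [Nat.card_coe_set_eq, hset, Set.ncard_union_eq hd, ← Nat.card_coe_set_eq]
  congr 1
  rw [show Nat.card ((stabilizer (Cfsg.Sz F m) (pI : Cfsg.suzukiOvoid F m) : Subgroup _) :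
      Set (Cfsg.Sz F m)) = Nat.card (stabilizer (Cfsg.Sz F m) (pI : Cfsg.suzukiOvoid F m)) from rfl,
    card_stabilizer hm hF, Nat.card_eq_fintype_card (α := F), hF]

theorem sol_H (hp : (2 * m + 1).Prime) {c : Fˣ} (hc : c ≠ 1) :
    Nat.card (Sol (H (good_of_card (m := m) hF) c)) =
      2 * (2 ^ (2 * m + 1)) ^ 2 * (2 ^ (2 * m + 1) - 1) := by
  classical
  have hG := good_of_card (m := m) hF
  have ht := tor_H hm hF hc
  have hC := centralizer_H hG hm hF hc
  set B := ((stabilizer (Cfsg.Sz F m) (pI : Cfsg.suzukiOvoid F m) : Subgroup _) : Set (Cfsg.Sz F m))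
  set B' := ((stabilizer (Cfsg.Sz F m) (pP 0 0 : Cfsg.suzukiOvoid F m) : Subgroup _) : Set (Cfsg.Sz F m))
  set R := (((H hG).range : Subgroup _) : Set (Cfsg.Sz F m))
  have hset : Sol (H hG c) = (B ∪ B') ∪ (fun z => J hG * z) '' R := by
    ext y
    show Group.IsSolvable _ ↔ _
    rw [solvable_iff hm hF hp]
    constructor
    · rintro (⟨p, hxp, hyp⟩ | ⟨d, hd, hxd, hyd⟩)
      · rcases H_fixes_two hG hc hxp with rfl | rfl
        · exact Or.inl (Or.inl hyp)
        · exact Or.inl (Or.inr hyp)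
      · have hmem := mem_torus_of_odd hm hF hd hxd ht.2
        rw [← eq_torus hm hF hd hmem ht.1, hC] at hyd
        rcases normalizer_H_cases hG hm hF hc ((Subgroup.mem_normalizer_iff.mp hyd _).mp ⟨c, rfl⟩)
          with ⟨e, rfl⟩ | ⟨e, rfl⟩
        · exact Or.inl (Or.inl (H_pI hG e))
        · exact Or.inr ⟨_, ⟨e, rfl⟩, rfl⟩
    · rintro ((h | h) | ⟨_, ⟨e, rfl⟩, rfl⟩)
      · exact Or.inl ⟨pI, H_pI hG c, h⟩
      · exact Or.inl ⟨pP 0 0, H_pP_zero hG c, h⟩
      · refine Or.inr ⟨H hG c, ht, Subgroup.le_normalizer (Subgroup.mem_centralizer_singleton_iff.mpr rfl), ?_⟩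
        rw [hC, Subgroup.mem_normalizer_iff]
        intro z
        constructor
        · rintro ⟨f, rfl⟩
          refine ⟨(e * f * e⁻¹)⁻¹, ?_⟩
          rw [← J_H_J hG, map_mul, map_mul, map_inv]
          simp [mul_assoc, inv_eq_of_mul_eq_one_right (J_mul_J hG)]
        · rintro ⟨f, hf⟩
          refine ⟨e⁻¹ * f⁻¹ * e, ?_⟩
          rw [map_mul, map_mul, ← J_H_J hG f, hf, map_inv]
          simp [mul_assoc, inv_eq_of_mul_eq_one_right (J_mul_J hG)]
          simp [← mul_assoc (J hG) (J hG), J_mul_J]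
  have hBB : B ∩ B' = R := by
    ext y
    constructor
    · rintro ⟨h1, h2⟩
      obtain ⟨d, hd⟩ := eq_H_of_fix hG hm hF h1 h2
      exact ⟨d, hd.symm⟩
    · rintro ⟨d, rfl⟩
      exact ⟨H_pI hG d, H_pP_zero hG d⟩
  have hd : Disjoint (B ∪ B') ((fun z => J hG * z) '' R) := by
    rw [Set.disjoint_right]
    rintro _ ⟨_, ⟨e, rfl⟩, rfl⟩ (h | h)
    · have h' : (J hG * H hG e) • (pI : Cfsg.suzukiOvoid F m) = pI := h
      rw [mul_smul, H_pI, J_pI] at h'
      exact pP_ne_pI 0 0 h'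
    · have h' : (J hG * H hG e) • (pP 0 0 : Cfsg.suzukiOvoid F m) = pP 0 0 := h
      rw [mul_smul, H_pP_zero, J_pP_zero] at h'
      exact pP_ne_pI 0 0 h'.symm
  have hq : Nat.card F = 2 ^ (2 * m + 1) := by rw [Nat.card_eq_fintype_card, hF]
  have hR : R.ncard = 2 ^ (2 * m + 1) - 1 := by
    rw [← Nat.card_coe_set_eq]; show Nat.card (H hG).range = _; rw [card_range_H, hq]
  have hB : B.ncard = (2 ^ (2 * m + 1)) ^ 2 * (2 ^ (2 * m + 1) - 1) := by
    rw [← Nat.card_coe_set_eq]; show Nat.card (stabilizer _ _) = _; rw [card_stabilizer hm hF, hq]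
  have hB' : B'.ncard = B.ncard := by
    rw [← Set.ncard_image_of_injective B (MulAut.conj (J hG)).injective]
    congr 1
    ext y
    constructor
    · intro hy
      refine ⟨(J hG)⁻¹ * y * J hG, ?_, by simp [mul_assoc]⟩
      show ((J hG)⁻¹ * y * J hG) • (pI : Cfsg.suzukiOvoid F m) = pI
      rw [mul_smul, mul_smul, J_pI, show y • (pP 0 0 : Cfsg.suzukiOvoid F m) = pP 0 0 from hy,
        inv_smul_eq_iff, J_pI]
    · rintro ⟨z, hz, rfl⟩
      show (J hG * z * (J hG)⁻¹) • (pP 0 0 : Cfsg.suzukiOvoid F m) = pP 0 0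
      rw [mul_smul, mul_smul, show (J hG)⁻¹ • (pP 0 0 : Cfsg.suzukiOvoid F m) = pI by
        rw [inv_smul_eq_iff, J_pI], show z • (pI : Cfsg.suzukiOvoid F m) = pI from hz, J_pI]
  have hU := Set.ncard_union_add_ncard_inter B B'
  rw [hBB, hR, hB', hB] at hU
  rw [Nat.card_coe_set_eq, hset, Set.ncard_union_eq hd,
    Set.ncard_image_of_injective _ (mul_right_injective (J hG)), hR, hU]
  ring

theorem sol_fpf (hp : (2 * m + 1).Prime) {x : Cfsg.Sz F m} (hx : Fpf x) :
    Nat.card (Sol x) = 4 * Nat.card (Subgroup.centralizer {x}) := by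
  have ht := tor_of_fpf hm hF hx
  obtain ⟨-, -, -, -, -, -, -, hN⟩ := torus_structure hm hF
  rw [← hN x hx]
  refine Nat.card_congr (Equiv.setCongr ?_)
  ext y
  show Group.IsSolvable _ ↔ _
  rw [solvable_iff hm hF hp]
  constructor
  · rintro (⟨p, hxp, -⟩ | ⟨d, hd, hxd, hyd⟩)
    · exact absurd hxp (hx p)
    · rw [SetLike.mem_coe, eq_torus hm hF hd (mem_torus_of_odd hm hF hd hxd ht.2) ht.1]
      exact hyd
  · exact fun hy => Or.inr ⟨x, ht,
      Subgroup.le_normalizer (Subgroup.mem_centralizer_singleton_iff.mpr rfl), hy⟩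

theorem sol_card (hp : (2 * m + 1).Prime) (x : Cfsg.Sz F m) :
    (orderOf x = 2 → Nat.card (Sol x) = (2 ^ (2 * m + 1)) ^ 2 * (4 * 2 ^ (2 * m + 1) - 3)) ∧
    (orderOf x = 4 → Nat.card (Sol x) = (2 ^ (2 * m + 1)) ^ 2 * (2 ^ (2 * m + 1) + 3)) ∧
    (x ≠ 1 → orderOf x ∣ 2 ^ (2 * m + 1) - 1 →
      Nat.card (Sol x) = 2 * (2 ^ (2 * m + 1)) ^ 2 * (2 ^ (2 * m + 1) - 1)) ∧
    (x ≠ 1 → orderOf x ∣ 2 ^ (2 * m + 1) + 2 ^ (m + 1) + 1 →
      Nat.card (Sol x) = 4 * (2 ^ (2 * m + 1) + 2 ^ (m + 1) + 1)) ∧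
    (x ≠ 1 → orderOf x ∣ 2 ^ (2 * m + 1) - 2 ^ (m + 1) + 1 →
      Nat.card (Sol x) = 4 * (2 ^ (2 * m + 1) - 2 ^ (m + 1) + 1)) := by
  have hG := good_of_card (m := m) hF
  obtain ⟨hout2, hout4⟩ := out_values hm hF
  obtain ⟨hfac, hcop, hlt⟩ := torus_facts hm
  have hq : Nat.card F = 2 ^ (2 * m + 1) := by rw [Nat.card_eq_fintype_card, hF]
  have h8 : 8 ≤ 2 ^ (2 * m + 1) := hq ▸ eight_le hm hF
  have h2q : 2 ∣ 2 ^ (2 * m + 1) := dvd_pow_self 2 (by omega)
  have h2s : 2 ∣ 2 ^ (m + 1) := dvd_pow_self 2 (by omega)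
  have hU : ∀ o, (o = 2 ∨ o = 4) → orderOf x = o →
      ∃ k, k * x * k⁻¹ ∈ U hG ∧ orderOf (k * x * k⁻¹) = o := by
    intro o ho hxo
    rcases elt_cases hm hF x with h | ⟨k, hk⟩ | ⟨k, c, hc, hk⟩
    · have := (tor_of_fpf hm hF h).2
      rw [hxo] at this
      rcases ho with rfl | rfl <;> exact absurd this (by decide)
    · exact ⟨k, hk, by rw [show k * x * k⁻¹ = MulAut.conj k x from rfl, MulEquiv.orderOf_eq, hxo]⟩
    · have := (tor_H hm hF hc).2
      rw [← hk, show k * x * k⁻¹ = MulAut.conj k x from rfl, MulEquiv.orderOf_eq, hxo] at this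
      rcases ho with rfl | rfl <;> exact absurd this (by decide)
  have hconj : ∀ k, Nat.card (Sol (k * x * k⁻¹)) = Nat.card (Sol x) := fun k =>
    card_sol_equiv (MulAut.conj k) x
  have hk : ∀ (y : Cfsg.Sz F m), y ∈ Subgroup.centralizer {y} := fun y =>
    Subgroup.mem_centralizer_singleton_iff.mpr rfl
  -- the kind of an element of odd order
  have hkind : ∀ n, Odd n → x ≠ 1 → orderOf x ∣ n →
      (Fpf x ∧ (orderOf x ∣ 2 ^ (2 * m + 1) + 2 ^ (m + 1) + 1 ∧
          Nat.card (Subgroup.centralizer {x}) = 2 ^ (2 * m + 1) + 2 ^ (m + 1) + 1 ∨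
        orderOf x ∣ 2 ^ (2 * m + 1) - 2 ^ (m + 1) + 1 ∧
          Nat.card (Subgroup.centralizer {x}) = 2 ^ (2 * m + 1) - 2 ^ (m + 1) + 1)) ∨
      (orderOf x ∣ 2 ^ (2 * m + 1) - 1 ∧ ∃ k, ∃ c : Fˣ, c ≠ 1 ∧ k * x * k⁻¹ = H hG c) := by
    intro n hn hx1 hd
    rcases elt_cases hm hF x with h | ⟨k, hk'⟩ | ⟨k, c, hc, hk'⟩
    · have hdC : orderOf x ∣ Nat.card (Subgroup.centralizer {x}) :=
        Subgroup.orderOf_mk x (hk x) ▸ orderOf_dvd_natCard _
      refine Or.inl ⟨h, ?_⟩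
      rcases torus_card_cases hm hF h with e | e <;> rw [e] at hdC
      · exact Or.inr ⟨hdC, e⟩
      · exact Or.inl ⟨hdC, e⟩
    · exact absurd (hn.of_dvd_nat hd) (not_odd_and_four hm hF hx1 (orderOf_dvd_four hF hk'))
    · exact Or.inr ⟨hq ▸ orderOf_dvd_sub_one hF hk', k, c, hc, hk'⟩
  have hne : x ≠ 1 → orderOf x ≠ 1 := fun h e => h (orderOf_eq_one_iff.mp e)
  have hcop1 : (2 ^ (2 * m + 1) - 1).Coprime ((2 ^ (2 * m + 1)) ^ 2 + 1) := by
    refine Nat.coprime_of_dvd fun p hp' h1 h2 => ?_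
    exact (prime_facts hm hF hp' (by rw [hq]; exact h2)).2.1 (by rw [hq]; exact h1)
  have hp1 : Odd (2 ^ (2 * m + 1) - 1) := by rw [Nat.odd_iff]; omega
  have hp2 : Odd (2 ^ (2 * m + 1) + 2 ^ (m + 1) + 1) := by rw [Nat.odd_iff]; omega
  have hp3 : Odd (2 ^ (2 * m + 1) - 2 ^ (m + 1) + 1) := by
    have key : ∀ Q s : ℕ, s < Q → 2 ∣ Q → 2 ∣ s → (Q - s + 1) % 2 = 1 := fun Q s _ _ _ => by omega
    rw [Nat.odd_iff]
    exact key _ _ hlt h2q h2s
  have hbad : ∀ a b : ℕ, a.Coprime b → x ≠ 1 → orderOf x ∣ a → orderOf x ∣ b → False :=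
    fun a b h hx1 ha hb => hne hx1 (Nat.eq_one_of_dvd_coprimes h ha hb)
  refine ⟨fun h2 => ?_, fun h4 => ?_, fun hx1 hd => ?_, fun hx1 hd => ?_, fun hx1 hd => ?_⟩
  · obtain ⟨k, hkU, hko⟩ := hU 2 (Or.inl rfl) h2
    rw [← hconj k, sol_two_part hm hF hp hkU (orderOf_two_iff.mp hko).1, hout2 _ hko, ← mul_add]
    congr 1
    omega
  · obtain ⟨k, hkU, hko⟩ := hU 4 (Or.inr rfl) h4
    rw [← hconj k, sol_two_part hm hF hp hkU (fun e => by simp [e] at hko), hout4 _ hko,
      mul_comm 4, ← mul_add]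
    congr 1
    omega
  · rcases hkind _ hp1 hx1 hd with ⟨-, ⟨h, -⟩ | ⟨h, -⟩⟩ | ⟨-, k, c, hc, hk'⟩
    · exact (hbad _ _ (hcop1.coprime_dvd_right (hfac ▸ dvd_mul_right _ _)) hx1 hd h).elim
    · exact (hbad _ _ (hcop1.coprime_dvd_right (hfac ▸ dvd_mul_left _ _)) hx1 hd h).elim
    · rw [← hconj k, hk']
      exact sol_H hm hF hp hc
  · rcases hkind _ hp2 hx1 hd with ⟨hf, ⟨-, e⟩ | ⟨h, -⟩⟩ | ⟨h, -⟩
    · rw [sol_fpf hm hF hp hf, e]
    · exact (hbad _ _ hcop hx1 hd h).elim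
    · exact (hbad _ _ (hcop1.coprime_dvd_right (hfac ▸ dvd_mul_right _ _)) hx1 h hd).elim
  · rcases hkind _ hp3 hx1 hd with ⟨hf, ⟨h, -⟩ | ⟨-, e⟩⟩ | ⟨h, -⟩
    · exact (hbad _ _ hcop hx1 h hd).elim
    · rw [sol_fpf hm hF hp hf, e]
    · exact (hbad _ _ (hcop1.coprime_dvd_right (hfac ▸ dvd_mul_left _ _)) hx1 h hd).elim

end Cfsg.Agent.Suzuki
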