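import Cfsg.Agent.Suzuki.DegreeCover
import Cfsg.Agent.Suzuki.SolubilizerMain
import Cfsg.Agent.Suzuki.Basic

/-!
The square of a class of elements of order above two of a Suzuki group covers the nonidentity
elements.
-/

set_option autoImplicit false
set_option maxHeartbeats 800000

open MulAction Cfsg.Agent.RankOne.Ovoid

namespace Cfsg.Agent.Suzuki.Square

open Cfsg.Agent.Suzuki.Degree

universe u

variable {F : Type u} [Field F] [Fintype F] {m : ℕ} (hm : 1 ≤ m)
  (hF : Fintype.card F = 2 ^ (2 * m + 1))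

include hm hF

/-- The tori, with the Steinberg character and the table. -/
theorem exists_setup [Fintype (Cfsg.Sz F m)] :
    ∃ (one St : IrrCharacter (Cfsg.Sz F m)) (K₀ Kp Km : Subgroup (Cfsg.Sz F m)),
      Data one St (2 ^ m) K₀ Kp Km ∧ Nonempty (Table one St (2 ^ m) K₀ Kp Km) ∧
      (∀ g : Cfsg.Sz F m, (St : Cfsg.Sz F m → ℂ) g =
        (Nat.card (fixedBy (Cfsg.suzukiOvoid F m) g) : ℂ) - 1) ∧
      (∀ a ∈ K₀, a ≠ 1 → Nat.card (fixedBy (Cfsg.suzukiOvoid F m) a) = 2) ∧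
      (∀ a, a ∈ Kp ∨ a ∈ Km → a ≠ 1 → Nat.card (fixedBy (Cfsg.suzukiOvoid F m) a) = 0) ∧
      Nat.card Kp = 2 ^ (2 * m + 1) + 2 ^ (m + 1) + 1 ∧
      Nat.card Km = 2 ^ (2 * m + 1) - 2 ^ (m + 1) + 1 := by
  obtain ⟨K₀, t₀, c₀, f₀⟩ := exists_split hm hF
  obtain ⟨Kp, tp, cp, fp⟩ := exists_nonsplit hm hF _ (Set.mem_insert _ _)
  obtain ⟨Km, tm, cm, fm⟩ := exists_nonsplit hm hF _ (Set.mem_insert_of_mem _ rfl)
  obtain ⟨St, hSt⟩ := exists_steinberg hm hF
  set r := 2 ^ m with hr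
  have hq : 2 ^ (2 * m + 1) = 2 * r ^ 2 := by rw [hr, ← pow_mul, pow_succ', mul_comm m 2]
  have hR : 2 ^ (m + 1) = 2 * r := by rw [hr, pow_succ']
  have hsq : 2 * r ≤ 2 * r ^ 2 := by
    rw [pow_two]
    exact Nat.mul_le_mul_left 2 (Nat.le_mul_self r)
  have hFn : Nat.card F = 2 * r ^ 2 := by rw [Nat.card_eq_fintype_card, hF, hq]
  have hr1 : 0 < r ^ 2 := by positivity
  let one : IrrCharacter (Cfsg.Sz F m) := ⟨_, Char.isIrrCharacter_one⟩
  have D : Data one St r K₀ Kp Km := by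
    refine ⟨fun g => rfl, t₀, tp, tm, by omega, by omega, by omega, fun a ha h1 => ?_, fun a ha h1 => ?_,
      fun a ha h1 => ?_, ?_, ?_⟩
    · rw [hSt, f₀ a ha h1]; norm_num
    · rw [hSt, fp a ha h1]; norm_num
    · rw [hSt, fm a ha h1]; norm_num
    · refine eq_dg ?_
      rw [hSt, MulAction.fixedBy_one_eq_univ, Nat.card_univ, card_ovoid, hF, hq]
      push_cast; ring
    · rw [card_sz hm hF, hFn]
      have h1 : 1 ≤ 2 * r ^ 2 := by omega
      push_cast [h1]
      ring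
  refine ⟨one, St, K₀, Kp, Km, D, exists_table D ?_, hSt, f₀, fun a ha => ?_, cp, cm⟩
  · rcases eq_or_lt_of_le hm with h | h
    · exact Or.inl (by rw [hr, ← h]; rfl)
    · right
      calc 4 = 2 ^ 2 := rfl
        _ ≤ r := Nat.pow_le_pow_right (by norm_num) h
  · rcases ha with h | h
    exacts [fp a h, fm a h]

/-- Two multiples of the index two subgroup of all `t ^ σ + t` together give everything. -/
theorem psi_span {α β : F} (hα : α ≠ 0) (hβ : β ≠ 0) (hne : α ≠ β) (u : F) :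
    ∃ t t' : F, α * (t ^ (2 ^ (m + 1)) + t) + β * (t' ^ (2 ^ (m + 1)) + t') = u := by
  classical
  have hG := good_of_card (m := m) hF
  let ψ : F →+ F :=
    { toFun := fun t => t ^ (2 ^ (m + 1)) + t
      map_zero' := by rw [zero_pow sigma_ne_zero, add_zero]
      map_add' := fun a b => by rw [hG.add]; ring }
  have hker : Nat.card ψ.ker = 2 := by
    have he : (ψ.ker : Set F) = {0, 1} := by
      ext t
      show t ^ (2 ^ (m + 1)) + t = 0 ↔ _
      constructor
      · intro h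
        have h2 := hG.two
        exact sigma_fix hG (by linear_combination h - t * h2)
      · rintro (rfl | rfl)
        · rw [zero_pow sigma_ne_zero, add_zero]
        · rw [one_pow]; linear_combination hG.two
    rw [show Nat.card ψ.ker = (ψ.ker : Set F).ncard from rfl, he, Set.ncard_pair zero_ne_one]
  have hidx : ψ.range.index = 2 := by
    have h1 := AddSubgroup.card_eq_card_quotient_mul_card_addSubgroup ψ.ker
    rw [Nat.card_congr (QuotientAddGroup.quotientKerEquivRange ψ).toEquiv, hker] at h1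
    have h2 := AddSubgroup.card_mul_index ψ.range
    rw [h1] at h2
    exact Nat.eq_of_mul_eq_mul_left Nat.card_pos h2
  have htwo := hG.two
  set lm := β / α with hlm
  have hl0 : lm ≠ 0 := div_ne_zero hβ hα
  have hl1 : lm + 1 ≠ 0 := fun h => hne (by
    have h' : β / α = 1 := by linear_combination h - htwo
    exact ((div_eq_one_iff_eq hα).1 h').symm)
  obtain ⟨k, hk, hlk⟩ : ∃ k ∈ ψ.range, lm * k ∉ ψ.range := by
    by_contra hcon
    push Not at hcon
    obtain ⟨y, hy⟩ : ∃ y, y ∉ ψ.range := by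
      by_contra h
      push Not at h
      rw [show ψ.range = ⊤ from eq_top_iff.2 fun z _ => h z, AddSubgroup.index_top] at hidx
      norm_num at hidx
    have key : ∀ c : F, c ≠ 0 → (∀ z ∈ ψ.range, c * z ∈ ψ.range) → c * y ∉ ψ.range := by
      intro c hc hcz h
      obtain ⟨⟨z, hz⟩, e⟩ := Finite.surjective_of_injective
        (f := fun z : ψ.range => (⟨c * z, hcz z z.2⟩ : ψ.range))
        (fun z z' e => Subtype.ext (mul_left_cancel₀ hc (congrArg Subtype.val e))) ⟨c * y, h⟩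
      exact hy (mul_left_cancel₀ hc (congrArg Subtype.val e) ▸ hz)
    refine key (lm + 1) hl1 (fun z hz => by rw [add_mul, one_mul]; exact add_mem (hcon z hz) hz) ?_
    rw [add_mul, one_mul, AddSubgroup.add_mem_iff_of_index_two hidx]
    exact iff_of_false (key lm hl0 hcon) hy
  have hsplit : ∃ t t', u / α = ψ t + lm * ψ t' := by
    by_cases hu : u / α ∈ ψ.range
    · obtain ⟨t, ht⟩ := hu
      exact ⟨t, 0, by rw [map_zero, mul_zero, add_zero, ht]⟩
    · obtain ⟨t, ht⟩ := (AddSubgroup.add_mem_iff_of_index_two hidx).2 (iff_of_false hu hlk)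
      obtain ⟨t', ht'⟩ := hk
      refine ⟨t, t', ?_⟩
      rw [ht, ht']
      linear_combination (-(lm * k)) * htwo
  obtain ⟨t, t', h⟩ := hsplit
  refine ⟨t, t', ?_⟩
  show α * ψ t + β * ψ t' = u
  rw [show u = α * (u / α) by field_simp, h, hlm]
  field_simp

/-- Conjugates of `T(1, s)`. -/
theorem isConj_T {a : F} (ha : a ≠ 0) (s t : F) :
    IsConj (T (good_of_card (m := m) hF) 1 s) (T (good_of_card (m := m) hF) a
      (a ^ (2 ^ (m + 1)) * a * (s + (t ^ (2 ^ (m + 1)) + t)))) := by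
  have hG := good_of_card (m := m) hF
  obtain ⟨c, hc⟩ := lam_surj (m := m) hG ha
  have hs := sigma_lam (m := m) hG (c : F)
  rw [hc] at hs
  refine isConj_iff.2 ⟨T hG (a * t) 0 * H hG c, ?_⟩
  rw [show T hG (a * t) 0 * H hG c * T hG 1 s * (T hG (a * t) 0 * H hG c)⁻¹ =
    T hG (a * t) 0 * (H hG c * T hG 1 s * (H hG c)⁻¹) * (T hG (a * t) 0)⁻¹ by simp [mul_assoc],
    H_T_comm, hc, ← hs, mul_one, T_inv, T_mul, T_mul]
  have h2 := hG.two
  congr 1
  · linear_combination (a * t) * h2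
  · rw [hG.add, mul_pow]
    linear_combination (a ^ (2 ^ (m + 1)) * t ^ (2 ^ (m + 1)) * (a * t)) * h2

/-- Every element of order four in standard form is such a product. -/
theorem covers_T (s w : F) :
    Covers (T (good_of_card (m := m) hF) 1 s) (T (good_of_card (m := m) hF) 1 w) := by
  have hG := good_of_card (m := m) hF
  obtain ⟨a, ha0, ha1, -⟩ := exists_sigma_ne hm hF
  have h2 := hG.two
  have he0 : 1 + a ≠ 0 := fun h => ha1 (by linear_combination h - h2)
  set α := a ^ (2 ^ (m + 1)) * a with hα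
  set β := (1 + a) ^ (2 ^ (m + 1)) * (1 + a) with hβ
  have hinj : Function.Injective fun z : F => z ^ (2 ^ (m + 1)) * z :=
    Finite.injective_iff_surjective.2 fun b => sigma_succ_surj hG b
  have hne : α ≠ β := fun h => one_ne_zero (α := F) (by linear_combination -(hinj h))
  obtain ⟨t, t', ht⟩ := psi_span hm hF (mul_ne_zero (pow_ne_zero _ ha0) ha0)
    (mul_ne_zero (pow_ne_zero _ he0) he0) hne (w - α * s - β * s - a ^ (2 ^ (m + 1)) * (1 + a))
  obtain ⟨u, hu⟩ := isConj_iff.1 (isConj_T hm hF ha0 s t)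
  obtain ⟨v, hv⟩ := isConj_iff.1 (isConj_T hm hF he0 s t')
  refine ⟨u, v, ?_⟩
  rw [hu, hv, T_mul]
  congr 1
  · linear_combination (-a) * h2
  · linear_combination -ht

theorem four_rep {x : Cfsg.Sz F m} (hx : orderOf x = 4) :
    ∃ k s, k * x * k⁻¹ = T (good_of_card (m := m) hF) 1 s ∧ (s = 0 ∨ s = 1) := by
  obtain ⟨k, h | h⟩ := four_conj hm hF hx
  · exact ⟨k, 0, h, Or.inl rfl⟩
  · refine ⟨k, 1, ?_, Or.inr rfl⟩
    rw [h, T_inv, zero_add, one_pow, one_mul]

theorem card_centralizer_four {x : Cfsg.Sz F m} (hx : orderOf x = 4) :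
    Nat.card (Subgroup.centralizer ({x} : Set (Cfsg.Sz F m))) ≤ 2 * Nat.card F := by
  have hG := good_of_card (m := m) hF
  obtain ⟨k, s, hk, -⟩ := four_rep hm hF hx
  rw [← card_conj_torus hm hF k x, hk]
  have hne : T hG 1 s ≠ 1 := fun h => by
    rw [← T_zero hG] at h
    exact one_ne_zero (T_inj hG h).1
  have hmem : ∀ p : Bool × F, T hG (cond p.1 1 0) p.2 ∈
      Subgroup.centralizer ({T hG 1 s} : Set (Cfsg.Sz F m)) := fun p => by
    refine Subgroup.mem_centralizer_singleton_iff.2 ((commute_T_iff hG).2 ?_).eq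
    cases p.1 <;> simp [zero_pow sigma_ne_zero]
  refine (Nat.card_le_card_of_surjective
    (fun p : Bool × F => (⟨_, hmem p⟩ : Subgroup.centralizer ({T hG 1 s} : Set (Cfsg.Sz F m))))
    ?_).trans_eq (by simp [Nat.card_prod])
  rintro ⟨z, hz⟩
  obtain ⟨a, b, rfl⟩ := centralizer_le_U hG hm hF (T_mem hG 1 s) hne hz
  have hc := (commute_T_iff hG).1 (Subgroup.mem_centralizer_singleton_iff.1 hz)
  rw [mul_one, one_pow, one_mul] at hc
  rcases sigma_fix hG hc with rfl | rfl
  · exact ⟨(false, b), rfl⟩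
  · exact ⟨(true, b), rfl⟩

/-- The square of a class of elements of order above two covers the nonidentity elements. -/
theorem covers {x g : Cfsg.Sz F m} (hx : 2 < orderOf x) (hg : g ≠ 1) : Covers x g := by
  classical
  letI := Fintype.ofFinite (Cfsg.Sz F m)
  have hG := good_of_card (m := m) hF
  obtain ⟨one, St, K₀, Kp, Km, D, ⟨t⟩, hSt, f₀, fK, cp, cm⟩ := exists_setup (F := F) hm hF
  set r := 2 ^ m with hr
  have h2r : 2 ≤ r := by
    calc 2 = 2 ^ 1 := rfl
      _ ≤ r := Nat.pow_le_pow_right (by norm_num) hm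
  have hq : Nat.card F = 2 * r ^ 2 := by
    rw [Nat.card_eq_fintype_card, hF, hr, ← pow_mul, pow_succ', mul_comm m 2]
  obtain ⟨o0, op, om⟩ := odd_cards D h2r
  obtain ⟨h7, h13, h5, -⟩ := D.sizes h2r
  -- conjugation into a torus or into the translations
  have cls : ∀ y : Cfsg.Sz F m, y ≠ 1 → ∃ k, (k * y * k⁻¹ ∈ K₀ ∨ k * y * k⁻¹ ∈ Kp ∨ k * y * k⁻¹ ∈ Km) ∨
      k * y * k⁻¹ ∈ U hG := by
    intro y hy
    rcases elt_cases hm hF y with hf | ⟨k, hk⟩ | ⟨k, c, hc, hk⟩
    · obtain ⟨p, hp, hpd⟩ := Nat.exists_prime_and_dvd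
        (n := Nat.card (Subgroup.centralizer ({y} : Set (Cfsg.Sz F m))))
        (by have := five_le_torus hm hF hf; omega)
      obtain ⟨K, hK, hcK, hmem⟩ : ∃ K : Subgroup (Cfsg.Sz F m), (K = Kp ∨ K = Km) ∧
          Nat.card K = Nat.card (Subgroup.centralizer ({y} : Set (Cfsg.Sz F m))) ∧
          ∀ z ∈ K, z ≠ 1 → Subgroup.centralizer {z} = K := by
        rcases torus_card_cases hm hF hf with e | e
        · exact ⟨Km, Or.inr rfl, cm.trans e.symm, D.tm.cent⟩
        · exact ⟨Kp, Or.inl rfl, cp.trans e.symm, D.tp.cent⟩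
      obtain ⟨⟨h, hh⟩, hh'⟩ := Subgroup.ne_bot_iff_exists_ne_one.1 (bot_ne (K := K) (by
        rcases hK with rfl | rfl <;> omega))
      have hh1 : h ≠ 1 := fun e => hh' (Subtype.ext e)
      have hhf : Fpf h := by
        rcases card_fixedBy hm hF hh1 with ⟨h0, -⟩ | ⟨-, h0⟩
        · exact h0
        · have := fK h (by rcases hK with rfl | rfl; exacts [Or.inl hh, Or.inr hh]) hh1
          omega
      obtain ⟨k, u, hu, hu1, hku⟩ := mem_cls_of_dvd hm hF hp hf hhf hpd
        (by rw [hmem h hh hh1, hcK]; exact hpd)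
      refine ⟨k, Or.inl ?_⟩
      have hy' : k * y * k⁻¹ ∈ K := by
        rw [← hmem h hh hh1, ← hku]
        exact mem_centralizer_conj hF (Subgroup.mem_centralizer_singleton_iff.2
          (Subgroup.mem_centralizer_singleton_iff.1 hu).symm)
      rcases hK with rfl | rfl
      exacts [Or.inr (Or.inl hy'), Or.inr (Or.inr hy')]
    · exact ⟨k, Or.inr hk⟩
    · obtain ⟨⟨a, ha⟩, ha'⟩ := Subgroup.ne_bot_iff_exists_ne_one.1 (bot_ne (K := K₀) (by omega))
      have ha1 : a ≠ 1 := fun e => ha' (Subtype.ext e)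
      rcases elt_cases hm hF a with hf | ⟨l, hl⟩ | ⟨l, d, hd, hl⟩
      · rcases card_fixedBy hm hF ha1 with ⟨-, h0⟩ | ⟨h0, -⟩
        · have := f₀ a ha ha1
          omega
        · exact absurd hf h0
      · obtain ⟨p, hp, hpd⟩ := Nat.exists_prime_and_dvd (n := orderOf a)
          fun e => ha1 (orderOf_eq_one_iff.1 e)
        have h2 : p = 2 := (Nat.prime_dvd_prime_iff_eq hp Nat.prime_two).mp
          (hp.dvd_of_dvd_pow (show p ∣ 2 ^ 2 from hpd.trans (orderOf_dvd_four hF hl)))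
        exact absurd (h2 ▸ hpd.trans (Subgroup.orderOf_dvd_natCard K₀ ha)) o0
      · refine ⟨l⁻¹ * k, Or.inl (Or.inl ?_)⟩
        rw [← D.t₀.cent a ha ha1, show a = l⁻¹ * H hG d * (l⁻¹)⁻¹ by rw [← hl]; group,
          show l⁻¹ * k * y * (l⁻¹ * k)⁻¹ = l⁻¹ * (k * y * k⁻¹) * (l⁻¹)⁻¹ by group, hk]
        refine mem_centralizer_conj hF (Subgroup.mem_centralizer_singleton_iff.2 ?_)
        rw [← map_mul, ← map_mul, mul_comm]
  have htwo : ∀ y : Cfsg.Sz F m, y ∈ U hG → y ≠ 1 → TwoEl St K₀ Kp Km y := by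
    intro y hy hy1
    refine ⟨fun h hh hh1 hc => ?_, ?_⟩
    · obtain ⟨l, hl⟩ := isConj_iff.1 hc
      obtain ⟨p, hp, hpd⟩ := Nat.exists_prime_and_dvd (n := orderOf h)
        fun e => hh1 (orderOf_eq_one_iff.1 e)
      have h2 : p = 2 := (Nat.prime_dvd_prime_iff_eq hp Nat.prime_two).mp
        (hp.dvd_of_dvd_pow (show p ∣ 2 ^ 2 from hpd.trans (orderOf_dvd_four hF (hl.symm ▸ hy))))
      rcases hh with hh | hh | hh
      · exact o0 (h2 ▸ hpd.trans (Subgroup.orderOf_dvd_natCard _ hh))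
      · exact op (h2 ▸ hpd.trans (Subgroup.orderOf_dvd_natCard _ hh))
      · exact om (h2 ▸ hpd.trans (Subgroup.orderOf_dvd_natCard _ hh))
    · rw [hSt, Nat.card_coe_set_eq, show fixedBy (Cfsg.suzukiOvoid F m) y = {pI} from
        Set.eq_singleton_iff_unique_mem.2 ⟨U_le _ hy, fun p hp => U_fixes_only _ hy hy1 hp⟩,
        Set.ncard_singleton]
      simp
  have hne1 : ∀ k y : Cfsg.Sz F m, y ≠ 1 → k * y * k⁻¹ ≠ 1 := fun k y hy e =>
    hy (conj_eq_one_iff.1 e)
  have hx1 : x ≠ 1 := fun e => by rw [e, orderOf_one] at hx; omega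
  obtain ⟨j, hj⟩ := cls x hx1
  obtain ⟨k, hk⟩ := cls g hg
  refine covers_of_conj (j := j) (k := k) ?_
  have hord : ∀ y z : Cfsg.Sz F m, orderOf (z * y * z⁻¹) = orderOf y := fun y z =>
    (MulAut.conj z).orderOf_eq y
  rcases hj with hj | hj <;> rcases hk with hk | hk
  · exact covers_torus_torus D t h2r hj (hne1 _ _ hx1) hk (hne1 _ _ hg)
  · refine covers_torus_two D t h2r hj (hne1 _ _ hx1) (htwo _ hk (hne1 _ _ hg)) ?_
    have h := Subgroup.card_le_of_le (centralizer_le_U hG hm hF hk (hne1 _ _ hg))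
    rw [card_U, hq] at h
    calc (Nat.card (Subgroup.centralizer ({k * g * k⁻¹} : Set (Cfsg.Sz F m))) : ℝ)
        ≤ ((2 * r ^ 2) ^ 2 : ℕ) := by exact_mod_cast h
      _ = 4 * (r : ℝ) ^ 4 := by push_cast; ring
  all_goals
    have hx4 : orderOf (j * x * j⁻¹) = 4 := by
      have hd : orderOf x ∣ 4 := orderOf_dvd_four hF hj
      have h4 : orderOf x ∈ Nat.divisors 4 := Nat.mem_divisors.2 ⟨hd, by norm_num⟩
      rw [show Nat.divisors 4 = {1, 2, 4} by decide] at h4
      simp only [Finset.mem_insert, Finset.mem_singleton] at h4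
      rw [hord]
      omega
  · refine covers_two_torus D t h2r (htwo _ hj (hne1 _ _ hx1)) ?_ hk (hne1 _ _ hg)
    have h := card_centralizer_four hm hF hx4
    rw [hq] at h
    calc (Nat.card (Subgroup.centralizer ({j * x * j⁻¹} : Set (Cfsg.Sz F m))) : ℝ)
        ≤ ((2 * (2 * r ^ 2)) : ℕ) := by exact_mod_cast h
      _ = 4 * (r : ℝ) ^ 2 := by push_cast; ring
  · have hd : orderOf g ∣ 4 := orderOf_dvd_four hF hk
    have h4 : orderOf g ∈ Nat.divisors 4 := Nat.mem_divisors.2 ⟨hd, by norm_num⟩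
    rw [show Nat.divisors 4 = {1, 2, 4} by decide] at h4
    simp only [Finset.mem_insert, Finset.mem_singleton] at h4
    rcases h4 with h4 | h4 | h4
    · exact absurd (orderOf_eq_one_iff.1 h4) hg
    · set y := j * x * j⁻¹ with hy
      have hsq : orderOf (y * y) = 2 := by
        rw [← pow_two, orderOf_pow' _ (by norm_num : (2 : ℕ) ≠ 0), hx4]; rfl
      obtain ⟨a, ha⟩ := involution_conj hm hF hsq
      obtain ⟨b, hb⟩ := involution_conj hm hF ((hord g k).trans h4)
      refine covers_of_conj (j := a) (k := b) ⟨1, 1, ?_⟩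
      rw [hb, ← ha]
      group
    · obtain ⟨a, s, ha, -⟩ := four_rep hm hF hx4
      obtain ⟨b, w, hb, -⟩ := four_rep hm hF ((hord g k).trans h4)
      refine covers_of_conj (j := a) (k := b) ?_
      rw [ha, hb]
      exact covers_T hm hF s w

end Cfsg.Agent.Suzuki.Square
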