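import Cfsg.Agent.Suzuki.SubgroupMain

/-!
Solubilizers in the Suzuki groups: which pairs generate soluble subgroups, and the structure of
the normalizers of the tori.
-/

set_option autoImplicit false

namespace Cfsg.Agent.Suzuki

open Matrix Cfsg.Agent.RankOne.Ovoid MulAction
open scoped Pointwise

universe u

theorem solvable_of_comm_le {G : Type*} [Group G] (M A : Subgroup G) (hA : Group.IsSolvable A)
    (h : ∀ x ∈ M, ∀ y ∈ M, x * y * x⁻¹ * y⁻¹ ∈ A) : Group.IsSolvable M := by
  have hle : (commutator M).map M.subtype ≤ A := by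
    rw [Subgroup.map_le_iff_le_comap, commutator_def, Subgroup.commutator_le]
    intro a _ b _
    exact h a a.2 b b.2
  have hN : Group.IsSolvable (commutator M) := by
    let f : commutator M →* A :=
      { toFun := fun z => ⟨((z : M) : G), hle ⟨z, z.2, rfl⟩⟩
        map_one' := rfl
        map_mul' := fun _ _ => rfl }
    exact Group.isSolvable_of_isSolvable_injective (f := f) fun z w e =>
      Subtype.ext (Subtype.ext (congrArg Subtype.val e :))
  exact (Group.isSolvable_iff_subgroup_quotient (commutator M)).mpr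
    ⟨hN, Group.isSolvable_of_comm fun a b => mul_comm (G := Abelianization M) a b⟩

/-- The set of elements generating a soluble subgroup together with `x`. -/
def Sol {G : Type*} [Group G] (x : G) : Set G :=
  {y | Group.IsSolvable (Subgroup.closure ({x, y} : Set G))}

theorem card_sol_equiv {G H : Type*} [Group G] [Group H] (e : G ≃* H) (x : G) :
    Nat.card (Sol (e x)) = Nat.card (Sol x) := by
  refine Nat.card_congr (Equiv.subtypeEquiv e.toEquiv fun y => ?_).symm
  show Group.IsSolvable (Subgroup.closure ({x, y} : Set G)) ↔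
    Group.IsSolvable (Subgroup.closure ({e x, e y} : Set H))
  have : (Subgroup.closure ({x, y} : Set G)).map e.toMonoidHom =
      Subgroup.closure ({e x, e y} : Set H) := by
    rw [MonoidHom.map_closure, Set.image_pair]
    rfl
  rw [← this]
  set K := Subgroup.closure ({x, y} : Set G)
  constructor
  · intro hK
    exact Group.isSolvable_of_surjective (f := (K.equivMapOfInjective e.toMonoidHom e.injective).toMonoidHom)
      (K.equivMapOfInjective e.toMonoidHom e.injective).surjective
  · intro hK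
    exact Group.isSolvable_of_surjective
      (f := (K.equivMapOfInjective e.toMonoidHom e.injective).symm.toMonoidHom)
      (K.equivMapOfInjective e.toMonoidHom e.injective).symm.surjective

variable {F : Type u} [Field F] [Fintype F] {m : ℕ} (hm : 1 ≤ m)
  (hF : Fintype.card F = 2 ^ (2 * m + 1))

include hm hF

open OddTori (IsTor)

theorem oddToriSelf : OddTori (Cfsg.Sz F m) := by
  refine ⟨fun x hx => odd_or_two hm hF hx, fun x hx ho u hu v hv => ?_, fun x hx ho => ?_,
    fun x hx ho => ?_, fun x hx ho => ?_⟩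
  · have := (torus_pack hm hF hx ho).1
    exact congrArg Subtype.val
      ((IsCyclic.commutative (α := Subgroup.centralizer {x})).is_comm.comm ⟨u, hu⟩ ⟨v, hv⟩)
  · obtain ⟨-, hc, -⟩ := torus_pack hm hF hx ho
    refine Nat.not_even_iff_odd.mp fun he => ?_
    have hd := even_iff_two_dvd.mp he
    have h1 : 2 ∣ 2 ^ (2 * m + 1) := dvd_pow_self 2 (by omega)
    have h2 : 2 ∣ 2 ^ (m + 1) := dvd_pow_self 2 (by omega)
    obtain ⟨-, -, hlt⟩ := torus_facts hm
    have := Nat.two_pow_pos (2 * m + 1)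
    rcases hc with e | e | e <;> rw [e] at hd <;> omega
  · obtain ⟨-, hc, -⟩ := torus_pack hm hF hx ho
    have h8 : 8 ≤ 2 ^ (2 * m + 1) :=
      le_trans (by norm_num) (Nat.pow_le_pow_right (by norm_num) (show 3 ≤ 2 * m + 1 by omega))
    obtain ⟨-, -, hlt⟩ := torus_facts hm
    have h4 : 4 ≤ 2 ^ (m + 1) :=
      le_trans (by norm_num) (Nat.pow_le_pow_right (by norm_num) (show 2 ≤ m + 1 by omega))
    have hsq : (2 ^ (m + 1)) ^ 2 = 2 * 2 ^ (2 * m + 1) := by
      rw [← pow_mul, ← pow_succ']; congr 1; ring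
    rcases hc with e | e | e <;> rw [e]
    · omega
    · omega
    · rcases Nat.lt_or_ge (2 ^ (2 * m + 1)) (2 ^ (m + 1) + 4) with h | h
      · nlinarith
      · omega
  · obtain ⟨-, -, f, hf, hN⟩ := torus_pack hm hF hx ho
    exact ⟨f, Or.inr hf, hN⟩

/-- The torus size determines the index in its normalizer. -/
theorem tor_cases {c : Cfsg.Sz F m} (hc : IsTor c) :
    (Nat.card (Subgroup.centralizer {c}) = 2 ^ (2 * m + 1) - 1 ∧
      Nat.card (Subgroup.normalizer (Subgroup.centralizer {c} : Set (Cfsg.Sz F m))) =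
        2 * Nat.card (Subgroup.centralizer {c})) ∨
    ((Nat.card (Subgroup.centralizer {c}) = 2 ^ (2 * m + 1) + 2 ^ (m + 1) + 1 ∨
        Nat.card (Subgroup.centralizer {c}) = 2 ^ (2 * m + 1) - 2 ^ (m + 1) + 1) ∧
      Nat.card (Subgroup.normalizer (Subgroup.centralizer {c} : Set (Cfsg.Sz F m))) =
        4 * Nat.card (Subgroup.centralizer {c})) := by
  have hG := good_of_card (m := m) hF
  rcases elt_cases hm hF c with h | ⟨k, hk⟩ | ⟨k, d, hd, hk⟩
  · obtain ⟨-, -, -, -, -, -, -, hN⟩ := torus_structure hm hF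
    exact Or.inr ⟨(torus_card_cases hm hF h).symm, hN c h⟩
  · exact absurd hc.2 (not_odd_and_four hm hF hc.1 (orderOf_dvd_four hF hk))
  · obtain ⟨-, h2⟩ := centralizer_of_conj_H hm hF hd hk
    refine Or.inl ⟨by rw [h2, Nat.card_eq_fintype_card, hF], ?_⟩
    have hmap : (Subgroup.centralizer {c}).map (MulAut.conj k).toMonoidHom = (H hG).range := by
      rw [← centralizer_conj, hk]
      exact centralizer_H _ hm hF hd
    have hNmap : (Subgroup.normalizer (Subgroup.centralizer {c} : Set (Cfsg.Sz F m))).map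
        (MulAut.conj k).toMonoidHom = Subgroup.normalizer ((H hG).range : Set (Cfsg.Sz F m)) := by
      rw [← hmap, Subgroup.map_equiv_normalizer_eq]
    rw [← Subgroup.card_map_of_injective (f := (MulAut.conj k).toMonoidHom)
      (MulAut.conj k).injective, hNmap,
      card_normalizer_H hG hm hF, ← hmap,
      Subgroup.card_map_of_injective (f := (MulAut.conj k).toMonoidHom) (MulAut.conj k).injective]

/-- Commutators in the normalizer of a torus lie in the torus. -/
theorem comm_mem {c x y : Cfsg.Sz F m} (hc : IsTor c)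
    (hx : x ∈ Subgroup.normalizer (Subgroup.centralizer {c} : Set (Cfsg.Sz F m)))
    (hy : y ∈ Subgroup.normalizer (Subgroup.centralizer {c} : Set (Cfsg.Sz F m))) :
    x * y * x⁻¹ * y⁻¹ ∈ Subgroup.centralizer {c} := by
  have := (torus_pack hm hF hc.1 hc.2).1
  obtain ⟨⟨g, hg⟩, hgen⟩ := IsCyclic.exists_generator (α := Subgroup.centralizer {c})
  have hpow : ∀ z ∈ Subgroup.centralizer {c}, ∃ i : ℤ, g ^ i = z := fun z hz => by
    obtain ⟨i, hi⟩ := hgen ⟨z, hz⟩
    exact ⟨i, congrArg Subtype.val hi⟩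
  obtain ⟨i, hi⟩ := hpow _ ((Subgroup.mem_normalizer_iff.mp hx g).mp hg)
  obtain ⟨j, hj⟩ := hpow _ ((Subgroup.mem_normalizer_iff.mp hy g).mp hg)
  have e1 : x * y * g * (x * y)⁻¹ = g ^ (i * j) :=
    calc x * y * g * (x * y)⁻¹ = x * (y * g * y⁻¹) * x⁻¹ := by simp [mul_assoc]
      _ = (x * g * x⁻¹) ^ j := by rw [← hj, conj_zpow]
      _ = _ := by rw [← hi, ← _root_.zpow_mul]
  have e2 : y * x * g * (y * x)⁻¹ = g ^ (i * j) :=
    calc y * x * g * (y * x)⁻¹ = y * (x * g * x⁻¹) * y⁻¹ := by simp [mul_assoc]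
      _ = (y * g * y⁻¹) ^ i := by rw [← hi, conj_zpow]
      _ = _ := by rw [← hj, ← _root_.zpow_mul, mul_comm]
  have e3 : Commute (x * y * x⁻¹ * y⁻¹) g := by
    have h3 : (y * x)⁻¹ * (g ^ (i * j)) * (y * x) = g := by rw [← e2]; simp [mul_assoc]
    have : x * y * x⁻¹ * y⁻¹ * g ^ (i * j) * (x * y * x⁻¹ * y⁻¹)⁻¹ = g ^ (i * j) :=
      calc _ = x * y * ((y * x)⁻¹ * g ^ (i * j) * (y * x)) * (x * y)⁻¹ := by simp [mul_assoc]
        _ = _ := by rw [h3, e1]
    have hcz : Commute (x * y * x⁻¹ * y⁻¹) (g ^ (i * j)) := mul_inv_eq_iff_eq_mul.mp this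
    obtain ⟨k, hk⟩ := hpow g hg
    -- `g ^ (i * j)` generates the torus, being a conjugate of `g`
    obtain ⟨l, hl⟩ := hpow _ (show (y * x)⁻¹ * g * (y * x) ∈ Subgroup.centralizer {c} from
      (Subgroup.mem_normalizer_iff''.mp (Subgroup.mul_mem _ hy hx) g).mp hg)
    have hg' : g = (g ^ (i * j)) ^ l := by
      rw [← e2, conj_zpow, hl]; simp [mul_assoc]
    rw [hg']
    exact hcz.zpow_right l
  obtain ⟨k, hk⟩ := hpow c (Subgroup.mem_centralizer_singleton_iff.mpr rfl)
  rw [Subgroup.mem_centralizer_singleton_iff, ← hk]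
  exact (e3.zpow_right k).eq

theorem mem_torus_of_odd {c x : Cfsg.Sz F m} (hc : IsTor c)
    (hx : x ∈ Subgroup.normalizer (Subgroup.centralizer {c} : Set (Cfsg.Sz F m)))
    (ho : Odd (orderOf x)) : x ∈ Subgroup.centralizer {c} := by
  set A := Subgroup.centralizer {c}
  set N := Subgroup.normalizer (A : Set (Cfsg.Sz F m))
  have hidx : (A.subgroupOf N).index ∣ 2 ^ 2 := by
    have e := (A.subgroupOf N).index_mul_card
    rw [Nat.card_congr (Subgroup.subgroupOfEquivOfLe (Subgroup.le_normalizer : A ≤ N)).toEquiv] at e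
    rcases tor_cases hm hF hc with ⟨-, h⟩ | ⟨-, h⟩ <;>
      rw [Nat.eq_of_mul_eq_mul_right Nat.card_pos (e.trans h)] <;> norm_num
  have hmem : x ^ (2 ^ 2) ∈ A := by
    obtain ⟨k, hk⟩ := hidx
    have h1 := Subgroup.pow_index_mem (A.subgroupOf N) (⟨x, hx⟩ : N)
    rw [Subgroup.mem_subgroupOf] at h1
    rw [hk, pow_mul]
    exact A.pow_mem h1 _
  obtain ⟨j, hj⟩ := exists_pow_eq_self_of_coprime (x := x) (n := 2 ^ 2)
    (Nat.Coprime.pow_left 2 (Nat.coprime_two_left.mpr ho))
  rw [← hj]
  exact A.pow_mem hmem _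

theorem four_of_not_mem {c x : Cfsg.Sz F m} (hc : IsTor c)
    (hx : x ∈ Subgroup.normalizer (Subgroup.centralizer {c} : Set (Cfsg.Sz F m)))
    (hn : x ∉ Subgroup.centralizer {c}) : orderOf x ∣ 4 := by
  have h1 : x ≠ 1 := fun e => hn (e ▸ Subgroup.one_mem _)
  exact ((oddToriSelf hm hF).dich x h1).resolve_right fun ho => hn (mem_torus_of_odd hm hF hc hx ho)

theorem not_mem_of_four {c x : Cfsg.Sz F m} (hc : IsTor c) (hx1 : x ≠ 1) (h : orderOf x ∣ 4) :
    x ∉ Subgroup.centralizer {c} := fun hx =>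
  not_odd_and_four hm hF hx1 h ((oddToriSelf hm hF).tor_mem hc hx hx1).2

/-- A soluble pair fixes a point or normalizes a torus. -/
theorem solvable_iff (hp : (2 * m + 1).Prime) (x y : Cfsg.Sz F m) :
    Group.IsSolvable (Subgroup.closure ({x, y} : Set (Cfsg.Sz F m))) ↔
      (∃ p : Cfsg.suzukiOvoid F m, x • p = p ∧ y • p = p) ∨
      (∃ c : Cfsg.Sz F m, IsTor c ∧ x ∈ Subgroup.normalizer (Subgroup.centralizer {c} : Set (Cfsg.Sz F m)) ∧
        y ∈ Subgroup.normalizer (Subgroup.centralizer {c} : Set (Cfsg.Sz F m))) := by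
  have hG := good_of_card (m := m) hF
  have : Fact (Nat.Prime 2) := ⟨Nat.prime_two⟩
  set K := Subgroup.closure ({x, y} : Set (Cfsg.Sz F m))
  have hxK : x ∈ K := Subgroup.subset_closure (by simp)
  have hyK : y ∈ K := Subgroup.subset_closure (by simp)
  have hpt : ∀ (k z : Cfsg.Sz F m), z ∈ Subgroup.normalizer
      ((k • sylowU hG hm hF : Sylow 2 (Cfsg.Sz F m)) : Set (Cfsg.Sz F m)) ↔
      z • k • (pI : Cfsg.suzukiOvoid F m) = k • pI := by
    intro k z
    rw [← Sylow.smul_eq_iff_mem_normalizer, smul_smul, ← eq_inv_smul_iff.trans eq_comm, smul_smul,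
      eq_comm, Sylow.smul_eq_iff_mem_normalizer,
      show Subgroup.normalizer ((sylowU hG hm hF : Sylow 2 (Cfsg.Sz F m)) : Set (Cfsg.Sz F m)) =
        stabilizer (Cfsg.Sz F m) (pI : Cfsg.suzukiOvoid F m) from normalizer_U hG hm hF, mem_stabilizer_iff,
      mul_smul, inv_smul_eq_iff, mul_smul]
  constructor
  · intro hsol
    have hne : K ≠ ⊤ := by
      intro e
      have hs : Group.IsSolvable (Cfsg.Sz F m) := by
        rw [e] at hsol
        exact Group.isSolvable_of_surjective
          (f := (Subgroup.topEquiv (G := Cfsg.Sz F m)).toMonoidHom) (MulEquiv.surjective _)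
      have := isSimple hm hF
      have hcomm := IsSimpleGroup.comm_iff_isSolvable.mpr hs
      obtain ⟨d, -, -, hd⟩ := exists_sigma_ne hm hF
      have h2 := (commute_T_iff hG (a := 1) (b := 0) (c := d) (d := 0)).mp (hcomm _ _)
      rw [one_pow, one_mul, mul_one] at h2
      exact hd h2.symm
    rcases listed hm hF K hne with ⟨P, hP⟩ | ⟨A, hA, hcard, hM⟩ | ⟨_, _, _, k, h1, h2, -, h4, -⟩
    · obtain ⟨k, rfl⟩ := MulAction.exists_smul_eq (Cfsg.Sz F m) (sylowU hG hm hF) P
      exact Or.inl ⟨k • pI, (hpt k x).mp (hP hxK), (hpt k y).mp (hP hyK)⟩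
    · refine Or.inr ?_
      have h8 := eight_le hm hF
      rw [Nat.card_eq_fintype_card, hF] at h8
      obtain ⟨hfac, -, hlt⟩ := torus_facts hm
      have hlt1 : 1 < Nat.card A := by
        have key : ∀ Q s : ℕ, 8 ≤ Q → s < Q → 1 < Q - 1 ∧ 1 < Q + s + 1 ∧ 1 < Q - s + 1 :=
          fun Q s h1 h2 => by omega
        obtain ⟨k1, k2, k3⟩ := key _ _ h8 hlt
        rcases hcard with e | e | e <;> rw [e] <;> assumption
      have : Nontrivial A := Finite.one_lt_card_iff_nontrivial.mp hlt1
      obtain ⟨⟨c, hcA⟩, hc⟩ := exists_ne (1 : A)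
      have hc1 : c ≠ 1 := fun e => hc (Subtype.ext e)
      have hAc : A = Subgroup.centralizer {c} := by
        refine eq_centralizer_of_cyclic hm hF hA ?_ hcA hc1
        rw [Nat.card_eq_fintype_card (α := F), hF, ← hfac]
        rcases hcard with e | e | e
        · exact Or.inl e
        · exact Or.inr ⟨e ▸ dvd_mul_right _ _, Or.inl e⟩
        · exact Or.inr ⟨e ▸ dvd_mul_left _ _, Or.inr e⟩
      have hodd : Odd (orderOf c) := by
        refine Odd.of_dvd_nat ?_ (Subgroup.orderOf_mk c hcA ▸ orderOf_dvd_natCard _ :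
          orderOf c ∣ Nat.card A)
        have h1 : 2 ∣ 2 ^ (2 * m + 1) := dvd_pow_self 2 (by omega)
        have h2 : 2 ∣ 2 ^ (m + 1) := dvd_pow_self 2 (by omega)
        rw [Nat.odd_iff]
        rcases hcard with e | e | e <;> rw [e] <;> omega
      subst hAc
      exact ⟨c, ⟨hc1, hodd⟩, hM hxK, hM hyK⟩
    · rcases hp.eq_one_or_self_of_dvd _ h4 with e | e <;> omega
  · rintro (⟨p, hx, hy⟩ | ⟨c, hc, hx, hy⟩)
    · have := pretransitive (m := m) hG
      obtain ⟨k, rfl⟩ := MulAction.exists_smul_eq (Cfsg.Sz F m) (pI : Cfsg.suzukiOvoid F m) p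
      have hle : K ≤ (stabilizer (Cfsg.Sz F m) (pI : Cfsg.suzukiOvoid F m)).map
          (MulAut.conj k).toMonoidHom := by
        rw [Subgroup.closure_le]
        rintro z (rfl | rfl) <;>
          rw [SetLike.mem_coe, Subgroup.mem_map_equiv, MulAut.conj_symm_apply, mem_stabilizer_iff,
            mul_smul, mul_smul, inv_smul_eq_iff] <;> assumption
      have hB : Group.IsSolvable (stabilizer (Cfsg.Sz F m) (pI : Cfsg.suzukiOvoid F m)) := by
        refine solvable_of_comm_le _ (U hG) ?_ fun g hg h hh => ?_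
        · have := (U_isPGroup hG hF).isNilpotent
          infer_instance
        · obtain ⟨a, b, c, rfl⟩ := eq_T_mul_H hG hm hF hg
          obtain ⟨a', b', c', rfl⟩ := eq_T_mul_H hG hm hF hh
          have hprod : ∀ (x y x' y' : F) (d d' : Fˣ), ∃ u v, T hG x y * H hG d * (T hG x' y' * H hG d') =
              T hG u v * H hG (d * d') := fun x y x' y' d d' => ⟨_, _, by
            rw [mul_assoc, ← mul_assoc (H hG d), H_conj_T, mul_assoc, ← map_mul, ← mul_assoc, T_mul]⟩
          obtain ⟨u, v, e⟩ := hprod a b a' b' c c'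
          obtain ⟨u', v', e'⟩ := hprod a' b' a b c' c
          rw [show T hG a b * H hG c * (T hG a' b' * H hG c') * (T hG a b * H hG c)⁻¹ *
              (T hG a' b' * H hG c')⁻¹ = (T hG a b * H hG c * (T hG a' b' * H hG c')) *
              ((T hG a' b' * H hG c') * (T hG a b * H hG c))⁻¹ by simp [mul_assoc],
            e, e', mul_comm c' c, _root_.mul_inv_rev, mul_assoc, mul_inv_cancel_left]
          exact (U hG).mul_mem (T_mem hG _ _) ((U hG).inv_mem (T_mem hG _ _))
      have := Group.isSolvable_of_surjective (f := ((stabilizer (Cfsg.Sz F m) (pI : Cfsg.suzukiOvoid F m)).equivMapOfInjective (MulAut.conj k).toMonoidHom (MulAut.conj k).injective).toMonoidHom) (MulEquiv.surjective _)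
      exact Group.isSolvable_of_isSolvable_injective (Subgroup.inclusion_injective hle)
    · have hle : K ≤ Subgroup.normalizer (Subgroup.centralizer {c} : Set (Cfsg.Sz F m)) := by
        rw [Subgroup.closure_le]
        rintro z (rfl | rfl) <;> assumption
      have hN : Group.IsSolvable
          (Subgroup.normalizer (Subgroup.centralizer {c} : Set (Cfsg.Sz F m))) :=
        solvable_of_comm_le _ (Subgroup.centralizer {c})
          (Group.isSolvable_of_comm fun a b => Subtype.ext
            ((oddToriSelf hm hF).comm c hc.1 hc.2 a a.2 b b.2))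
          fun g hg h hh => comm_mem hm hF hc hg hh
      exact Group.isSolvable_of_isSolvable_injective (Subgroup.inclusion_injective hle)

end Cfsg.Agent.Suzuki
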