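import Cfsg.Agent.Suzuki.Sylow

/-!
Overgroups of the Sylow 2-subgroup, real 2-elements, and the trivial-intersection subgroups of its
centre.
-/

set_option autoImplicit false

namespace Cfsg.Agent.Suzuki

open Matrix Cfsg.Agent.RankOne.Ovoid MulAction
open scoped Pointwise

universe u

variable {F : Type u} [Field F] [Fintype F] {m : ℕ} (hG : Good F m)

/-- A subgroup containing the translations fixes `∞` or is everything. -/
theorem le_stabilizer_or_eq_top (hm : 1 ≤ m) (hF : Fintype.card F = 2 ^ (2 * m + 1))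
    (M : Subgroup (Cfsg.Sz F m)) (hM : U hG ≤ M) :
    M ≤ stabilizer (Cfsg.Sz F m) (pI : Cfsg.suzukiOvoid F m) ∨ M = ⊤ := by
  by_cases h : M ≤ stabilizer (Cfsg.Sz F m) (pI : Cfsg.suzukiOvoid F m)
  · exact Or.inl h
  refine Or.inr ?_
  obtain ⟨g, hg, hgne⟩ := SetLike.not_le_iff_exists.mp h
  have horb : ∀ p : Cfsg.suzukiOvoid F m, ∃ k ∈ M, k • (pI : Cfsg.suzukiOvoid F m) = p := by
    intro p
    by_cases hp : p = pI
    · exact ⟨1, M.one_mem, by rw [one_smul, hp]⟩
    · obtain ⟨⟨x, hx⟩, hxe, -⟩ := U_regular hG (p := g • pI) hgne hp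
      exact ⟨x * g, M.mul_mem (hM hx) hg, by rw [mul_smul]; exact hxe⟩
  have hN : Subgroup.normalClosure ((U hG : Subgroup (Cfsg.Sz F m)) : Set (Cfsg.Sz F m)) ≤ M := by
    rw [Subgroup.normalClosure, Subgroup.closure_le]
    intro y hy
    obtain ⟨x, hx, hxy⟩ := Group.mem_conjugatesOfSet_iff.mp hy
    obtain ⟨k, rfl⟩ := isConj_iff.mp hxy
    obtain ⟨l, hl, hle⟩ := horb (k • pI)
    have h1 := conj_mem_U hG hm hF (g := l⁻¹ * k) (by rw [mul_smul, ← hle, inv_smul_smul]) hx
    have h2 := M.mul_mem (M.mul_mem hl (hM h1)) (M.inv_mem hl)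
    simpa [mul_assoc] using h2
  have := isSimple (F := F) hm hF
  rcases Subgroup.Normal.eq_bot_or_eq_top
    (H := Subgroup.normalClosure ((U hG : Subgroup (Cfsg.Sz F m)) : Set (Cfsg.Sz F m))) inferInstance
    with e | e
  · have := Subgroup.le_normalClosure (T_mem hG (0 : F) 1)
    rw [e, Subgroup.mem_bot] at this
    exact absurd this (T_ne_one hG)
  · exact eq_top_iff.mpr (e ▸ hN)

include hG in
theorem U_isCoatom (hm : 1 ≤ m) (hF : Fintype.card F = 2 ^ (2 * m + 1)) :
    IsCoatom (stabilizer (Cfsg.Sz F m) (pI : Cfsg.suzukiOvoid F m)) := by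
  have hne : stabilizer (Cfsg.Sz F m) (pI : Cfsg.suzukiOvoid F m) ≠ ⊤ := fun h => by
    have : J hG • (pI : Cfsg.suzukiOvoid F m) = pI :=
      (h ▸ Subgroup.mem_top (J hG) : J hG ∈ stabilizer (Cfsg.Sz F m) (pI : Cfsg.suzukiOvoid F m))
    rw [J_pI] at this
    exact pP_ne_pI 0 0 this
  refine ⟨hne, fun M hM => ?_⟩
  exact (le_stabilizer_or_eq_top hG hm hF M ((U_le hG).trans hM.le)).resolve_left
    (not_le_of_gt hM)

theorem involution_of_real (hm : 1 ≤ m) (hF : Fintype.card F = 2 ^ (2 * m + 1))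
    {u g : Cfsg.Sz F m} (hu : u ∈ U hG) (h1 : u ≠ 1) (h : g * u * g⁻¹ = u⁻¹) : u * u = 1 := by
  have hfix := fix_of_conj_mem_U hG hu h1 (by rw [h]; exact (U hG).inv_mem hu)
  obtain ⟨x, y, c, rfl⟩ := eq_T_mul_H hG hm hF hfix
  obtain ⟨a, b, rfl⟩ := hu
  rw [mul_inv_eq_iff_eq_mul, mul_assoc, H_conj_T, ← mul_assoc, T_inv, ← mul_assoc, T_mul,
    T_mul] at h
  obtain ⟨e1, e2, -⟩ := T_H_inj hG h
  rw [T_sq]
  rcases eq_or_ne a 0 with rfl | ha
  · simp [T_zero]
  exfalso
  have hl : lam m (c : F) = 1 := (mul_eq_right₀ ha).mp (by linear_combination e1)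
  rw [lam_eq_one hG hl, Units.val_one, one_pow, one_mul] at e2
  simp only [lam, one_pow, div_one, one_mul] at e2
  obtain ⟨s, rfl⟩ : ∃ s, x = s * a := ⟨x / a, by field_simp⟩
  have hs : s ^ (2 ^ (m + 1)) + s = 1 := by
    apply mul_right_cancel₀ (mul_ne_zero (pow_ne_zero (2 ^ (m + 1)) ha) ha)
    rw [mul_pow] at e2
    have h2 := hG.two
    grind
  have hs2 : s ^ 2 + s ^ (2 ^ (m + 1)) = 1 := by
    have := congrArg (fun z : F => z ^ (2 ^ (m + 1))) hs
    simpa [hG.add, hG.sq] using this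
  rcases eq_or_ne s 0 with rfl | hs0
  · simp [zero_pow sigma_ne_zero] at hs
  · have h3 : s = 1 := by
      apply mul_left_cancel₀ hs0
      rw [mul_one]
      linear_combination hs2 - hs
    rw [h3, one_pow] at hs
    have h2 := hG.two
    exact one_ne_zero (α := F) (by rw [← hs]; linear_combination h2)

theorem fst_eq_zero {a b : F} (h : T hG a b * T hG a b = 1) : a = 0 := by
  rw [T_sq, ← T_zero hG] at h
  rcases mul_eq_zero.mp (T_inj hG h).2 with h1 | h1
  · exact eq_zero_of_pow_eq_zero h1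
  · exact h1

/-- The subfield with `2 ^ n` elements. -/
theorem exists_subfield {d n : ℕ} (hF : Fintype.card F = 2 ^ d) (hn : n ∣ d) :
    ∃ K : Subfield F, Nat.card K = 2 ^ n := by
  classical
  have : Fact (Nat.Prime 2) := ⟨Nat.prime_two⟩
  have : CharP F 2 := charP_of_card_eq_prime_pow hF
  let K : Subfield F :=
    { carrier := {x | x ^ (2 ^ n) = x}
      mul_mem' := fun {x y} hx hy => by
        show (x * y) ^ (2 ^ n) = x * y
        rw [mul_pow, hx, hy]
      one_mem' := one_pow _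
      add_mem' := fun {x y} hx hy => by
        show (x + y) ^ (2 ^ n) = x + y
        rw [add_pow_char_pow, hx, hy]
      zero_mem' := zero_pow (by positivity)
      neg_mem' := fun {x} hx => by rw [CharTwo.neg_eq]; exact hx
      inv_mem' := fun x hx => by
        show x⁻¹ ^ (2 ^ n) = x⁻¹
        rw [inv_pow, hx] }
  refine ⟨K, ?_⟩
  have hker : Nat.card (powMonoidHom (2 ^ n - 1) : Fˣ →* Fˣ).ker = 2 ^ n - 1 := by
    rw [IsCyclic.card_powMonoidHom_ker, Nat.card_units, Nat.card_eq_fintype_card, hF]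
    exact Nat.gcd_eq_right (Nat.pow_sub_one_dvd_pow_sub_one 2 hn)
  have hu : ∀ u : Fˣ, u ^ (2 ^ n - 1) = 1 ↔ (u : F) ∈ K := fun u => by
    show _ ↔ (u : F) ^ (2 ^ n) = u
    have e : (2 : ℕ) ^ n = 2 ^ n - 1 + 1 := (Nat.sub_add_cancel Nat.one_le_two_pow).symm
    conv_rhs => rw [e, pow_succ]
    rw [mul_eq_right₀ u.ne_zero, ← Units.val_pow_eq_pow_val, Units.val_eq_one]
  let φ : Option (powMonoidHom (2 ^ n - 1) : Fˣ →* Fˣ).ker → K :=
    fun o => o.elim 0 fun u => ⟨((u : Fˣ) : F), (hu u).mp u.2⟩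
  have hφ : Function.Bijective φ := by
    refine ⟨?_, fun x => ?_⟩
    · rintro (_ | u) (_ | u') h
      · rfl
      · exact absurd (congrArg Subtype.val h).symm (Units.ne_zero _)
      · exact absurd (congrArg Subtype.val h) (Units.ne_zero _)
      · exact congrArg some (Subtype.ext (Units.ext (congrArg Subtype.val h)))
    · rcases eq_or_ne (x : F) 0 with h0 | h0
      · exact ⟨none, Subtype.ext h0.symm⟩
      · exact ⟨some ⟨Units.mk0 _ h0, (hu _).mpr x.2⟩, Subtype.ext rfl⟩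
  rw [← Nat.card_eq_of_bijective φ hφ, Finite.card_option, hker,
    Nat.sub_add_cancel Nat.one_le_two_pow]

/-- A set closed under the multipliers that do not move it is a line over a subfield. -/
theorem dvd_of_rigid {d n : ℕ} (hF : Fintype.card F = 2 ^ d) (E : AddSubgroup F)
    (hE : Nat.card E = 2 ^ n) (hn : 1 ≤ n)
    (hrig : ∀ μ : F, μ ≠ 0 → (∃ f ∈ E, f ≠ 0 ∧ μ * f ∈ E) → ∀ f ∈ E, μ * f ∈ E) : n ∣ d := by
  classical
  obtain ⟨e, he, he0⟩ : ∃ e ∈ E, e ≠ 0 := by
    by_contra hcon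
    push Not at hcon
    have : E = ⊥ := eq_bot_iff.mpr fun x hx => by simpa using hcon x hx
    rw [this, AddSubgroup.card_bot] at hE
    have : 2 ^ 1 ≤ 2 ^ n := Nat.pow_le_pow_right (by norm_num) hn
    omega
  let K : Subfield F :=
    { carrier := {μ | ∀ f ∈ E, μ * f ∈ E}
      mul_mem' := fun {x y} hx hy f hf => by rw [mul_assoc]; exact hx _ (hy _ hf)
      one_mem' := fun f hf => by rwa [one_mul]
      add_mem' := fun {x y} hx hy f hf => by rw [add_mul]; exact E.add_mem (hx _ hf) (hy _ hf)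
      zero_mem' := fun f _ => by rw [zero_mul]; exact E.zero_mem
      neg_mem' := fun {x} hx f hf => by rw [neg_mul]; exact E.neg_mem (hx _ hf)
      inv_mem' := fun x hx f hf => by
        rcases eq_or_ne x 0 with rfl | hx0
        · rw [_root_.inv_zero, zero_mul]; exact E.zero_mem
        · obtain ⟨⟨g, hg⟩, hgf⟩ := Finite.surjective_of_injective
            (f := fun g : E => (⟨x * g, hx _ g.2⟩ : E))
            (fun g g' h => Subtype.ext (mul_left_cancel₀ hx0 (congrArg Subtype.val h))) ⟨f, hf⟩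
          have : x * g = f := congrArg Subtype.val hgf
          rwa [← this, inv_mul_cancel_left₀ hx0] }
  have hK : Nat.card K = 2 ^ n := by
    rw [← hE]
    refine Nat.card_eq_of_bijective (fun μ : K => (⟨(μ : F) * e, μ.2 e he⟩ : E))
      ⟨fun μ μ' h => Subtype.ext (mul_right_cancel₀ he0 (congrArg Subtype.val h)), fun f => ?_⟩
    by_cases hf : (f : F) = 0
    · exact ⟨0, Subtype.ext (by simp [hf])⟩
    · refine ⟨⟨(f : F) / e, hrig _ (div_ne_zero hf he0) ⟨e, he, he0, ?_⟩⟩, Subtype.ext ?_⟩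
      · rw [div_mul_cancel₀ _ he0]; exact f.2
      · exact div_mul_cancel₀ _ he0
  have := Fintype.ofFinite K
  have hpow := Module.card_eq_pow_finrank (K := K) (V := F)
  rw [hF, ← Nat.card_eq_fintype_card (α := K), hK, ← pow_mul] at hpow
  exact ⟨_, Nat.pow_right_injective le_rfl hpow⟩

end Cfsg.Agent.Suzuki
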