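import Mathlib

/-!
The arithmetic in the classification of subgroups of the Suzuki group.
-/

set_option autoImplicit false

namespace Cfsg.Agent.Suzuki

theorem odd_dvd_two_pow {i n : ℕ} (hi : Odd i) (h : (i : ℤ) ∣ ((2 ^ n : ℕ) : ℤ)) : i = 1 := by
  have h' : i ∣ 2 ^ n := Int.natCast_dvd_natCast.mp h
  obtain ⟨l, -, rfl⟩ := (Nat.dvd_prime_pow Nat.prime_two).mp h'
  rcases l with _ | l
  · rfl
  · rw [pow_succ] at hi
    exact absurd (even_two.mul_left _) (Nat.not_even_iff_odd.mpr hi)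

theorem no_empty {Q t r : ℕ} (hQ : 8 ≤ Q) (ht : 5 ≤ t) (hr : 0 < r)
    (h : 2 + Q * r = r * (Q * t) + 2 * r) : False := by
  have : Q * r * 5 ≤ r * (Q * t) := by
    calc Q * r * 5 ≤ Q * r * t := Nat.mul_le_mul_left _ ht
      _ = _ := by ring
  have : 8 * 1 ≤ Q * r := Nat.mul_le_mul hQ hr
  omega

theorem one_class_one {Q t r a R : ℕ} (ha : 5 ≤ a) (hlt : 2 * R < Q * t * r)
    (hc : R * (1 * a) = (a - 1) * (Q * t * r)) : False := by
  obtain ⟨b, rfl⟩ : ∃ b, a = b + 1 := ⟨a - 1, by omega⟩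
  rw [Nat.add_sub_cancel, one_mul] at hc
  nlinarith

theorem one_class_two {Q t r a i R : ℕ} (ha : 5 ≤ a) (ht : 5 ≤ t) (hi : Odd i) (hr : r = a * i)
    (hR : 2 * R + 2 + Q * r = r * (Q * t) + 2 * r) (hc : R * (2 * a) = (a - 1) * (Q * t * r)) :
    (Q = t + 1 → a = t + 2) ∧ (Q = (t + 1) ^ 2 → False) := by
  have eR : 2 * (R : ℤ) + 2 + Q * r = r * (Q * t) + 2 * r := by exact_mod_cast hR
  have eC : (R : ℤ) * (2 * a) = ((a : ℤ) - 1) * (Q * t * r) := by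
    have := congrArg (Nat.cast : ℕ → ℤ) hc
    push_cast [Nat.cast_sub (show 1 ≤ a by omega)] at this
    exact this
  have er : (r : ℤ) = a * i := by exact_mod_cast hr
  have ha0 : (a : ℤ) ≠ 0 := by exact_mod_cast (show a ≠ 0 by omega)
  have h1 : (i : ℤ) * ((Q : ℤ) * t - a * (Q - 2)) = 2 := by
    refine mul_left_cancel₀ ha0 ?_
    linear_combination eC - (a : ℤ) * eR + (-(Q : ℤ) * t + a * (Q - 2)) * er
  have hi1 : i = 1 := odd_dvd_two_pow (n := 1) hi ⟨_, by rw [h1]; norm_num⟩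
  rw [hi1, Nat.cast_one, one_mul] at h1
  have h5 : (5 : ℤ) ≤ t := by exact_mod_cast ht
  refine ⟨fun eQ => ?_, fun eQ => ?_⟩
  · rw [eQ] at h1
    push_cast at h1
    have hat : (a : ℤ) = (t : ℤ) + 2 :=
      mul_right_cancel₀ (show (t : ℤ) - 1 ≠ 0 by linarith) (by linear_combination -h1)
    exact_mod_cast hat
  · rw [eQ] at h1
    push_cast at h1
    have hpos : (0 : ℤ) ≤ ((t : ℤ) + 1) ^ 2 - 2 := by nlinarith
    rcases le_or_gt (a : ℤ) t with hle | hgt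
    · nlinarith [mul_le_mul_of_nonneg_right hle hpos]
    · nlinarith [mul_le_mul_of_nonneg_right (show (t : ℤ) + 1 ≤ a by linarith) hpos]

theorem one_class_four {Q t r a i R : ℕ} (ha : 5 ≤ a) (ht : 5 ≤ t) (hQ : 8 ≤ Q) (hi : Odd i)
    (hr : r = a * i) (hR : 2 * R + 2 + Q * r = r * (Q * t) + 2 * r)
    (hc : R * (4 * a) = (a - 1) * (Q * t * r)) : False := by
  have eR : 2 * (R : ℤ) + 2 + Q * r = r * (Q * t) + 2 * r := by exact_mod_cast hR
  have eC : (R : ℤ) * (4 * a) = ((a : ℤ) - 1) * (Q * t * r) := by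
    have := congrArg (Nat.cast : ℕ → ℤ) hc
    push_cast [Nat.cast_sub (show 1 ≤ a by omega)] at this
    exact this
  have er : (r : ℤ) = a * i := by exact_mod_cast hr
  have ha0 : (a : ℤ) ≠ 0 := by exact_mod_cast (show a ≠ 0 by omega)
  have h1 : (i : ℤ) * ((Q : ℤ) * t * (a + 1) - a * (2 * Q - 4)) = 4 := by
    refine mul_left_cancel₀ ha0 ?_
    linear_combination eC - 2 * (a : ℤ) * eR + (-(Q : ℤ) * t * (a + 1) + a * (2 * Q - 4)) * er
  have hi1 : i = 1 := odd_dvd_two_pow (n := 2) hi ⟨_, by rw [h1]; norm_num⟩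
  rw [hi1, Nat.cast_one, one_mul] at h1
  have h5 : (5 : ℤ) ≤ t := by exact_mod_cast ht
  have h8 : (8 : ℤ) ≤ Q := by exact_mod_cast hQ
  nlinarith [mul_le_mul_of_nonneg_left h5 (show (0 : ℤ) ≤ (Q : ℤ) * a by positivity),
    mul_le_mul h8 h5 (by norm_num) (by linarith)]

theorem two_class_eq {Q t r a b i A B : ℕ} (ha : 5 ≤ a) (hb : 5 ≤ b) (hi : Odd i)
    (hr : r = a * b * i) (eQ : Q = (t + 1) ^ 2) (ht : 5 ≤ t)
    (hR : 2 * (A + B) + 2 + Q * r = r * (Q * t) + 2 * r)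
    (hA : A * (4 * a) = (a - 1) * (Q * t * r)) (hB : B * (4 * b) = (b - 1) * (Q * t * r)) :
    r = a * b ∧ (a + b) * ((t + 1) ^ 2 * (t + 1 - 1)) = 2 * r * ((t + 1) ^ 2 - 2) + 4 := by
  have eR : 2 * ((A : ℤ) + B) + 2 + Q * r = r * (Q * t) + 2 * r := by exact_mod_cast hR
  have eA : (A : ℤ) * (4 * a) = ((a : ℤ) - 1) * (Q * t * r) := by
    have := congrArg (Nat.cast : ℕ → ℤ) hA
    push_cast [Nat.cast_sub (show 1 ≤ a by omega)] at this
    exact this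
  have eB : (B : ℤ) * (4 * b) = ((b : ℤ) - 1) * (Q * t * r) := by
    have := congrArg (Nat.cast : ℕ → ℤ) hB
    push_cast [Nat.cast_sub (show 1 ≤ b by omega)] at this
    exact this
  have er : (r : ℤ) = a * b * i := by exact_mod_cast hr
  have h1 : (i : ℤ) * (((a : ℤ) + b) * (Q * t) - 2 * a * b * (Q - 2)) = 4 := by
    refine mul_left_cancel₀ (show (a : ℤ) * b ≠ 0 from
      mul_ne_zero (by exact_mod_cast (show a ≠ 0 by omega)) (by exact_mod_cast (show b ≠ 0 by omega))) ?_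
    linear_combination (b : ℤ) * eA + (a : ℤ) * eB - 2 * (a : ℤ) * b * eR -
      (((a : ℤ) + b) * (Q * t) - 2 * a * b * (Q - 2)) * er
  have hi1 : i = 1 := odd_dvd_two_pow (n := 2) hi ⟨_, by rw [h1]; norm_num⟩
  rw [hi1, Nat.cast_one, one_mul] at h1
  rw [hi1, mul_one] at hr
  refine ⟨hr, ?_⟩
  rw [Nat.add_sub_cancel]
  rw [eQ] at h1
  have h2 : (2 : ℕ) ≤ (t + 1) ^ 2 := by nlinarith
  have := congrArg (Nat.cast : ℕ → ℤ) hr
  have hz : (((a + b) * ((t + 1) ^ 2 * t) : ℕ) : ℤ) =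
      ((2 * r * ((t + 1) ^ 2 - 2) + 4 : ℕ) : ℤ) := by
    push_cast [Nat.cast_sub h2] at h1 this ⊢
    linear_combination h1 - 2 * (((t : ℤ) + 1) ^ 2 - 2) * this
  exact_mod_cast hz

end Cfsg.Agent.Suzuki
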