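import Cfsg.Agent.Suzuki.SubgroupList
import Cfsg.Agent.Suzuki.Fusion
import Cfsg.Agent.Suzuki.Aut
import Cfsg.Agent.Suzuki.SubgroupArith

/-!
Every proper subgroup of the Suzuki group lies in a standard one.
-/

set_option autoImplicit false

namespace Cfsg.Agent.Suzuki

open Matrix Cfsg.Agent.RankOne.Ovoid MulAction
open scoped Pointwise

universe u

variable {F : Type u} [Field F] [Fintype F] {m : ℕ} (hm : 1 ≤ m)
  (hF : Fintype.card F = 2 ^ (2 * m + 1))

include hm hF

/-- Two involutions of a subgroup with different fixed points are conjugate in it. -/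
theorem inv_conj {M : Subgroup (Cfsg.Sz F m)} {x y : Cfsg.Sz F m} (hxM : x ∈ M) (hyM : y ∈ M)
    (hx : x ∈ U (good_of_card (m := m) hF)) (hx1 : x ≠ 1) (hx2 : x * x = 1) (hy2 : y * y = 1)
    (hy : y ∉ U (good_of_card (m := m) hF)) : ∃ k ∈ M, k * x * k⁻¹ = y := by
  have hG := good_of_card (m := m) hF
  set n := orderOf (x * y) with hn
  rcases Nat.even_or_odd n with ⟨j, hj⟩ | ⟨j, hj⟩
  · exfalso
    have hpos : 0 < n := orderOf_pos _
    set z := (x * y) ^ j with hz
    have hz2 : z * z = 1 := by rw [hz, ← pow_add, ← hj, hn, pow_orderOf_eq_one]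
    have hz1 : z ≠ 1 := fun e => by
      have := Nat.le_of_dvd (by omega) (orderOf_dvd_of_pow_eq_one e)
      omega
    have hconj : ∀ u : Cfsg.Sz F m, u * (x * y) * u⁻¹ = (x * y)⁻¹ → u * z = z * u := fun u hu => by
      have h1 : u * z * u⁻¹ = z⁻¹ := by rw [hz, ← conj_pow, hu, inv_pow]
      rw [inv_eq_of_mul_eq_one_right hz2, mul_inv_eq_iff_eq_mul] at h1
      exact h1
    have hxi : x⁻¹ = x := inv_eq_of_mul_eq_one_right hx2
    have hyi : y⁻¹ = y := inv_eq_of_mul_eq_one_right hy2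
    have hcx := hconj x (by
      rw [hxi, _root_.mul_inv_rev, hxi, hyi, ← mul_assoc, hx2, one_mul])
    have hcy := hconj y (by
      rw [hyi, _root_.mul_inv_rev, hxi, hyi, mul_assoc, mul_assoc, hy2, mul_one])
    have hzU : z ∈ U hG := centralizer_le_U hG hm hF hx hx1
      (Subgroup.mem_centralizer_singleton_iff.mpr hcx.symm)
    exact hy (centralizer_le_U hG hm hF hzU hz1 (Subgroup.mem_centralizer_singleton_iff.mpr hcy))
  · have hxi : x⁻¹ = x := inv_eq_of_mul_eq_one_right hx2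
    have hyi : y⁻¹ = y := inv_eq_of_mul_eq_one_right hy2
    set w := (x * y) ^ (j + 1) with hw
    refine ⟨x * w, M.mul_mem hxM (M.pow_mem (M.mul_mem hxM hyM) _), ?_⟩
    have hinv : x * (x * y) * x⁻¹ = (x * y)⁻¹ := by
      rw [hxi, _root_.mul_inv_rev, hxi, hyi, ← mul_assoc, hx2, one_mul]
    have h1 : x * w⁻¹ = w * x := by
      have : x * w * x⁻¹ = w⁻¹ := by rw [hw, ← conj_pow, hinv, inv_pow]
      rw [← this, hxi, ← mul_assoc, ← mul_assoc, hx2, one_mul]
    have hww : w * w = x * y := by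
      rw [hw, ← pow_add, show j + 1 + (j + 1) = n + 1 by omega, pow_succ, hn, pow_orderOf_eq_one,
        one_mul]
    calc x * w * x * (x * w)⁻¹ = x * (w * (x * w⁻¹)) * x⁻¹ := by simp [mul_assoc]
      _ = x * (x * y * x) * x⁻¹ := by rw [h1, ← mul_assoc w, hww]
      _ = y := by
        rw [hxi]
        simp only [← mul_assoc]
        rw [hx2, one_mul, mul_assoc, hx2, mul_one]

theorem conj_U_TH {w : Cfsg.Sz F m} (hw : w ∈ U (good_of_card (m := m) hF)) (a b : F) (c : Fˣ) :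
    ∃ a' b', w * (T (good_of_card (m := m) hF) a b * H (good_of_card (m := m) hF) c) * w⁻¹ =
      T (good_of_card (m := m) hF) a' b' * H (good_of_card (m := m) hF) c := by
  have hG := good_of_card (m := m) hF
  obtain ⟨x, y, rfl⟩ := hw
  rw [T_inv, mul_assoc, mul_assoc (T hG a b), H_conj_T, ← mul_assoc, ← mul_assoc, T_mul, T_mul]
  exact ⟨_, _, rfl⟩

theorem involution_form {y : Cfsg.Sz F m} (hy : y ∈ U (good_of_card (m := m) hF))
    (h2 : y * y = 1) : ∃ b, y = T (good_of_card (m := m) hF) 0 b := by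
  obtain ⟨a, b, rfl⟩ := hy
  exact ⟨b, by rw [fst_eq_zero _ h2]⟩

/-- All involutions of `M` are conjugate in it, and its `2`-elements move into `U`. -/
theorem fusion_facts {M : Subgroup (Cfsg.Sz F m)} (hT01 : T (good_of_card (m := m) hF) 0 1 ∈ M)
    (hMB : ¬ M ≤ (stabilizer (Cfsg.Sz F m) (pI : Cfsg.suzukiOvoid F m))) :
    (∀ y ∈ M, y ≠ 1 → y * y = 1 → ∃ k ∈ M, k * T (good_of_card (m := m) hF) 0 1 * k⁻¹ = y) ∧
      ∀ x : Cfsg.Sz F m, x ∈ M → x ≠ 1 → orderOf x ∣ 4 → ∃ k ∈ M, k * x * k⁻¹ ∈ U (good_of_card (m := m) hF) := by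
  classical
  have hG := good_of_card (m := m) hF
  have : Fact (Nat.Prime 2) := ⟨Nat.prime_two⟩
  obtain ⟨g0, hg0M, hg0B⟩ := SetLike.not_le_iff_exists.mp hMB
  have h01 := T_ne_one hG
  have h012 : T hG (0 : F) 1 * T hG 0 1 = 1 := by
    rw [T_sq]; simp [sigma_ne_zero, T_zero]
  -- an involution of `M` outside `U`
  obtain ⟨z, hzM, hz2, hzU⟩ : ∃ z ∈ M, z * z = 1 ∧ z ∉ U hG := by
    refine ⟨g0 * T hG 0 1 * g0⁻¹, M.mul_mem (M.mul_mem hg0M hT01) (M.inv_mem hg0M), ?_,
      fun h => hg0B (fix_of_conj_mem_U hG (T_mem hG 0 1) h01 h)⟩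
    rw [show g0 * T hG 0 1 * g0⁻¹ * (g0 * T hG 0 1 * g0⁻¹) = g0 * (T hG 0 1 * T hG 0 1) * g0⁻¹ by
      simp [mul_assoc], h012, mul_one, mul_inv_cancel]
  have hz1 : z ≠ 1 := fun e => hzU (e ▸ (U hG).one_mem)
  have hfusion : ∀ y ∈ M, y ≠ 1 → y * y = 1 → ∃ k ∈ M, k * T hG 0 1 * k⁻¹ = y := by
    intro y hy hy1 hy2
    by_cases hyU : y ∈ U hG
    · obtain ⟨k, hk, hke⟩ := inv_conj hm hF hT01 hzM (T_mem hG 0 1) h01 h012 hz2 hzU
      obtain ⟨l, hl, hle⟩ := inv_conj hm hF hy hzM hyU hy1 hy2 hz2 hzU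
      refine ⟨l⁻¹ * k, M.mul_mem (M.inv_mem hl) hk, ?_⟩
      rw [show l⁻¹ * k * T hG 0 1 * (l⁻¹ * k)⁻¹ = l⁻¹ * (k * T hG 0 1 * k⁻¹) * l by simp [mul_assoc],
        hke, ← hle]
      simp [mul_assoc]
    · exact inv_conj hm hF hT01 hy (T_mem hG 0 1) h01 h012 hy2 hyU
  have htwoconj : ∀ x : Cfsg.Sz F m, x ∈ M → x ≠ 1 → orderOf x ∣ 4 →
      ∃ k ∈ M, k * x * k⁻¹ ∈ U hG := by
    intro x hx hx1 h4
    obtain ⟨w0, hw0M, hw01, hw02, hcomm⟩ : ∃ w0 ∈ M, w0 ≠ 1 ∧ w0 * w0 = 1 ∧ x * w0 = w0 * x := by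
      have hx4 : x ^ 4 = 1 := orderOf_dvd_iff_pow_eq_one.mp h4
      by_cases h2 : x * x = 1
      · exact ⟨x, hx, hx1, h2, rfl⟩
      · exact ⟨x * x, M.mul_mem hx hx, h2, by rw [← hx4]; simp [pow_succ, mul_assoc], by rw [mul_assoc]⟩
    obtain ⟨k, hk, hke⟩ := hfusion w0 hw0M hw01 hw02
    refine ⟨k⁻¹, M.inv_mem hk, centralizer_le_U hG hm hF (T_mem hG 0 1) h01
      (Subgroup.mem_centralizer_singleton_iff.mpr ?_)⟩
    have hke' : T hG 0 1 = k⁻¹ * w0 * k := by rw [← hke]; simp [mul_assoc]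
    rw [hke', inv_inv]
    calc k⁻¹ * x * k * (k⁻¹ * w0 * k) = k⁻¹ * (x * w0) * k := by simp [mul_assoc]
      _ = k⁻¹ * w0 * k * (k⁻¹ * x * k) := by rw [hcomm]; simp [mul_assoc]
  exact ⟨hfusion, htwoconj⟩

/-- Order and 2-part of `M`. -/
theorem two_part {M : Subgroup (Cfsg.Sz F m)} (hT01 : T (good_of_card (m := m) hF) 0 1 ∈ M) (hC : ∀ a b c, T (good_of_card (m := m) hF) a b * H (good_of_card (m := m) hF) c ∈ M → H (good_of_card (m := m) hF) c ∈ M)
    (hMB : ¬ M ≤ (stabilizer (Cfsg.Sz F m) (pI : Cfsg.suzukiOvoid F m)))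
    (htwoconj : ∀ x : Cfsg.Sz F m, x ∈ M → x ≠ 1 → orderOf x ∣ 4 → ∃ k ∈ M, k * x * k⁻¹ ∈ U (good_of_card (m := m) hF)) :
    ∃ r, Odd r ∧ r ≠ 1 ∧ r = ((stabilizer (Cfsg.Sz F m) (pI : Cfsg.suzukiOvoid F m)).subgroupOf M).index ∧
      Nat.card M = Nat.card ((U (good_of_card (m := m) hF)).subgroupOf M) * Nat.card (M.comap (H (good_of_card (m := m) hF))) * r ∧
      1 + (Nat.card ((U (good_of_card (m := m) hF)).subgroupOf M) - 1) * r + Nat.card {x : M | OddTori.IsTor x} =
        Nat.card ((U (good_of_card (m := m) hF)).subgroupOf M) * Nat.card (M.comap (H (good_of_card (m := m) hF))) * r ∧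
      (∀ j, 2 ^ j ∣ Nat.card M → 2 ^ j ∣ Nat.card ((U (good_of_card (m := m) hF)).subgroupOf M)) ∧
      (∃ j, Nat.card ((U (good_of_card (m := m) hF)).subgroupOf M) = 2 ^ j) ∧ 2 ≤ Nat.card ((U (good_of_card (m := m) hF)).subgroupOf M) := by
  classical
  have hG := good_of_card (m := m) hF
  have : Fact (Nat.Prime 2) := ⟨Nat.prime_two⟩
  set B := stabilizer (Cfsg.Sz F m) (pI : Cfsg.suzukiOvoid F m) with hBdef
  have h01 := T_ne_one hG
  set Qs := (U hG).subgroupOf M with hQdef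
  set Q := Nat.card Qs with hQcard
  set C := M.comap (H hG) with hCdef
  set t := Nat.card C with htcard
  have hmemB : ∀ g : Cfsg.Sz F m, g ∈ M → g ∈ B →
      ∃ u ∈ U hG, u ∈ M ∧ ∃ c ∈ C, g = u * H hG c := fun g hg hgB => by
    obtain ⟨a, b, c, rfl⟩ := eq_T_mul_H hG hm hF hgB
    have hc := hC a b c hg
    exact ⟨_, T_mem hG a b, (M.mul_mem_cancel_right hc).mp hg, c, hc, rfl⟩
  have hcardB : Nat.card (B.subgroupOf M) = Q * t := by
    rw [hQcard, htcard, ← Nat.card_prod]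
    refine (Nat.card_eq_of_bijective (fun p : Qs × C =>
      (⟨⟨((p.1 : M) : Cfsg.Sz F m) * H hG p.2, M.mul_mem (p.1 : M).2 p.2.2⟩,
        B.mul_mem (U_le hG p.1.2) (H_pI hG _)⟩ : B.subgroupOf M)) ⟨?_, ?_⟩).symm
    · rintro ⟨⟨⟨u, huM⟩, huU⟩, c⟩ ⟨⟨⟨u', huM'⟩, huU'⟩, c'⟩ h
      have h' : u * H hG c = u' * H hG c' := congrArg (fun z : B.subgroupOf M => ((z : M) : Cfsg.Sz F m)) h
      obtain ⟨a, b, hab⟩ := (show ∃ a b, u = T hG a b from huU)
      obtain ⟨a', b', hab'⟩ := (show ∃ a b, u' = T hG a b from huU')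
      rw [hab, hab'] at h'
      obtain ⟨e1, e2, e3⟩ := T_H_inj hG h'
      refine Prod.ext (Subtype.ext (Subtype.ext ?_)) (Subtype.ext e3)
      show u = u'
      rw [hab, hab', e1, e2]
    · rintro ⟨⟨g, hgM⟩, hgB⟩
      obtain ⟨u, hu, huM, c, hc, rfl⟩ := hmemB g hgM hgB
      exact ⟨(⟨⟨u, huM⟩, hu⟩, ⟨c, hc⟩), rfl⟩
  set r := (B.subgroupOf M).index with hrdef
  have hMcard : Nat.card M = Q * t * r := by
    rw [← Subgroup.card_mul_index (B.subgroupOf M), hcardB]
  have hpos : 0 < Q ∧ 0 < t ∧ 0 < r := by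
    have := Nat.card_pos (α := M)
    rw [hMcard] at this
    exact ⟨Nat.pos_of_mul_pos_right (Nat.pos_of_mul_pos_right this),
      Nat.pos_of_mul_pos_left (Nat.pos_of_mul_pos_right this), Nat.pos_of_mul_pos_left this⟩
  have hr1 : r ≠ 1 := fun e => hMB fun g hg => by
    have := Subgroup.index_eq_one.mp (hrdef ▸ e)
    exact (this ▸ Subgroup.mem_top (⟨g, hg⟩ : M) : (⟨g, hg⟩ : M) ∈ B.subgroupOf M)
  have hT := oddTori hm hF M
  -- the 2-elements
  have hset : {x : M | x ≠ 1 ∧ orderOf x ∣ 4} = clsOf Qs := by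
    ext x
    constructor
    · rintro ⟨hx1, hx4⟩
      obtain ⟨k, hk, hkx⟩ := htwoconj x x.2 (fun e => hx1 (Subtype.ext e))
        (by rwa [Subgroup.orderOf_coe])
      refine ⟨⟨k, hk⟩⁻¹, ⟨k, hk⟩ * x * ⟨k, hk⟩⁻¹, hkx, fun e => hx1 ?_, by simp [mul_assoc]⟩
      simpa [mul_inv_eq_one, mul_eq_left] using e
    · rintro ⟨k, u, hu, hu1, rfl⟩
      refine ⟨fun e => hu1 (by simpa [mul_inv_eq_one, mul_eq_left] using e), ?_⟩
      rw [show k * u * k⁻¹ = MulAut.conj k u from rfl, MulEquiv.orderOf_eq, ← Subgroup.orderOf_coe]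
      exact orderOf_dvd_four (k := 1) hF (by simpa [Subgroup.mem_subgroupOf, hQdef] using hu)
  have hNQ : Subgroup.normalizer (Qs : Set M) = B.subgroupOf M := by
    ext k
    refine ⟨fun hk => ?_, fun hk => ?_⟩
    · exact fix_of_conj_mem_U hG (T_mem hG 0 1) h01
        ((Subgroup.mem_normalizer_iff.mp hk ⟨_, hT01⟩).mp (T_mem hG 0 1))
    · refine Subgroup.mem_normalizer_iff.mpr fun u => ⟨fun hu => conj_mem_U hG hm hF hk hu, fun hu => ?_⟩
      have hinv : ((k : Cfsg.Sz F m))⁻¹ • (pI : Cfsg.suzukiOvoid F m) = pI :=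
        inv_smul_eq_iff.mpr (hk : (k : Cfsg.Sz F m) ∈ B).symm
      show (u : Cfsg.Sz F m) ∈ U hG
      simpa [mul_assoc] using conj_mem_U hG hm hF hinv hu
  have hn2 : Nat.card {x : M | x ≠ 1 ∧ orderOf x ∣ 4} = (Q - 1) * r := by
    have h := card_clsOf Qs (fun u hu hu1 k hk => by
      rw [hNQ]
      exact fix_of_conj_mem_U hG hu (fun e => hu1 (Subtype.ext e)) hk)
    rw [hNQ, hcardB, hMcard, ← hset, ← hQcard] at h
    refine Nat.eq_of_mul_eq_mul_right (Nat.mul_pos hpos.1 hpos.2.1) ?_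
    rw [h]; ring
  have hsplit := hT.card_split
  rw [hn2, hMcard] at hsplit
  -- the 2-part
  have htwo : ∀ P : Subgroup M, IsPGroup 2 P → Nat.card P ∣ Q := by
    intro P hP
    rcases subsingleton_or_nontrivial P with hs | hnt
    · rw [Nat.card_of_subsingleton (1 : P)]; exact one_dvd _
    have := hP.center_nontrivial
    obtain ⟨c, hc⟩ := exists_ne (1 : Subgroup.center P)
    have hc1 : (((c : P) : M) : Cfsg.Sz F m) ≠ 1 := fun e =>
      hc (Subtype.ext (Subtype.ext (Subtype.ext e)))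
    have hc4 : orderOf (((c : P) : M) : Cfsg.Sz F m) ∣ 4 := by
      refine (odd_or_two hm hF hc1).resolve_right fun ho => ?_
      obtain ⟨j, hj⟩ := IsPGroup.iff_orderOf.mp hP (c : P)
      rw [Subgroup.orderOf_coe, Subgroup.orderOf_coe] at ho
      rw [hj] at ho
      rcases j with _ | j
      · exact hc (Subtype.ext (orderOf_eq_one_iff.mp (by rw [hj, pow_zero])))
      · rw [pow_succ] at ho
        exact Nat.not_even_iff_odd.mpr ho (even_two.mul_left _)
    obtain ⟨k, hk, hkc⟩ := htwoconj _ ((c : P) : M).2 hc1 hc4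
    have hle : P.map (MulAut.conj (⟨k, hk⟩ : M)).toMonoidHom ≤ Qs := by
      rintro _ ⟨x, hx, rfl⟩
      refine centralizer_le_U hG hm hF hkc
        (fun e => hc1 (by simpa [mul_inv_eq_one, mul_eq_left] using e))
        (Subgroup.mem_centralizer_singleton_iff.mpr ?_)
      have := congrArg (fun w : P => ((w : M) : Cfsg.Sz F m)) (Subgroup.mem_center_iff.mp c.2 ⟨x, hx⟩)
      simp only [Subgroup.coe_mul] at this
      show k * (x : Cfsg.Sz F m) * k⁻¹ * (k * (((c : P) : M) : Cfsg.Sz F m) * k⁻¹) =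
        k * (((c : P) : M) : Cfsg.Sz F m) * k⁻¹ * (k * (x : Cfsg.Sz F m) * k⁻¹)
      calc _ = k * ((x : Cfsg.Sz F m) * (((c : P) : M) : Cfsg.Sz F m)) * k⁻¹ := by simp [mul_assoc]
        _ = _ := by rw [this]; simp [mul_assoc]
    have := Subgroup.card_dvd_of_le hle
    rwa [Subgroup.card_map_of_injective (MulAut.conj (⟨k, hk⟩ : M)).injective] at this
  have hpow : ∀ j, 2 ^ j ∣ Nat.card M → 2 ^ j ∣ Q := fun j hj => by
    obtain ⟨P, hP⟩ := Sylow.exists_subgroup_card_pow_prime 2 hj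
    rw [← hP]
    exact htwo P (IsPGroup.of_card hP)
  obtain ⟨jQ, hjQ⟩ : ∃ j, Q = 2 ^ j := by
    have h : IsPGroup 2 Qs := (U_isPGroup hG hF).of_injective
      { toFun := fun x : Qs => (⟨((x : M) : Cfsg.Sz F m), x.2⟩ : U hG)
        map_one' := rfl
        map_mul' := fun _ _ => rfl }
      (fun x y e => Subtype.ext (Subtype.ext (congrArg (fun w : U hG => (w : Cfsg.Sz F m)) e)))
    exact IsPGroup.iff_card.mp h
  have hQ2 : 2 ≤ Q := Finite.one_lt_card_iff_nontrivial.mpr ⟨⟨⟨⟨_, hT01⟩, T_mem hG 0 1⟩, 1, fun e =>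
    h01 (congrArg (fun z : Qs => ((z : M) : Cfsg.Sz F m)) e)⟩⟩
  have hrodd : Odd r := by
    refine Nat.not_even_iff_odd.mp fun ⟨i, hi⟩ => ?_
    have h : 2 ^ (jQ + 1) ∣ Nat.card M := ⟨t * i, by rw [hMcard, hjQ, hi, pow_succ]; ring⟩
    have := Nat.le_of_dvd hpos.1 (hpow _ h)
    rw [hjQ, pow_succ] at this
    have := Nat.two_pow_pos jQ
    omega
  exact ⟨r, hrodd, hr1, rfl, hMcard, hsplit, hpow, ⟨jQ, hjQ⟩, hQ2⟩

/-- The case without torus part. -/
theorem listed_no_torus {M : Subgroup (Cfsg.Sz F m)} {Q r jQ : ℕ} (hr1 : r ≠ 1) (hQ2 : 2 ≤ Q)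
    (hjQ : Q = 2 ^ jQ) (hMcard : Nat.card M = Q * r)
    (hsplit : 1 + (Q - 1) * r + Nat.card {x : M | OddTori.IsTor x} = Q * r)
    (hediv : ∀ x : M, OddTori.IsTor x → ∀ e, (e = 1 ∨ e = 2 ∨ e = 4) →
      Nat.card (Subgroup.normalizer (Subgroup.centralizer {x} : Set M)) =
        e * Nat.card (Subgroup.centralizer {x}) → e ∣ Q) : Listed M := by
  classical
  have hG := good_of_card (m := m) hF
  have : Fact (Nat.Prime 2) := ⟨Nat.prime_two⟩
  have hT := oddTori hm hF M
  have hpos : 0 < Q := by omega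
  have hR : Nat.card {x : M | OddTori.IsTor x} + 1 = r := by
    obtain ⟨Q', hQ'⟩ : ∃ Q', Q = Q' + 1 := ⟨Q - 1, by omega⟩
    rw [hQ', Nat.add_sub_cancel, Nat.add_mul, one_mul] at hsplit
    omega
  have hlt : 2 * Nat.card {x : M | OddTori.IsTor x} < Nat.card M := by
    rw [hMcard]
    have : 2 * r ≤ Q * r := Nat.mul_le_mul_right r hQ2
    omega
  rcases hT.few_classes (D := {x : M | OddTori.IsTor x})
    (fun v hv => ⟨hv, fun w hw => hT.tcls_tor hv hw⟩) hlt with
    he | ⟨x, hx, he⟩ | ⟨x, y, hx, hy, -, -, he⟩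
  · rw [he, Nat.card_eq_zero.mpr (Or.inl ⟨fun z => z.2⟩)] at hR
    omega
  · obtain ⟨e, he', hN, hc⟩ := hT.card_tcls hx
    rw [← he, hMcard] at hc
    have hQe := Nat.le_of_dvd hpos (hediv x hx e he' hN)
    have h5 := hT.five x hx.1 hx.2
    set a := Nat.card (Subgroup.centralizer {x}) with hadef
    set R := Nat.card {x : M | OddTori.IsTor x}
    obtain ⟨b, hb⟩ : ∃ b, a = b + 1 := ⟨a - 1, by omega⟩
    rw [hb, Nat.add_sub_cancel] at hc
    have heQ : e = Q := by
      by_contra hne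
      obtain ⟨i, -, hi⟩ := (Nat.dvd_prime_pow Nat.prime_two).mp (hjQ ▸ hediv x hx e he' hN)
      have h2e : 2 * e ≤ Q := by
        have hlt' : i < jQ := (Nat.pow_lt_pow_iff_right (by norm_num : 1 < 2)).mp
          (by rw [← hi, ← hjQ]; exact lt_of_le_of_ne hQe hne)
        calc 2 * e = 2 ^ (i + 1) := by rw [hi, pow_succ']
          _ ≤ Q := hjQ ▸ Nat.pow_le_pow_right (by norm_num) hlt'
      have he0 : 0 < e := by omega
      have h1 : b * (2 * e * r) ≤ b * (Q * r) := Nat.mul_le_mul_left _ (Nat.mul_le_mul_right r h2e)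
      rw [← hc] at h1
      have : e * (b * (2 * r)) ≤ e * (R * (b + 1)) := by
        calc e * (b * (2 * r)) = b * (2 * e * r) := by ring
          _ ≤ R * (e * (b + 1)) := h1
          _ = e * (R * (b + 1)) := by ring
      have := Nat.le_of_mul_le_mul_left this he0
      nlinarith
    have hr : r = a := by
      have h1 : R * (b + 1) = b * r := Nat.eq_of_mul_eq_mul_left (show 0 < e by omega) (by
        rw [← heQ] at hc
        linarith)
      rw [hb]
      nlinarith
    have htop : Subgroup.normalizer (Subgroup.centralizer {x} : Set M) = ⊤ :=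
      Subgroup.eq_top_of_card_eq _ (by rw [hN, hMcard, hr, heQ])
    obtain ⟨hcy, hcc, -⟩ := torus_pack hm hF (x := (x : Cfsg.Sz F m))
      (fun e => hx.1 (Subtype.ext e)) (by rw [Subgroup.orderOf_coe]; exact hx.2)
    refine Or.inr (Or.inl ⟨_, hcy, hcc, fun n hn => ?_⟩)
    have hn' : (⟨n, hn⟩ : M) * x * (⟨n, hn⟩ : M)⁻¹ ∈ Subgroup.centralizer {x} :=
      (Subgroup.mem_normalizer_iff.mp (htop ▸ Subgroup.mem_top (⟨n, hn⟩ : M)) x).mp
        (Subgroup.mem_centralizer_singleton_iff.mpr rfl)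
    have hn'' : n * (x : Cfsg.Sz F m) * n⁻¹ ∈ Subgroup.centralizer {(x : Cfsg.Sz F m)} :=
      Subgroup.mem_centralizer_singleton_iff.mpr
        (congrArg Subtype.val (Subgroup.mem_centralizer_singleton_iff.mp hn'))
    have hne : n * (x : Cfsg.Sz F m) * n⁻¹ ≠ 1 := fun e =>
      hx.1 (Subtype.ext (by simpa [mul_inv_eq_one, mul_eq_left] using e))
    have hmap : (Subgroup.centralizer {(x : Cfsg.Sz F m)}).map (MulAut.conj n).toMonoidHom =
        Subgroup.centralizer {(x : Cfsg.Sz F m)} := by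
      rw [← centralizer_conj]
      exact oddToriTop hm hF _ _ (fun e => hx.1 (Subtype.ext e))
        (by rw [Subgroup.orderOf_coe]; exact hx.2) hn'' hne
    refine Subgroup.mem_normalizer_iff.mpr fun z => ?_
    conv_rhs => rw [← hmap]
    rw [Subgroup.mem_map_equiv, MulAut.conj_symm_apply]
    simp [mul_assoc]
  · exfalso
    have hbig : ∀ v : M, OddTori.IsTor v → Q = 2 → 2 * Nat.card M ≤ 5 * Nat.card (OddTori.tcls v) := by
      intro v hv hQ
      obtain ⟨e, he', hN, hc⟩ := hT.card_tcls hv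
      have h2 := Nat.le_of_dvd hpos (hediv v hv e he' hN)
      have h5 := hT.five v hv.1 hv.2
      generalize Nat.card (Subgroup.centralizer {v}) = a at hc h5
      obtain ⟨b, rfl⟩ : ∃ b, a = b + 1 := ⟨a - 1, by omega⟩
      rw [Nat.add_sub_cancel] at hc
      have h' : b * Nat.card M ≤ Nat.card (OddTori.tcls v) * (2 * (b + 1)) := by
        rw [← hc]; gcongr; omega
      nlinarith
    have h1 := hT.five_card_tcls hx
    have h2 := hT.five_card_tcls hy
    rw [he] at hR
    rw [hMcard] at h1 h2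
    have hQ : Q = 2 := by
      by_contra hne
      have : 3 * r ≤ Q * r := Nat.mul_le_mul_right r (by omega)
      omega
    have h1' := hbig x hx hQ
    have h2' := hbig y hy hQ
    rw [hMcard, hQ] at h1' h2'
    omega
/-- The normaliser of the torus part. -/
theorem torus_normalizer {M : Subgroup (Cfsg.Sz F m)} {c : Fˣ} (hcC : H (good_of_card (m := m) hF) c ∈ M) (hc1 : c ≠ 1)
    {t : ℕ} (ht : Nat.card (Subgroup.centralizer {(⟨_, hcC⟩ : M)}) = t) :
    (Nat.card (Subgroup.normalizer (Subgroup.centralizer {(⟨_, hcC⟩ : M)} : Set M)) = t ∨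
      ∃ d, J (good_of_card (m := m) hF) * H (good_of_card (m := m) hF) d ∈ M ∧
        Nat.card (Subgroup.normalizer (Subgroup.centralizer {(⟨_, hcC⟩ : M)} : Set M)) = 2 * t) := by
  classical
  have hG := good_of_card (m := m) hF
  have : Fact (Nat.Prime 2) := ⟨Nat.prime_two⟩
  set x0 : M := ⟨H hG c, hcC⟩
  have hT0 : Subgroup.centralizer {x0} = (H hG).range.subgroupOf M := by
    ext g
    rw [Subgroup.mem_subgroupOf, ← centralizer_H hG hm hF hc1, Subgroup.mem_centralizer_singleton_iff,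
      Subgroup.mem_centralizer_singleton_iff]
    exact ⟨fun h => congrArg Subtype.val h, fun h => Subtype.ext h⟩
  have hnormcases : ∀ n ∈ Subgroup.normalizer (Subgroup.centralizer {x0} : Set M),
      n ∈ Subgroup.centralizer {x0} ∨ ∃ d, (n : Cfsg.Sz F m) = J hG * H hG d := fun n hn => by
    have h := (Subgroup.mem_normalizer_iff.mp hn x0).mp (Subgroup.mem_centralizer_singleton_iff.mpr rfl)
    rw [hT0] at h ⊢
    exact normalizer_H_cases hG hm hF hc1 h
  by_cases hno : ∀ d, J hG * H hG d ∉ M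
  · refine Or.inl ?_
    rw [le_antisymm (fun n hn => (hnormcases n hn).resolve_right fun ⟨d, hd⟩ => hno d (hd ▸ n.2))
      Subgroup.le_normalizer, ht]
  push Not at hno
  obtain ⟨d, hjM⟩ := hno
  set j := J hG * H hG d with hjdef
  have hjnorm : (⟨j, hjM⟩ : M) ∈ Subgroup.normalizer (Subgroup.centralizer {x0} : Set M) := by
    rw [hT0]
    refine Subgroup.mem_normalizer_iff.mpr fun g => ?_
    have hN : j ∈ Subgroup.normalizer ((H hG).range : Set (Cfsg.Sz F m)) := by
      refine (Subgroup.normalizer _).mul_mem ?_ (Subgroup.le_normalizer ⟨d, rfl⟩)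
      refine Subgroup.mem_normalizer_iff.mpr fun x => ⟨?_, ?_⟩
      · rintro ⟨e, rfl⟩
        exact ⟨e⁻¹, by rw [← J_H_J hG e, inv_eq_of_mul_eq_one_right (J_mul_J hG)]⟩
      · rintro ⟨e, he⟩
        refine ⟨e⁻¹, ?_⟩
        rw [← J_H_J hG e, he, inv_eq_of_mul_eq_one_right (J_mul_J hG), ← mul_assoc, ← mul_assoc,
          J_mul_J, one_mul, mul_assoc, J_mul_J, mul_one]
    exact Subgroup.mem_normalizer_iff.mp hN g
  refine Or.inr ⟨d, hjM, ?_⟩
  have hset : (Subgroup.normalizer (Subgroup.centralizer {x0} : Set M) : Set M) =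
      (Subgroup.centralizer {x0} : Set M) ∪ (fun g => ⟨j, hjM⟩ * g) '' (Subgroup.centralizer {x0}) := by
    ext n
    constructor
    · intro hn
      rcases hnormcases n hn with h | ⟨d', hd'⟩
      · exact Or.inl h
      · refine Or.inr ⟨(⟨j, hjM⟩ : M)⁻¹ * n, ?_, mul_inv_cancel_left _ _⟩
        rw [SetLike.mem_coe, hT0]
        show j⁻¹ * (n : Cfsg.Sz F m) ∈ (H hG).range
        exact ⟨d⁻¹ * d', by rw [hd', hjdef, map_mul, map_inv]; simp [mul_assoc]⟩
    · rintro (h | ⟨g, hg, rfl⟩)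
      · exact Subgroup.le_normalizer h
      · exact (Subgroup.normalizer _).mul_mem hjnorm (Subgroup.le_normalizer hg)
  have hd : Disjoint (Subgroup.centralizer {x0} : Set M)
      ((fun g => ⟨j, hjM⟩ * g) '' (Subgroup.centralizer {x0})) := by
    rw [Set.disjoint_left]
    rintro _ h1 ⟨g, hg, rfl⟩
    have h2 : (⟨j, hjM⟩ : M) ∈ Subgroup.centralizer {x0} :=
      ((Subgroup.centralizer {x0}).mul_mem_cancel_right hg).mp h1
    rw [hT0] at h2
    obtain ⟨a, ha⟩ := h2
    have := congrArg (fun z : Cfsg.Sz F m => z • (pI : Cfsg.suzukiOvoid F m)) ha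
    simp only [hjdef, mul_smul, H_pI, J_pI, Subgroup.coe_subtype] at this
    exact pP_ne_pI 0 0 this.symm
  have hcard : Nat.card (Subgroup.normalizer (Subgroup.centralizer {x0} : Set M)) = 2 * t := by
    rw [← SetLike.coe_sort_coe, Nat.card_coe_set_eq, hset, Set.ncard_union_eq hd,
      Set.ncard_image_of_injective _ (mul_right_injective _), ← Nat.card_coe_set_eq,
      SetLike.coe_sort_coe, ht, two_mul]
  exact hcard

/-- The subfield determined by `M`. -/
theorem subfield_part {M : Subgroup (Cfsg.Sz F m)} (hT01 : T (good_of_card (m := m) hF) 0 1 ∈ M) (hC : ∀ a b c, T (good_of_card (m := m) hF) a b * H (good_of_card (m := m) hF) c ∈ M → H (good_of_card (m := m) hF) c ∈ M)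
    (hfusion : ∀ y ∈ M, y ≠ 1 → y * y = 1 → ∃ k ∈ M, k * T (good_of_card (m := m) hF) 0 1 * k⁻¹ = y)
    {t Q : ℕ} (htcard : t = Nat.card (M.comap (H (good_of_card (m := m) hF)))) (hQcard : Q = Nat.card ((U (good_of_card (m := m) hF)).subgroupOf M))
    (ht5 : 5 ≤ t) (htdvd : t ∣ 2 ^ (2 * m + 1) - 1) :
    ∃ k, 1 ≤ k ∧ t + 1 = 2 ^ (2 * k + 1) ∧ 2 * k + 1 ∣ 2 * m + 1 ∧
      (∀ c : Fˣ, c ^ t = 1 → H (good_of_card (m := m) hF) c ∈ M) ∧
      ((Q = t + 1 ∧ ∀ g ∈ M, g ∈ U (good_of_card (m := m) hF) → g * g = 1) ∨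
       (Q = (t + 1) ^ 2 ∧ ∀ a b : F, a ^ (t + 1) = a → b ^ (t + 1) = b → T (good_of_card (m := m) hF) a b ∈ M)) := by
  classical
  have hG := good_of_card (m := m) hF
  have : Fact (Nat.Prime 2) := ⟨Nat.prime_two⟩
  set B := stabilizer (Cfsg.Sz F m) (pI : Cfsg.suzukiOvoid F m) with hBdef
  have h01 := T_ne_one hG
  set C := M.comap (H hG) with hCdef
  set Qs := (U hG).subgroupOf M with hQdef
  have hmemB : ∀ g : Cfsg.Sz F m, g ∈ M → g ∈ B →
      ∃ u ∈ U hG, u ∈ M ∧ ∃ c ∈ C, g = u * H hG c := fun g hg hgB => by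
    obtain ⟨a, b, c, rfl⟩ := eq_T_mul_H hG hm hF hgB
    have hc := hC a b c hg
    exact ⟨_, T_mem hG a b, (M.mul_mem_cancel_right hc).mp hg, c, hc, rfl⟩
  -- the centre part is a subfield
  set E : AddSubgroup F :=
    { carrier := {b | T hG 0 b ∈ M}
      zero_mem' := by show T hG 0 0 ∈ M; rw [T_zero]; exact M.one_mem
      add_mem' := fun {a b} ha hb => by
        have := M.mul_mem ha hb
        rw [T_mul] at this
        show T hG 0 (a + b) ∈ M
        simpa [sigma_ne_zero] using this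
      neg_mem' := fun {a} ha => by
        show T hG 0 (-a) ∈ M
        rwa [show -a = a by linear_combination (-a) * hG.two] }
  have hconjT : ∀ (e : Fˣ) (a b : F), H hG e * T hG a b * (H hG e)⁻¹ =
      T hG (lam m (e : F) * a) ((e : F) ^ (2 ^ (m + 1)) * b) := fun e a b => by
    rw [H_conj_T, mul_inv_cancel_right]
  have hCE : ∀ e ∈ C, (e : F) ^ (2 ^ (m + 1)) ∈ E := fun e he => by
    have := M.mul_mem (M.mul_mem he hT01) (M.inv_mem he)
    rw [hconjT, mul_zero, mul_one] at this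
    exact this
  have hEC : ∀ b ∈ E, b ≠ 0 → ∃ e ∈ C, (e : F) ^ (2 ^ (m + 1)) = b := fun b hb hb0 => by
    have hb1 : T hG (0 : F) b ≠ 1 := fun h => hb0 (T_inj hG (h.trans (T_zero hG).symm)).2
    obtain ⟨k, hk, hke⟩ := hfusion _ hb hb1 (by rw [T_sq]; simp [sigma_ne_zero, T_zero])
    have hkB : k ∈ B := fix_of_conj_mem_U hG (T_mem hG 0 1) h01 (hke ▸ T_mem hG 0 b)
    obtain ⟨u, hu, huM, e, he, rfl⟩ := hmemB k hk hkB
    refine ⟨e, he, ?_⟩
    obtain ⟨a', b', rfl⟩ := hu
    rw [show T hG a' b' * H hG e * T hG 0 1 * (T hG a' b' * H hG e)⁻¹ =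
      T hG a' b' * (H hG e * T hG 0 1 * (H hG e)⁻¹) * (T hG a' b')⁻¹ by simp [mul_assoc], hconjT,
      mul_zero, mul_one, ((commute_T_iff hG).mpr (by simp [sigma_ne_zero]) :
        Commute (T hG a' b') (T hG 0 ((e : F) ^ (2 ^ (m + 1))))).eq, mul_inv_cancel_right] at hke
    exact (T_inj hG hke).2
  have hEcard : Nat.card E = t + 1 := by
    have hb : Function.Bijective (fun o : Option C =>
        o.elim (0 : E) fun e => ⟨((e : Fˣ) : F) ^ (2 ^ (m + 1)), hCE _ e.2⟩) := by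
      refine ⟨?_, fun b => ?_⟩
      · rintro (_ | e) (_ | e') h
        · rfl
        · exact absurd (congrArg Subtype.val h).symm (pow_ne_zero _ (Units.ne_zero _))
        · exact absurd (congrArg Subtype.val h) (pow_ne_zero _ (Units.ne_zero _))
        · exact congrArg some (Subtype.ext (Units.ext ((sAut hG).injective (congrArg Subtype.val h))))
      · by_cases hb : (b : F) = 0
        · exact ⟨none, Subtype.ext hb.symm⟩
        · obtain ⟨e, he, hee⟩ := hEC b b.2 hb
          exact ⟨some ⟨e, he⟩, Subtype.ext hee⟩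
    rw [← Nat.card_eq_of_bijective _ hb, Finite.card_option, htcard]
  obtain ⟨n, hn⟩ : ∃ n, t + 1 = 2 ^ n := by
    have hd : Nat.card E ∣ Nat.card F := AddSubgroup.card_addSubgroup_dvd_card E
    rw [hEcard, Nat.card_eq_fintype_card, hF] at hd
    obtain ⟨n, -, hn⟩ := (Nat.dvd_prime_pow Nat.prime_two).mp hd
    exact ⟨n, hn⟩
  have hndvd : n ∣ 2 * m + 1 := by
    have ht' : t = 2 ^ n - 1 := by omega
    rw [ht'] at htdvd
    have hg := Nat.pow_sub_one_gcd_pow_sub_one 2 n (2 * m + 1)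
    rw [Nat.gcd_eq_left htdvd] at hg
    have := Nat.one_le_two_pow (n := n)
    have := Nat.one_le_two_pow (n := n.gcd (2 * m + 1))
    have : n = n.gcd (2 * m + 1) := Nat.pow_right_injective le_rfl (show 2 ^ n = 2 ^ _ by omega)
    rw [this]
    exact Nat.gcd_dvd_right _ _
  have hn3 : 3 ≤ n := by
    by_contra hlt
    have : 2 ^ n ≤ 2 ^ 2 := Nat.pow_le_pow_right (by norm_num) (by omega)
    omega
  obtain ⟨k, rfl⟩ : Odd n := (show Odd (2 * m + 1) from ⟨m, rfl⟩).of_dvd_nat hndvd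
  have hk : 1 ≤ k := by omega
  let K : Type := GaloisField 2 (2 * k + 1)
  letI : Fintype K := Fintype.ofFinite K
  have hK : Fintype.card K = 2 ^ (2 * k + 1) := by
    rw [← Nat.card_eq_fintype_card]
    exact GaloisField.card 2 _ (by omega)
  have : CharP F 2 := charP_of_card_eq_prime_pow hF
  letI : Algebra (ZMod 2) F := ZMod.algebra F 2
  have hnF : Module.finrank (ZMod 2) F = 2 * m + 1 := by
    have := Module.natCard_eq_pow_finrank (K := ZMod 2) (V := F)
    rw [Nat.card_zmod, Nat.card_eq_fintype_card, hF] at this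
    exact (Nat.pow_right_injective le_rfl this).symm
  obtain ⟨φ⟩ := FiniteField.nonempty_algHom_of_finrank_dvd (F := ZMod 2) (K := K) (L := F)
    (by rw [GaloisField.finrank 2 (show 2 * k + 1 ≠ 0 by omega), hnF]; exact hndvd)
  let ι : K →+* F := φ.toRingHom
  have hσ := sigma_restrict (m := m) hK hndvd
  have hGK := good_of_card (m := k) hK
  have hs : Fintype.card K = t + 1 := by rw [hK, hn]
  have hEι : ∀ b, b ∈ E ↔ ∃ y, ι y = b := by
    have hsub : (E : Set F) ⊆ Set.range ι := fun b hb => by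
      refine mem_range_of_pow ι ?_
      rcases eq_or_ne b 0 with rfl | hb0
      · exact zero_pow Fintype.card_ne_zero
      obtain ⟨e, he, rfl⟩ := hEC b hb hb0
      have h1 : e ^ t = 1 := by
        have := congrArg Subtype.val (pow_card_eq_one' (x := (⟨e, he⟩ : C)))
        rw [SubmonoidClass.coe_pow] at this
        rw [htcard]
        exact this
      rw [hs, pow_succ, ← pow_mul, mul_comm (2 ^ (m + 1)), pow_mul, ← Units.val_pow_eq_pow_val, h1,
        Units.val_one, one_pow, one_mul]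
    have heq : (E : Set F) = Set.range ι := Set.eq_of_subset_of_ncard_le hsub (by
      rw [← Nat.card_coe_set_eq, ← Nat.card_coe_set_eq, Nat.card_range_of_injective ι.injective,
        SetLike.coe_sort_coe, hEcard, Nat.card_eq_fintype_card, hs]) (Set.toFinite _)
    intro b
    rw [← SetLike.mem_coe, heq, Set.mem_range]
  have hCι : ∀ y : K, ∀ hy : y ≠ 0, Units.map (ι : K →* F) (Units.mk0 y hy) ∈ C := fun y hy => by
    set u := Units.map (ι : K →* F) (Units.mk0 y hy)
    have hu : (u : F) ^ (2 ^ (m + 1)) ∈ E := (hEι _).mpr ⟨y ^ (2 ^ (k + 1)), iota_sigma ι hσ y⟩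
    obtain ⟨e, he, hee⟩ := hEC _ hu (pow_ne_zero _ u.ne_zero)
    rwa [show u = e from Units.ext ((sAut hG).injective hee.symm)]
  have hafirst : ∀ a b, T hG a b ∈ M → ∃ y, ι y = a := fun a b hab => by
    have h := M.mul_mem hab hab
    rw [T_sq] at h
    obtain ⟨y, hy⟩ := (hEι _).mp h
    obtain ⟨z, hz⟩ := sigma_succ_surj hGK y
    refine ⟨z, (Finite.injective_iff_surjective.mpr (sigma_succ_surj hG) :
      Function.Injective fun t : F => t ^ (2 ^ (m + 1)) * t) ?_⟩
    show ι z ^ _ * ι z = a ^ _ * a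
    rw [← iota_sigma ι hσ, ← map_mul, hz, hy]
  have hlam : ∀ e : K, lam m (ι e) = ι (lam k e) := fun e => by
    rw [lam, lam, map_div₀, iota_sigma ι hσ, map_pow]
  -- either elementary or the full subfield translations
  have hQcases : (Q = t + 1 ∧ ∀ g ∈ M, g ∈ U hG → g * g = 1) ∨
      (Q = (t + 1) ^ 2 ∧ ∀ x y, T hG (ι x) (ι y) ∈ M) := by
    by_cases hall : ∀ a b, T hG a b ∈ M → a = 0
    · refine Or.inl ⟨?_, fun g hg hgU => ?_⟩
      · rw [← hEcard, hQcard]
        refine (Nat.card_eq_of_bijective (fun b : E => (⟨⟨T hG 0 b, b.2⟩, T_mem hG 0 b⟩ : Qs))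
          ⟨fun b b' e => Subtype.ext (T_inj hG
            (congrArg (fun z : Qs => ((z : M) : Cfsg.Sz F m)) e)).2, ?_⟩).symm
        rintro ⟨⟨g, hg⟩, hgU⟩
        obtain ⟨a, b, hab⟩ := (show ∃ a b, g = T hG a b from hgU)
        subst hab
        obtain rfl := hall a b hg
        exact ⟨⟨b, hg⟩, rfl⟩
      · obtain ⟨a, b, rfl⟩ := hgU
        rw [hall a b hg, T_sq]
        simp [sigma_ne_zero, T_zero]
    · push Not at hall
      obtain ⟨a, b, hab, ha0⟩ := hall
      obtain ⟨y0, rfl⟩ := hafirst a b hab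
      have hy0 : y0 ≠ 0 := fun e => ha0 (by rw [e, map_zero])
      obtain ⟨e1, he1⟩ := lam_surj hGK (inv_ne_zero hy0)
      have hscale : ∀ (e : Kˣ) (a b : F), T hG a b ∈ M →
          T hG (ι (lam k (e : K)) * a) (ι ((e : K) ^ (2 ^ (k + 1))) * b) ∈ M := fun e a b hab => by
        have hc := hCι (e : K) e.ne_zero
        have := M.mul_mem (M.mul_mem hc hab) (M.inv_mem hc)
        rw [hconjT] at this
        rw [← hlam, iota_sigma ι hσ]
        exact this
      obtain ⟨β, hβ⟩ : ∃ β, T hG 1 β ∈ M := by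
        have := hscale e1 _ _ hab
        rw [he1, ← map_mul, inv_mul_cancel₀ hy0, map_one] at this
        exact ⟨_, this⟩
      obtain ⟨x, hx0', hx1, hxσ⟩ := exists_sigma_ne hk hK
      have hx1' : (1 : K) + x ≠ 0 := fun h => hx1 (by
        have := hGK.two
        linear_combination h - this)
      obtain ⟨ea, hea⟩ := lam_surj hGK hx0'
      obtain ⟨eb, heb⟩ := lam_surj hGK hx1'
      have h1 := hscale ea _ _ hβ
      have h2 := hscale eb _ _ hβ
      rw [hea, mul_one, ← sigma_lam hGK (ea : K), hea] at h1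
      rw [heb, mul_one, ← sigma_lam hGK (eb : K), heb] at h2
      have h3 := M.mul_mem (M.inv_mem h2) (M.mul_mem hβ h1)
      have h4 : (T hG (ι (1 + x)) (ι ((1 + x) ^ (2 ^ (k + 1)) * (1 + x)) * β))⁻¹ *
          (T hG 1 β * T hG (ι x) (ι (x ^ (2 ^ (k + 1)) * x) * β)) =
          T hG 0 (ι (x + x ^ (2 ^ (k + 1))) * β + ι x) := by
        rw [inv_mul_eq_iff_eq_mul, T_mul, T_mul]
        congr 1
        · simp
        · simp only [map_add, map_mul, map_one, hGK.add, one_pow, mul_zero, add_zero]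
          have := hG.two
          grind
      rw [h4] at h3
      obtain ⟨w, hw⟩ := (hEι _).mp h3
      have hne : x + x ^ (2 ^ (k + 1)) ≠ 0 := fun h => hxσ (by
        have := hGK.two
        linear_combination h - x * this)
      have hβι : ι ((w + x) / (x + x ^ (2 ^ (k + 1)))) = β := by
        rw [map_div₀, div_eq_iff ((map_ne_zero ι).mpr hne), map_add, hw]
        linear_combination (ι x) * hG.two
      have hall' : ∀ x y, T hG (ι x) (ι y) ∈ M := by
        set β' : K := (w + x) / (x + x ^ (2 ^ (k + 1)))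
        clear_value β'
        intro x y
        have hz : ∀ w, T hG 0 (ι w) ∈ M := fun w => (hEι _).mpr ⟨w, rfl⟩
        rcases eq_or_ne x 0 with rfl | hx0
        · rw [map_zero]; exact hz y
        obtain ⟨ex, hex⟩ := lam_surj hGK hx0
        have h1 := hscale ex _ _ hβ
        rw [hex, mul_one, ← hβι, ← map_mul] at h1
        have := M.mul_mem h1 (hz (y - (ex : K) ^ (2 ^ (k + 1)) * β'))
        rw [T_mul] at this
        simpa using this
      refine Or.inr ⟨?_, hall'⟩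
      rw [← hs, pow_two, ← Nat.card_eq_fintype_card, ← Nat.card_prod, hQcard]
      refine (Nat.card_eq_of_bijective (fun p : K × K =>
        (⟨⟨T hG (ι p.1) (ι p.2), hall' _ _⟩, T_mem hG _ _⟩ : Qs)) ⟨fun p p' e => ?_, ?_⟩).symm
      · obtain ⟨e1, e2⟩ := T_inj hG (congrArg (fun z : Qs => ((z : M) : Cfsg.Sz F m)) e)
        exact Prod.ext (ι.injective e1) (ι.injective e2)
      · rintro ⟨⟨g, hg⟩, hgU⟩
        obtain ⟨a, b, hab⟩ := (show ∃ a b, g = T hG a b from hgU)
        subst hab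
        obtain ⟨x, rfl⟩ := hafirst a b hg
        have h0 := M.mul_mem (M.inv_mem (hall' x 0)) hg
        rw [show (T hG (ι x) (ι 0))⁻¹ * T hG (ι x) b = T hG 0 b from by
          rw [inv_mul_eq_iff_eq_mul, T_mul]; simp] at h0
        obtain ⟨y, hy⟩ := (hEι b).mp h0
        exact ⟨(x, y), Subtype.ext (Subtype.ext (by show T hG (ι x) (ι y) = _; rw [hy]))⟩
  have hroot : ∀ c : Fˣ, c ^ t = 1 → c ∈ C := fun c hc => by
    obtain ⟨y, hy⟩ := mem_range_of_pow ι (x := (c : F)) (by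
      rw [hs, pow_succ, ← Units.val_pow_eq_pow_val, hc, Units.val_one, one_mul])
    have hy0 : y ≠ 0 := fun e => c.ne_zero (by rw [← hy, e, map_zero])
    exact (Units.ext hy : Units.map (ι : K →* F) (Units.mk0 y hy0) = c) ▸ hCι y hy0
  refine ⟨k, hk, hn, hndvd, hroot, hQcases.imp_right fun ⟨e, h⟩ => ⟨e, fun a b ha hb => ?_⟩⟩
  obtain ⟨x, rfl⟩ := mem_range_of_pow ι (x := a) (by rw [hs]; exact ha)
  obtain ⟨y, rfl⟩ := mem_range_of_pow ι (x := b) (by rw [hs]; exact hb)
  exact h x y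

/-- No quotient of order four over an elementary abelian 2-part. -/
theorem no_four {M : Subgroup (Cfsg.Sz F m)}
    (helem : ∀ g ∈ M, g ∈ U (good_of_card (m := m) hF) → g * g = 1)
    (htwoconj : ∀ x : Cfsg.Sz F m, x ∈ M → x ≠ 1 → orderOf x ∣ 4 → ∃ k ∈ M, k * x * k⁻¹ ∈ U (good_of_card (m := m) hF))
    (x : M) (hx : OddTori.IsTor x)
    (hN : Nat.card (Subgroup.normalizer (Subgroup.centralizer {x} : Set M)) =
      4 * Nat.card (Subgroup.centralizer {x})) : False := by
  classical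
  have hG := good_of_card (m := m) hF
  have : Fact (Nat.Prime 2) := ⟨Nat.prime_two⟩
  have hT := oddTori hm hF M
  set A := Subgroup.centralizer {x}
  set N := Subgroup.normalizer (A : Set M)
  obtain ⟨P, hP⟩ := Sylow.exists_subgroup_card_pow_prime 2 (n := 2)
    (show 2 ^ 2 ∣ Nat.card N by rw [hN]; exact dvd_mul_right _ _)
  have hinv : ∀ u : P, u ≠ 1 → ((u : N) : M) * x * ((u : N) : M)⁻¹ = x⁻¹ ∧
      ((u : N) : M) * ((u : N) : M) = 1 := by
    intro u hu
    set v : M := ((u : N) : M) with hv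
    have hv1 : v ≠ 1 := fun e => hu (Subtype.ext (Subtype.ext e))
    have hv4 : orderOf v ∣ 4 := by
      rw [hv, Subgroup.orderOf_coe, Subgroup.orderOf_coe]
      exact (orderOf_dvd_natCard u).trans (dvd_of_eq hP)
    have hv2 : v * v = 1 := by
      obtain ⟨k', hk', hkU⟩ := htwoconj v v.2 (fun e => hv1 (Subtype.ext e))
        (by rwa [Subgroup.orderOf_coe])
      have := helem _ (M.mul_mem (M.mul_mem hk' v.2) (M.inv_mem hk')) hkU
      refine Subtype.ext ?_
      show (v : Cfsg.Sz F m) * v = 1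
      calc (v : Cfsg.Sz F m) * v = k'⁻¹ * (k' * v * k'⁻¹ * (k' * v * k'⁻¹)) * k' := by
            simp [mul_assoc]
        _ = 1 := by rw [this]; simp
    refine ⟨?_, hv2⟩
    have hxA : x ∈ A := Subgroup.mem_centralizer_singleton_iff.mpr rfl
    have hy : v * x * v⁻¹ ∈ A := (Subgroup.mem_normalizer_iff.mp (u : N).2 x).mp hxA
    have hvi : v⁻¹ = v := inv_eq_of_mul_eq_one_right hv2
    have hfix : v * (x * (v * x * v⁻¹)) = x * (v * x * v⁻¹) * v := by
      have h1 : v * (x * (v * x * v⁻¹)) * v⁻¹ = x * (v * x * v⁻¹) := by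
        rw [hT.comm x hx.1 hx.2 x hxA _ hy]
        calc v * (v * x * v⁻¹ * x) * v⁻¹ = (v * v) * x * (v⁻¹ * (x * v⁻¹)) := by simp [mul_assoc]
          _ = x * (v * x * v⁻¹) := by rw [hv2, one_mul, hvi]; simp [mul_assoc]
          _ = _ := hT.comm x hx.1 hx.2 x hxA _ hy
      exact mul_inv_eq_iff_eq_mul.mp h1
    by_contra hne
    have hp1 : x * (v * x * v⁻¹) ≠ 1 := fun e => hne (eq_inv_of_mul_eq_one_right e)
    have hvA : v ∈ A := by
      show v ∈ Subgroup.centralizer {x}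
      rw [← hT.centralizer_eq hx (A.mul_mem hxA hy) hp1]
      exact Subgroup.mem_centralizer_singleton_iff.mpr hfix
    have := (hT.tor_mem hx hvA hv1).2
    rw [← Subgroup.orderOf_coe] at this
    exact not_odd_and_four hm hF (fun e => hv1 (Subtype.ext e))
      (by rwa [Subgroup.orderOf_coe]) this
  obtain ⟨u, v, hu, hv, huv⟩ : ∃ u v : P, u ≠ 1 ∧ v ≠ 1 ∧ u ≠ v := by
    have := Fintype.ofFinite P
    have h4 : 2 < Fintype.card P := by rw [← Nat.card_eq_fintype_card, hP]; norm_num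
    obtain ⟨u, hu⟩ := @exists_ne P (Finite.one_lt_card_iff_nontrivial.mp
      (by rw [hP]; norm_num : 1 < Nat.card P)) (1 : P)
    obtain ⟨v, -, hv⟩ := Finset.exists_mem_notMem_of_card_lt_card (s := ({1, u} : Finset P))
      (t := Finset.univ) (lt_of_le_of_lt Finset.card_le_two (by rwa [Finset.card_univ]))
    simp only [Finset.mem_insert, Finset.mem_singleton, not_or] at hv
    exact ⟨u, v, hu, hv.1, fun e => hv.2 e.symm⟩
  have hw1 : u⁻¹ * v ≠ 1 := fun e => huv (inv_mul_eq_one.mp e)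
  obtain ⟨hu1, hu2⟩ := hinv u hu
  obtain ⟨hv1, -⟩ := hinv v hv
  obtain ⟨hw2, -⟩ := hinv (u⁻¹ * v) hw1
  have hcalc : ((u⁻¹ * v : P) : N).val * x * ((u⁻¹ * v : P) : N).val⁻¹ = x := by
    show ((u : N) : M)⁻¹ * ((v : N) : M) * x * (((u : N) : M)⁻¹ * ((v : N) : M))⁻¹ = x
    rw [show ((u : N) : M)⁻¹ * ((v : N) : M) * x * (((u : N) : M)⁻¹ * ((v : N) : M))⁻¹ =
      ((u : N) : M)⁻¹ * (((v : N) : M) * x * ((v : N) : M)⁻¹) * ((u : N) : M) by simp [mul_assoc],
      hv1, ← hu1]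
    simp [mul_assoc]
  have hxx : x * x = 1 := mul_eq_one_iff_eq_inv.mpr (hcalc.symm.trans hw2)
  have h2 : orderOf x ∣ 2 := orderOf_dvd_of_pow_eq_one (by rw [pow_two, hxx])
  rcases (Nat.dvd_prime Nat.prime_two).mp h2 with h | h
  · exact hx.1 (orderOf_eq_one_iff.mp h)
  · exact absurd (h ▸ hx.2) (by decide)
/-- The full case gives the subfield group. -/
theorem listed_subfield {M : Subgroup (Cfsg.Sz F m)} (hM : M ≠ ⊤) (hT01 : T (good_of_card (m := m) hF) 0 1 ∈ M)
    {t k r : ℕ} (hk : 1 ≤ k) (hn : t + 1 = 2 ^ (2 * k + 1)) (hndvd : 2 * k + 1 ∣ 2 * m + 1)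
    (hCroot : ∀ c : Fˣ, c ^ t = 1 → H (good_of_card (m := m) hF) c ∈ M)
    (hall : ∀ a b : F, a ^ (t + 1) = a → b ^ (t + 1) = b → T (good_of_card (m := m) hF) a b ∈ M)
    {d : Fˣ} (hjM : J (good_of_card (m := m) hF) * H (good_of_card (m := m) hF) d ∈ M)
    (hrdef : r = ((stabilizer (Cfsg.Sz F m) (pI : Cfsg.suzukiOvoid F m)).subgroupOf M).index) (hr : r = (t + 1) ^ 2 + 1)
    (hMcard : Nat.card M = (t + 1) ^ 2 * t * r) : Listed M := by
  classical
  have hG := good_of_card (m := m) hF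
  have : Fact (Nat.Prime 2) := ⟨Nat.prime_two⟩
  set j := J hG * H hG d with hjdef
  let K : Type := GaloisField 2 (2 * k + 1)
  letI : Fintype K := Fintype.ofFinite K
  have hK : Fintype.card K = 2 ^ (2 * k + 1) := by
    rw [← Nat.card_eq_fintype_card]
    exact GaloisField.card 2 _ (by omega)
  have : CharP F 2 := charP_of_card_eq_prime_pow hF
  letI : Algebra (ZMod 2) F := ZMod.algebra F 2
  have hnF : Module.finrank (ZMod 2) F = 2 * m + 1 := by
    have := Module.natCard_eq_pow_finrank (K := ZMod 2) (V := F)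
    rw [Nat.card_zmod, Nat.card_eq_fintype_card, hF] at this
    exact (Nat.pow_right_injective le_rfl this).symm
  obtain ⟨φ⟩ := FiniteField.nonempty_algHom_of_finrank_dvd (F := ZMod 2) (K := K) (L := F)
    (by rw [GaloisField.finrank 2 (show 2 * k + 1 ≠ 0 by omega), hnF]; exact hndvd)
  let ι : K →+* F := φ.toRingHom
  have hσ := sigma_restrict (m := m) hK hndvd
  have hGK := good_of_card (m := k) hK
  have hs : Fintype.card K = t + 1 := by rw [hK, hn]
  have hall' : ∀ x y : K, T hG (ι x) (ι y) ∈ M := fun x y => by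
    refine hall _ _ ?_ ?_ <;> rw [← hs, ← map_pow, FiniteField.pow_card]
  have hCι : ∀ y : K, ∀ hy : y ≠ 0, H hG (Units.map (ι : K →* F) (Units.mk0 y hy)) ∈ M := fun y hy => by
    refine hCroot _ ?_
    rw [← map_pow, ← map_one (Units.map (ι : K →* F))]
    congr 1
    refine Units.ext ?_
    rw [Units.val_pow_eq_pow_val, Units.val_mk0, Units.val_one, show t = Fintype.card K - 1 by omega]
    exact FiniteField.pow_card_sub_one_eq_one y hy
  -- the orbit of `∞`
  have hOcard : Nat.card (orbit M (pI : Cfsg.suzukiOvoid F m)) = r := by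
    rw [Nat.card_coe_set_eq, ← index_stabilizer, hrdef]
    rfl
  have hsubO : insert (pI : Cfsg.suzukiOvoid F m)
      (Set.range fun p : K × K => (pP (ι p.1) (ι p.2) : Cfsg.suzukiOvoid F m)) ⊆
      orbit M (pI : Cfsg.suzukiOvoid F m) := by
    rintro q (rfl | ⟨p, rfl⟩)
    · exact mem_orbit_self _
    · refine ⟨⟨_, M.mul_mem (hall' p.1 p.2) hjM⟩, ?_⟩
      show (T hG (ι p.1) (ι p.2) * j) • (pI : Cfsg.suzukiOvoid F m) = _
      rw [hjdef, mul_smul, mul_smul, H_pI, J_pI, T_pP]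
      simp
  have hOeq : insert (pI : Cfsg.suzukiOvoid F m)
      (Set.range fun p : K × K => (pP (ι p.1) (ι p.2) : Cfsg.suzukiOvoid F m)) =
      orbit M (pI : Cfsg.suzukiOvoid F m) := by
    refine Set.eq_of_subset_of_ncard_le hsubO ?_ (Set.toFinite _)
    rw [Set.ncard_insert_of_notMem (by rintro ⟨p, hp⟩; exact pP_ne_pI _ _ hp) (Set.toFinite _),
      ← Nat.card_coe_set_eq (orbit M (pI : Cfsg.suzukiOvoid F m)), hOcard,
      ← Nat.card_coe_set_eq, Nat.card_range_of_injective (fun p p' h => ?_), Nat.card_prod,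
      Nat.card_eq_fintype_card, hs, hr, pow_two]
    obtain ⟨e1, e2⟩ := pP_inj h
    exact Prod.ext (ι.injective e1) (ι.injective e2)
  have hdι : ∃ y, ι y = (d : F) := by
    have hmem : (j * T hG 0 1 * j) • (pI : Cfsg.suzukiOvoid F m) ∈
        orbit M (pI : Cfsg.suzukiOvoid F m) :=
      ⟨⟨_, M.mul_mem (M.mul_mem hjM hT01) hjM⟩, rfl⟩
    rw [← hOeq, hjdef] at hmem
    simp only [mul_smul, H_pI, J_pI, T_pP, H_pP] at hmem
    have hne : (d : F) ^ (2 ^ (m + 1)) ≠ 0 := pow_ne_zero _ d.ne_zero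
    simp only [zero_pow sigma_ne_zero, zero_mul, mul_zero, zero_add, add_zero, mul_one] at hmem
    rw [J_pP hG hne] at hmem
    rcases hmem with h | ⟨p, h⟩
    · exact absurd h (pP_ne_pI _ _)
    obtain ⟨e1, -⟩ := pP_inj h
    rw [hG.sq] at e1
    refine mem_range_of_pow ι ((sAut hG).injective ?_)
    rw [sAut_apply, sAut_apply, ← pow_mul, mul_comm, pow_mul]
    have hl : lam m (d : F) = ι p.1⁻¹ := by
      rw [lam, map_inv₀, e1, inv_div]
    rw [← sigma_lam hG (d : F), hl, ← iota_sigma ι hσ, ← map_mul, ← map_pow, FiniteField.pow_card]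
  have hS : (sub ι hσ hG hk hK).range = M := by
    refine Subgroup.eq_of_le_of_card_ge ?_ (le_of_eq ?_)
    · rintro _ ⟨g, rfl⟩
      have hall2 : M.comap (sub ι hσ hG hk hK) = ⊤ := by
        refine eq_top_of_gen hGK hk hK _ (fun a b => ?_) (fun e => ?_) ?_
        · show sub ι hσ hG hk hK (T hGK a b) ∈ M
          rw [sub_T]; exact hall' a b
        · show sub ι hσ hG hk hK (H hGK e) ∈ M
          rw [sub_H]
          exact (hCι (e : K) e.ne_zero : H hG _ ∈ M)
        · show sub ι hσ hG hk hK (J hGK) ∈ M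
          rw [sub_J]
          obtain ⟨y, hy⟩ := hdι
          have hy0 : y ≠ 0 := fun h => d.ne_zero (by rw [← hy, h, map_zero])
          have hd' : Units.map (ι : K →* F) (Units.mk0 y hy0) = d := Units.ext hy
          have hdM : H hG d ∈ M := hd' ▸ hCι y hy0
          exact (M.mul_mem_cancel_right hdM).mp hjM
      exact (hall2 ▸ Subgroup.mem_top g : g ∈ M.comap (sub ι hσ hG hk hK))
    · rw [← Nat.card_congr (MonoidHom.ofInjective (sub_injective ι hσ hG hk hK)).toEquiv,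
        card_eq hk hK, Nat.card_eq_fintype_card (α := K), hs, hMcard, hr, Nat.add_sub_cancel]
  have hkm : k < m := by
    have hle : 2 * k + 1 ≤ 2 * m + 1 := Nat.le_of_dvd (by omega) hndvd
    refine lt_of_le_of_ne (by omega) fun e => hM ?_
    subst e
    refine Subgroup.eq_top_of_card_eq _ ?_
    rw [← hS, ← Nat.card_congr (MonoidHom.ofInjective (sub_injective ι hσ hG hk hK)).toEquiv,
      card_eq hk hK, card_eq hm hF, Nat.card_eq_fintype_card (α := K), hK,
      Nat.card_eq_fintype_card (α := F), hF]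
  exact Or.inr (Or.inr ⟨K, inferInstance, inferInstance, k, hk, hkm, hK, hndvd, _,
    ⟨(MonoidHom.ofInjective (sub_injective ι hσ hG hk hK)).symm⟩, hS.ge⟩)

/-- The even case, normalised: `T(0,1)` lies in `M` and the torus parts of `M ∩ B` lie in `M`. -/
theorem listed_aux {M : Subgroup (Cfsg.Sz F m)} (hM : M ≠ ⊤) (hT01 : T (good_of_card (m := m) hF) 0 1 ∈ M) (hC : ∀ a b c, T (good_of_card (m := m) hF) a b * H (good_of_card (m := m) hF) c ∈ M → H (good_of_card (m := m) hF) c ∈ M) : Listed M := by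
  classical
  have hG := good_of_card (m := m) hF
  have : Fact (Nat.Prime 2) := ⟨Nat.prime_two⟩
  by_cases hMB : M ≤ (stabilizer (Cfsg.Sz F m) (pI : Cfsg.suzukiOvoid F m))
  · refine Or.inl ⟨sylowU hG hm hF, ?_⟩
    rw [coe_sylowU, normalizer_U hG hm hF]
    exact hMB
  obtain ⟨hfusion, htwoconj⟩ := fusion_facts hm hF hT01 hMB
  obtain ⟨r, hrodd, hr1, hrdef, hMcard, hsplit, hpow, ⟨jQ, hjQ⟩, hQ2⟩ :=
    two_part hm hF hT01 hC hMB htwoconj
  set C := M.comap (H hG) with hCdef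
  set Q := Nat.card ((U hG).subgroupOf M) with hQcard
  set t := Nat.card C with htcard
  have hT := oddTori hm hF M
  have hediv : ∀ x : M, OddTori.IsTor x → ∀ e, (e = 1 ∨ e = 2 ∨ e = 4) →
      Nat.card (Subgroup.normalizer (Subgroup.centralizer {x} : Set M)) =
        e * Nat.card (Subgroup.centralizer {x}) → e ∣ Q := fun x _ e he hN => by
    have hd : e ∣ Nat.card M := (Dvd.intro _ hN.symm).trans (Subgroup.card_subgroup_dvd_card _)
    rcases he with rfl | rfl | rfl
    · exact one_dvd _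
    · exact hpow 1 hd
    · exact hpow 2 hd
  rcases Nat.lt_or_ge t 2 with ht | ht
  · have ht1 : t = 1 := by have : 0 < t := Nat.card_pos; omega
    rw [ht1, mul_one] at hsplit hMcard
    exact listed_no_torus hm hF hr1 hQ2 hjQ hMcard hsplit hediv
  obtain ⟨c, hcC, hc1⟩ : ∃ c ∈ C, c ≠ 1 := by
    by_contra hall
    push Not at hall
    have : C = ⊥ := (Subgroup.eq_bot_iff_forall _).mpr hall
    rw [htcard, this, Subgroup.card_bot] at ht
    omega
  set x0 : M := ⟨H hG c, hcC⟩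
  have hx0 : OddTori.IsTor x0 := by
    refine ⟨fun e => hc1 (H_injective hG ((congrArg Subtype.val e).trans (map_one _).symm)), ?_⟩
    rw [← Subgroup.orderOf_coe]
    show Odd (orderOf (H hG c))
    rw [orderOf_injective _ (H_injective hG)]
    refine Odd.of_dvd_nat ?_ (orderOf_dvd_natCard c)
    rw [Nat.card_units]
    obtain ⟨j, hj⟩ := even_q hm hF
    have := eight_le hm hF
    exact ⟨j - 1, by omega⟩
  have hT0 : Subgroup.centralizer {x0} = (H hG).range.subgroupOf M := by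
    ext g
    rw [Subgroup.mem_subgroupOf, ← centralizer_H hG hm hF hc1, Subgroup.mem_centralizer_singleton_iff,
      Subgroup.mem_centralizer_singleton_iff]
    exact ⟨fun h => congrArg Subtype.val h, fun h => Subtype.ext h⟩
  have hcardT0 : Nat.card (Subgroup.centralizer {x0}) = t := by
    rw [hT0, htcard]
    refine (Nat.card_eq_of_bijective (fun d : C =>
      (⟨⟨H hG d, d.2⟩, (d : Fˣ), rfl⟩ : (H hG).range.subgroupOf M)) ⟨fun d d' e => ?_, ?_⟩).symm
    · exact Subtype.ext (H_injective hG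
        (congrArg (fun z : (H hG).range.subgroupOf M => ((z : M) : Cfsg.Sz F m)) e))
    · rintro ⟨⟨g, hg⟩, d, hd⟩
      have hd' : H hG d = g := hd
      exact ⟨⟨d, show H hG d ∈ M by rw [hd']; exact hg⟩, Subtype.ext (Subtype.ext hd')⟩
  have ht5 : 5 ≤ t := hcardT0 ▸ hT.five x0 hx0.1 hx0.2
  have htdvd : t ∣ 2 ^ (2 * m + 1) - 1 := by
    rw [← hF, ← Nat.card_eq_fintype_card, ← Nat.card_units, htcard]
    exact Subgroup.card_subgroup_dvd_card C
  obtain ⟨e0, he0, hN0, hc0⟩ := hT.card_tcls hx0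
  rw [hcardT0, hMcard] at hc0
  rw [hcardT0] at hN0
  set R0 := Nat.card (OddTori.tcls x0)
  set D := {x : M | OddTori.IsTor x} \ OddTori.tcls x0 with hDdef
  have hDunion : Nat.card {x : M | OddTori.IsTor x} = R0 + Nat.card D := by
    rw [← OddTori.card_two_union Set.disjoint_sdiff_right]
    congr 1
    exact congrArg _ (Set.union_sdiff_cancel (fun v hv => hT.tcls_tor hx0 hv)).symm
  have hDclosed : ∀ v ∈ D, OddTori.IsTor v ∧ OddTori.tcls v ⊆ D := fun v hv =>
    ⟨hv.1, fun w hw => ⟨hT.tcls_tor hv.1 hw, fun hw0 =>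
      Set.disjoint_left.mp (hT.disjoint hx0 hv.1 hv.2) hw0 hw⟩⟩
  rw [hDunion] at hsplit
  rcases torus_normalizer hm hF hcC hc1 hcardT0 with hN | ⟨d, hjM, hN⟩
  · exfalso
    have he1 : e0 = 1 := Nat.eq_of_mul_eq_mul_right (show 0 < t by omega)
      (by rw [one_mul]; exact hN0.symm.trans hN)
    subst he1
    obtain ⟨t', ht'⟩ : ∃ t', t = t' + 1 := ⟨t - 1, by omega⟩
    obtain ⟨Q', hQ'⟩ : ∃ Q', Q = Q' + 1 := ⟨Q - 1, by omega⟩
    have h0 : R0 = t' * Q * r := by
      refine Nat.eq_of_mul_eq_mul_right (show 0 < 1 * t by omega) ?_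
      rw [hc0, ht', Nat.add_sub_cancel]; ring
    rw [h0, hQ', ht', Nat.add_sub_cancel] at hsplit
    have hR : Nat.card D + 1 = r := by nlinarith
    rcases D.eq_empty_or_nonempty with hE | ⟨v, hv⟩
    · rw [hE, Nat.card_eq_zero.mpr (Or.inl ⟨fun z => z.2⟩)] at hR
      omega
    · have h5 := hT.five_card_tcls (hDclosed v hv).1
      have hle : Nat.card (OddTori.tcls v) ≤ Nat.card D :=
        Nat.card_mono (Set.toFinite _) (hDclosed v hv).2
      rw [hMcard] at h5
      have : 2 * 5 * r ≤ Q * t * r := Nat.mul_le_mul_right r (Nat.mul_le_mul hQ2 ht5)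
      omega
  have he02 : e0 = 2 := Nat.eq_of_mul_eq_mul_right (show 0 < t by omega) (hN0.symm.trans hN)
  subst he02
  obtain ⟨k, hk, hn, hndvd, hCroot, hQcases⟩ :=
    subfield_part hm hF hT01 hC hfusion htcard hQcard ht5 htdvd
  have ht8 : 8 ≤ t + 1 := by
    rw [hn]; exact Nat.pow_le_pow_right (show 0 < 2 by norm_num) (show 3 ≤ 2 * k + 1 by omega)
  have hR0 : 2 * R0 = (t - 1) * (Q * r) := by
    refine Nat.eq_of_mul_eq_mul_right (show 0 < t by omega) ?_
    calc 2 * R0 * t = R0 * (2 * t) := by ring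
      _ = _ := by rw [hc0]; ring
  have hRD : 2 * Nat.card D + 2 + Q * r = r * (Q * t) + 2 * r := by
    obtain ⟨t', ht'⟩ : ∃ t', t = t' + 1 := ⟨t - 1, by omega⟩
    obtain ⟨Q', hQ'⟩ : ∃ Q', Q = Q' + 1 := ⟨Q - 1, by omega⟩
    rw [ht', Nat.add_sub_cancel, hQ'] at hR0
    rw [ht', hQ', Nat.add_sub_cancel] at hsplit
    rw [ht', hQ']
    linarith
  have hQ8 : 8 ≤ Q := by
    rcases hQcases with ⟨e, -⟩ | ⟨e, -⟩
    · omega
    · rw [e, pow_two]
      exact ht8.trans (Nat.le_mul_self _)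
  have hrpos : 0 < r := hrodd.pos
  have hlt : 2 * Nat.card D < Nat.card M := by
    rw [hMcard]
    have : 3 * r ≤ Q * r := Nat.mul_le_mul_right r (by omega)
    have hcm : r * (Q * t) = Q * t * r := by ring
    omega
  have hdvdr : ∀ v ∈ D, Nat.card (Subgroup.centralizer {v}) ∣ r := fun v hv => by
    have hd := Subgroup.card_subgroup_dvd_card (Subgroup.centralizer {v})
    rw [hMcard] at hd
    refine Nat.Coprime.dvd_of_dvd_mul_left (Nat.Coprime.mul_right ?_ ?_) hd
    · rw [hjQ]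
      exact (Nat.coprime_two_right.mpr (hT.odd v hv.1.1 hv.1.2)).pow_right _
    · rw [← hcardT0]
      exact (hT.coprime hx0 hv.1 hv.2).symm
  rcases hT.few_classes hDclosed hlt with he | ⟨v, hv, he⟩ | ⟨v, w, hv, hw, hwv, heq, he⟩
  · exfalso
    rw [he, Nat.card_eq_zero.mpr (Or.inl ⟨fun z => z.2⟩)] at hRD
    exact no_empty hQ8 ht5 hrpos (by omega)
  · exfalso
    have hvD : v ∈ D := he ▸ OddTori.self_mem hv
    obtain ⟨e, he', hN, hc⟩ := hT.card_tcls hv
    obtain ⟨i, hi⟩ := hdvdr v hvD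
    have hiodd : Odd i := (Nat.odd_mul.mp (hi ▸ hrodd)).2
    have ha5 := hT.five v hv.1 hv.2
    have ha3 : Nat.card (Subgroup.centralizer {v}) ∣ Nat.card (Cfsg.Sz F m) :=
      (Subgroup.card_subgroup_dvd_card _).trans (Subgroup.card_subgroup_dvd_card M)
    rw [← he, hMcard] at hc
    rw [hMcard] at hlt
    rcases he' with rfl | rfl | rfl
    · exact one_class_one ha5 hlt hc
    · obtain ⟨hel, hfull⟩ := one_class_two ha5 ht5 hiodd hi hRD hc
      rcases hQcases with ⟨eQ, -⟩ | ⟨eQ, -⟩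
      · rw [hel eQ] at ha3
        refine three_not_dvd hm hF (Nat.dvd_trans ?_ ha3)
        rw [show t + 2 = 2 ^ (2 * k + 1) + 1 by omega, pow_succ, pow_mul]
        have h4 : (2 ^ 2) ^ k % 3 = 1 := by rw [Nat.pow_mod]; norm_num
        omega
      · exact hfull eQ
    · exact one_class_four ha5 ht5 hQ8 hiodd hi hRD hc
  · have hvD : v ∈ D := heq ▸ Or.inl (OddTori.self_mem hv)
    have hwD : w ∈ D := heq ▸ Or.inr (OddTori.self_mem hw)
    obtain ⟨e, he', hN, hc⟩ := hT.card_tcls hv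
    obtain ⟨f, hf', hNw, hcw⟩ := hT.card_tcls hw
    have hsmall : ∀ (z z' : M) (g : ℕ), OddTori.IsTor z → OddTori.IsTor z' → g ≤ 2 →
        Nat.card (OddTori.tcls z) * (g * Nat.card (Subgroup.centralizer {z})) =
          (Nat.card (Subgroup.centralizer {z}) - 1) * Nat.card M →
        Nat.card D = Nat.card (OddTori.tcls z) + Nat.card (OddTori.tcls z') → False := by
      intro z z' g hz hz' hg hc hsum
      have h5 := hT.five z hz.1 hz.2
      have h' := hT.five_card_tcls hz'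
      generalize Nat.card (Subgroup.centralizer {z}) = a at hc h5
      obtain ⟨b, rfl⟩ : ∃ b, a = b + 1 := ⟨a - 1, by omega⟩
      rw [Nat.add_sub_cancel] at hc
      have h'' : b * Nat.card M ≤ Nat.card (OddTori.tcls z) * (2 * (b + 1)) := by
        rw [← hc]; gcongr
      nlinarith
    have he4 : e = 4 := by
      rcases he' with h | h | h
      · exact (hsmall v w e hv hw (by omega) hc he).elim
      · exact (hsmall v w e hv hw (by omega) hc he).elim
      · exact h
    have hf4 : f = 4 := by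
      rcases hf' with h | h | h
      · exact (hsmall w v f hw hv (by omega) hcw (by rw [he, add_comm])).elim
      · exact (hsmall w v f hw hv (by omega) hcw (by rw [he, add_comm])).elim
      · exact h
    subst he4 hf4
    rcases hQcases with ⟨-, helem⟩ | ⟨eQ, hall⟩
    · exact (no_four hm hF helem htwoconj v hv hN).elim
    obtain ⟨i, hi⟩ := (hT.coprime hv hw hwv).mul_dvd_of_dvd_of_dvd (hdvdr v hvD) (hdvdr w hwD)
    rw [he] at hRD
    rw [hMcard] at hc hcw
    have ha5 := hT.five v hv.1 hv.2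
    have hb5 := hT.five w hw.1 hw.2
    obtain ⟨hab, heqn⟩ := two_class_eq ha5 hb5 (Nat.odd_mul.mp (hi ▸ hrodd)).2 hi eQ ht5 hRD hc hcw
    have hs2 : 2 ∣ t + 1 := by rw [hn]; exact dvd_pow_self 2 (by omega)
    have hva := hT.odd v hv.1 hv.2
    have hwb := hT.odd w hw.1 hw.2
    have hr : r = (t + 1) ^ 2 + 1 := by
      set a := Nat.card (Subgroup.centralizer {v})
      set b := Nat.card (Subgroup.centralizer {w})
      rcases le_total a b with hle | hle
      · exact no_large_orbit ht8 hs2 (by omega) hva hwb hab.symm hle heqn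
      · exact no_large_orbit ht8 hs2 (by omega) hwb hva (by rw [hab, mul_comm]) hle
          (by rw [add_comm b a]; exact heqn)
    exact listed_subfield hm hF hM hT01 hk hn hndvd hCroot hall hjM hrdef hr (by rw [hMcard, eQ])

theorem listed (M : Subgroup (Cfsg.Sz F m)) (hM : M ≠ ⊤) : Listed M := by
  classical
  have hG := good_of_card (m := m) hF
  have : Fact (Nat.Prime 2) := ⟨Nat.prime_two⟩
  have hmapne : ∀ (g : Cfsg.Sz F m) (L : Subgroup (Cfsg.Sz F m)), L ≠ ⊤ →
      L.map (MulAut.conj g).toMonoidHom ≠ ⊤ := fun g L hL h => hL (Subgroup.map_injective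
        (f := (MulAut.conj g).toMonoidHom) (MulAut.conj g).injective (by
          rw [h, Subgroup.map_top_of_surjective _ (MulAut.conj g).surjective]))
  rcases Nat.even_or_odd (Nat.card M) with heven | hodd
  · obtain ⟨w, hw⟩ := exists_prime_orderOf_dvd_card' 2 (even_iff_two_dvd.mp heven)
    rw [← Subgroup.orderOf_coe] at hw
    have hw1 : (w : Cfsg.Sz F m) ≠ 1 := fun e => by rw [e, orderOf_one] at hw; norm_num at hw
    obtain ⟨g, hg⟩ : ∃ g, g * (w : Cfsg.Sz F m) * g⁻¹ ∈ U hG := by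
      rcases elt_cases hm hF (w : Cfsg.Sz F m) with h | h | ⟨k, c, -, hk⟩
      · exact absurd hw.symm.dvd (fun h2 => (dvd_of_fpf hG hm hF h Nat.prime_two h2).1 rfl)
      · exact h
      · have := orderOf_dvd_sub_one hF hk
        rw [hw] at this
        have := even_q hm hF
        have := eight_le hm hF
        omega
    have hsq : g * (w : Cfsg.Sz F m) * g⁻¹ * (g * (w : Cfsg.Sz F m) * g⁻¹) = 1 := by
      rw [show g * (w : Cfsg.Sz F m) * g⁻¹ * (g * (w : Cfsg.Sz F m) * g⁻¹) =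
        g * ((w : Cfsg.Sz F m) * w) * g⁻¹ by simp [mul_assoc], ← pow_two,
        orderOf_dvd_iff_pow_eq_one.mp hw.dvd, mul_one, mul_inv_cancel]
    obtain ⟨b, hb⟩ := involution_form hm hF hg hsq
    have hb0 : b ≠ 0 := fun e => hw1 (by
      rw [e, T_zero] at hb
      simpa [mul_inv_eq_one, mul_eq_left] using hb)
    obtain ⟨s, hs⟩ := (sAut hG).surjective b⁻¹
    rw [sAut_apply] at hs
    have hs0 : s ≠ 0 := fun e => by
      rw [e, zero_pow sigma_ne_zero] at hs
      exact inv_ne_zero hb0 hs.symm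
    refine Listed.of_conj (H hG (Units.mk0 s hs0) * g) ?_
    set M1 := M.map (MulAut.conj (H hG (Units.mk0 s hs0) * g)).toMonoidHom with hM1
    have hT01 : T hG 0 1 ∈ M1 := by
      refine ⟨w, w.2, ?_⟩
      show H hG _ * g * (w : Cfsg.Sz F m) * (H hG _ * g)⁻¹ = _
      rw [show H hG (Units.mk0 s hs0) * g * (w : Cfsg.Sz F m) * (H hG (Units.mk0 s hs0) * g)⁻¹ =
        H hG (Units.mk0 s hs0) * (g * w * g⁻¹) * (H hG (Units.mk0 s hs0))⁻¹ by simp [mul_assoc], hb,
        H_conj_T, mul_inv_cancel_right, mul_zero, Units.val_mk0, hs, inv_mul_cancel₀ hb0]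
    let C : Subgroup Fˣ :=
      { carrier := {c | ∃ a b, T hG a b * H hG c ∈ M1}
        one_mem' := ⟨0, 0, by rw [map_one, mul_one, T_zero]; exact M1.one_mem⟩
        mul_mem' := by
          rintro c c' ⟨a, b, h⟩ ⟨a', b', h'⟩
          have := M1.mul_mem h h'
          rw [mul_assoc, ← mul_assoc (H hG c), H_conj_T, mul_assoc, ← map_mul, ← mul_assoc, T_mul] at this
          exact ⟨_, _, this⟩
        inv_mem' := by
          rintro c ⟨a, b, h⟩
          have := M1.inv_mem h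
          rw [_root_.mul_inv_rev, ← map_inv, T_inv, H_conj_T] at this
          exact ⟨_, _, this⟩ }
    obtain ⟨c0, hc0⟩ := IsCyclic.exists_generator (α := C)
    obtain ⟨a, b', hab⟩ := c0.2
    obtain ⟨u, huU, hu⟩ : ∃ u ∈ U hG, ∀ a' b'' c, T hG a' b'' * H hG c ∈
        M1.map (MulAut.conj u).toMonoidHom → H hG c ∈ M1.map (MulAut.conj u).toMonoidHom := by
      by_cases hc : (c0 : Fˣ) = 1
      · refine ⟨1, (U hG).one_mem, fun a' b'' c h => ?_⟩
        obtain ⟨g', hg', e⟩ := h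
        have e' : g' = T hG a' b'' * H hG c := by simpa using e
        obtain ⟨i, hi⟩ := hc0 ⟨c, a', b'', e' ▸ hg'⟩
        have := congrArg Subtype.val hi
        simp only [SubgroupClass.coe_zpow, hc, _root_.one_zpow] at this
        rw [← this, map_one, map_one]
        exact (M1.map (1 : MulAut (Cfsg.Sz F m)).toMonoidHom).one_mem
      · obtain ⟨u, hu, d, hd⟩ := exists_U_conj hG hm hF (a := a) (b := b') hc
        obtain ⟨a₁, b₁, e₁⟩ := conj_U_TH hm hF hu a b' (c0 : Fˣ)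
        have hd' : d = c0 := (T_H_inj hG (a := 0) (b := 0) (c := d) (a' := a₁) (b' := b₁)
          (by rw [T_zero, one_mul, ← hd, e₁])).2.2
        refine ⟨u, hu, fun a' b'' c h => ?_⟩
        obtain ⟨g', hg', e⟩ := h
        obtain ⟨a₂, b₂, e₂⟩ := conj_U_TH hm hF ((U hG).inv_mem hu) a' b'' c
        have e' : g' = T hG a₂ b₂ * H hG c := by
          rw [← e₂, ← e]; simp [mul_assoc]
        obtain ⟨i, hi⟩ := hc0 ⟨c, a₂, b₂, e' ▸ hg'⟩
        have hi' := congrArg Subtype.val hi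
        simp only [SubgroupClass.coe_zpow] at hi'
        rw [← hi', map_zpow, ← hd', ← hd]
        exact Subgroup.zpow_mem (M1.map (MulAut.conj u).toMonoidHom) ⟨_, hab, rfl⟩ i
    refine Listed.of_conj u (listed_aux hm hF (hmapne u M1 (hmapne _ M hM)) ⟨_, hT01, ?_⟩ hu)
    obtain ⟨x, y, rfl⟩ := huU
    show T hG x y * T hG 0 1 * (T hG x y)⁻¹ = T hG 0 1
    rw [((commute_T_iff hG).mpr (by simp [sigma_ne_zero]) : Commute (T hG x y) (T hG 0 1)).eq,
      mul_inv_cancel_right]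
  · by_cases h1 : Nat.card M = 1
    · refine Or.inl ⟨sylowU hG hm hF, ?_⟩
      rw [Subgroup.card_eq_one.mp h1]
      exact bot_le
    · obtain ⟨x, hx, hxtop⟩ := (oddTori hm hF M).odd_group hodd h1
      have hx1 : (x : Cfsg.Sz F m) ≠ 1 := fun e => hx.1 (Subtype.ext e)
      obtain ⟨hcy, hcc, -⟩ := torus_pack hm hF hx1 (by rw [Subgroup.orderOf_coe]; exact hx.2)
      refine Or.inr (Or.inl ⟨_, hcy, hcc, fun g hg => Subgroup.le_normalizer ?_⟩)
      have : (⟨g, hg⟩ : M) ∈ Subgroup.centralizer {x} := hxtop ▸ Subgroup.mem_top _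
      exact Subgroup.mem_centralizer_singleton_iff.mpr
        (congrArg Subtype.val (Subgroup.mem_centralizer_singleton_iff.mp this))

end Cfsg.Agent.Suzuki
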