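import Cfsg.Agent.Suzuki.Tori

/-!
The two classes of fixed-point-free tori of the Suzuki group, by counting.
-/

set_option autoImplicit false

namespace Cfsg.Agent.Suzuki

open Matrix Cfsg.Agent.RankOne.Ovoid MulAction
open scoped Pointwise

universe u

variable {F : Type u} [Field F] [Fintype F] {m : ℕ} (hm : 1 ≤ m)
  (hF : Fintype.card F = 2 ^ (2 * m + 1))

include hm hF

theorem eight_le : 8 ≤ Nat.card F := by
  rw [Nat.card_eq_fintype_card]
  exact two_lt_card hm hF

theorem even_q : 2 ∣ Nat.card F := by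
  rw [Nat.card_eq_fintype_card, hF]
  exact dvd_pow_self 2 (by omega)

theorem prime_facts {p : ℕ} (hp : p.Prime) (h : p ∣ Nat.card F ^ 2 + 1) :
    p ≠ 2 ∧ ¬ p ∣ Nat.card F - 1 ∧ ¬ p ∣ Nat.card F := by
  have hq : ¬ p ∣ Nat.card F := fun hd =>
    hp.not_dvd_one ((Nat.dvd_add_right (dvd_pow hd two_ne_zero)).mp h)
  have h2 : p ≠ 2 := fun e => hq (e ▸ even_q hm hF)
  refine ⟨h2, fun hd => ?_, hq⟩
  obtain ⟨s, hs⟩ := hd
  have h8 := eight_le hm hF
  have e : Nat.card F ^ 2 + 1 = p * (s * (p * s) + 2 * s) + 2 := by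
    have : Nat.card F = p * s + 1 := by omega
    rw [this]; ring
  rw [e, Nat.dvd_add_right (dvd_mul_right _ _)] at h
  exact h2 ((Nat.prime_dvd_prime_iff_eq hp Nat.prime_two).mp h)

theorem card_sz : Nat.card (Cfsg.Sz F m) =
    Nat.card F ^ 2 * (Nat.card F - 1) * (Nat.card F ^ 2 + 1) := card_eq hm hF

theorem three_not_dvd : ¬ 3 ∣ Nat.card (Cfsg.Sz F m) := by
  intro h
  rw [card_sz hm hF] at h
  have h' := (ZMod.natCast_eq_zero_iff _ 3).mpr h
  have h8 := eight_le hm hF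
  have hqc : (Nat.card F : ZMod 3) = 2 := by
    rw [Nat.card_eq_fintype_card, hF, Nat.cast_pow, pow_succ, pow_mul,
      show ((2 : ℕ) : ZMod 3) ^ 2 = 1 by decide, one_pow, one_mul]
    rfl
  rw [Nat.cast_mul, Nat.cast_mul, Nat.cast_sub (by omega), Nat.cast_add, Nat.cast_pow, hqc] at h'
  exact absurd h' (by decide)

theorem five_le {p : ℕ} (hp : p.Prime) (h : p ∣ Nat.card F ^ 2 + 1) : 5 ≤ p := by
  obtain ⟨h2, -, -⟩ := prime_facts hm hF hp h
  have h3 : p ≠ 3 := fun e => three_not_dvd hm hF (by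
    rw [card_sz hm hF]
    exact (e ▸ h).mul_left _)
  have := hp.two_le
  by_contra hlt
  obtain rfl : p = 4 := by omega
  exact absurd hp (by norm_num)

/-- Trichotomy for elements. -/
theorem elt_cases (g : Cfsg.Sz F m) :
    Fpf g ∨ (∃ k, k * g * k⁻¹ ∈ U (good_of_card (m := m) hF)) ∨
      ∃ k, ∃ c : Fˣ, c ≠ 1 ∧ k * g * k⁻¹ = H (good_of_card (m := m) hF) c := by
  by_cases hg : Fpf g
  · exact Or.inl hg
  simp only [Fpf, ne_eq, not_forall, not_not] at hg
  obtain ⟨p, hp⟩ := hg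
  obtain ⟨k, hk | ⟨c, h1, h2⟩⟩ := exists_conj_of_fix (good_of_card (m := m) hF) hm hF hp
  · exact Or.inr (Or.inl ⟨k, hk⟩)
  · exact Or.inr (Or.inr ⟨k, c, h1, h2⟩)

omit hm hF in
theorem fpf_conj {g : Cfsg.Sz F m} (k : Cfsg.Sz F m) (hg : Fpf g) : Fpf (k * g * k⁻¹) := by
  intro p hp
  rw [mul_smul, mul_smul, smul_eq_iff_eq_inv_smul] at hp
  exact hg _ hp

omit hm in
theorem orderOf_dvd_four {g k : Cfsg.Sz F m} (h : k * g * k⁻¹ ∈ U (good_of_card (m := m) hF)) :
    orderOf g ∣ 4 := by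
  rw [← orderOf_injective (MulAut.conj k).toMonoidHom (MulAut.conj k).injective g]
  show orderOf (k * g * k⁻¹) ∣ 4
  refine orderOf_dvd_of_pow_eq_one ?_
  have := Monoid.pow_exponent_eq_one (⟨_, h⟩ : U (good_of_card (m := m) hF))
  rw [exponent_U] at this
  exact congrArg Subtype.val this

omit hm in
theorem orderOf_dvd_sub_one {g k : Cfsg.Sz F m} {c : Fˣ}
    (h : k * g * k⁻¹ = H (good_of_card (m := m) hF) c) : orderOf g ∣ Nat.card F - 1 := by
  rw [← orderOf_injective (MulAut.conj k).toMonoidHom (MulAut.conj k).injective g]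
  show orderOf (k * g * k⁻¹) ∣ _
  rw [h, orderOf_injective _ (H_injective _), ← Nat.card_units]
  exact orderOf_dvd_natCard c

theorem fpf_of_prime_dvd {g : Cfsg.Sz F m} {p : ℕ} (hp : p.Prime) (hd : p ∣ orderOf g)
    (h : p ∣ Nat.card F ^ 2 + 1) : Fpf g := by
  obtain ⟨h2, h1, -⟩ := prime_facts hm hF hp h
  rcases elt_cases hm hF g with hg | ⟨k, hk⟩ | ⟨k, c, -, hk⟩
  · exact hg
  · exact absurd ((Nat.prime_dvd_prime_iff_eq hp Nat.prime_two).mp
      (hp.dvd_of_dvd_pow (show p ∣ 2 ^ 2 from hd.trans (orderOf_dvd_four hF hk)))) h2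
  · exact absurd (hd.trans (orderOf_dvd_sub_one hF hk)) h1

theorem ne_one_of_fpf {g : Cfsg.Sz F m} (hg : Fpf g) : g ≠ 1 := by
  intro e
  exact hg pI (by rw [e, one_smul])

theorem fpf_mem {g u : Cfsg.Sz F m} (hg : Fpf g) (hu : u ∈ Subgroup.centralizer {g})
    (h1 : u ≠ 1) : Fpf u :=
  fpf_of_commute (good_of_card (m := m) hF) hm hF hg h1
    (Subgroup.mem_centralizer_singleton_iff.mp hu).symm

theorem exists_prime_power {g : Cfsg.Sz F m} (hg : Fpf g) :
    ∃ x : Cfsg.Sz F m, Fpf x ∧ (orderOf x).Prime ∧ x ∈ Subgroup.zpowers g := by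
  obtain ⟨p, hp, hd⟩ := Nat.exists_prime_and_dvd (n := orderOf g)
    (fun e => ne_one_of_fpf hm hF hg (orderOf_eq_one_iff.mp e))
  have ho : orderOf (g ^ (orderOf g / p)) = p := orderOf_pow_orderOf_div (orderOf_pos g).ne' hd
  refine ⟨_, fpf_mem hm hF hg (Subgroup.mem_centralizer_singleton_iff.mpr
    ((Commute.refl g).pow_left _).eq) (fun e => hp.ne_one ?_), ho ▸ hp, pow_mem
    (Subgroup.mem_zpowers g) _⟩
  rw [← ho, e, orderOf_one]

theorem centralizer_isCyclic {g : Cfsg.Sz F m} (hg : Fpf g) :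
    IsCyclic (Subgroup.centralizer {g}) := by
  obtain ⟨x, hx, hp, hmem⟩ := exists_prime_power hm hF hg
  obtain ⟨M⟩ := exists_fieldModel (good_of_card (m := m) hF) hm hF hx hp
  have := cyclic_of_model M
  refine isCyclic_of_injective (Subgroup.inclusion (H := Subgroup.centralizer {g})
    (K := Subgroup.centralizer {x}) ?_) (Subgroup.inclusion_injective _)
  intro z hz
  rw [Subgroup.mem_centralizer_singleton_iff] at hz ⊢
  obtain ⟨j, rfl⟩ := hmem
  exact (show Commute z g from hz).zpow_right j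

theorem centralizer_comm {g u v : Cfsg.Sz F m} (hg : Fpf g) (hu : u ∈ Subgroup.centralizer {g})
    (hv : v ∈ Subgroup.centralizer {g}) : u * v = v * u := by
  have := centralizer_isCyclic hm hF hg
  exact congrArg Subtype.val
    (((IsCyclic.commutative (α := Subgroup.centralizer {g})).is_comm.comm ⟨u, hu⟩ ⟨v, hv⟩))

theorem centralizer_eq {g u : Cfsg.Sz F m} (hg : Fpf g) (hu : u ∈ Subgroup.centralizer {g})
    (h1 : u ≠ 1) : Subgroup.centralizer {u} = Subgroup.centralizer {g} := by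
  ext z
  refine ⟨fun hz => ?_, fun hz => ?_⟩
  · rw [Subgroup.mem_centralizer_singleton_iff]
    exact centralizer_comm hm hF (fpf_mem hm hF hg hu h1) hz
      (Subgroup.mem_centralizer_singleton_iff.mpr (Subgroup.mem_centralizer_singleton_iff.mp hu).symm)
  · rw [Subgroup.mem_centralizer_singleton_iff]
    exact centralizer_comm hm hF hg hz hu

theorem exists_elt_in_torus {g : Cfsg.Sz F m} {p : ℕ} (hp : p.Prime) (hg : Fpf g)
    (hd : p ∣ Nat.card (Subgroup.centralizer {g})) :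
    ∃ y, Fpf y ∧ orderOf y = p ∧ Subgroup.centralizer {y} = Subgroup.centralizer {g} := by
  have := Fact.mk hp
  obtain ⟨⟨y, hy⟩, ho⟩ := exists_prime_orderOf_dvd_card' p hd
  rw [Subgroup.orderOf_mk] at ho
  have h1 : y ≠ 1 := fun e => hp.ne_one (by rw [← ho, e, orderOf_one])
  exact ⟨y, fpf_mem hm hF hg hy h1, ho, centralizer_eq hm hF hg hy h1⟩

theorem dvd_of_dvd_torus {g : Cfsg.Sz F m} {p : ℕ} (hp : p.Prime) (hg : Fpf g)
    (hd : p ∣ Nat.card (Subgroup.centralizer {g})) : p ∣ Nat.card F ^ 2 + 1 := by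
  obtain ⟨y, hy, ho, -⟩ := exists_elt_in_torus hm hF hp hg hd
  exact (dvd_of_fpf (good_of_card (m := m) hF) hm hF hy hp ho.symm.dvd).2.2

theorem card_torus_dvd {g : Cfsg.Sz F m} (hg : Fpf g) :
    Nat.card (Subgroup.centralizer {g}) ∣ Nat.card F ^ 2 + 1 := by
  have h := Subgroup.card_subgroup_dvd_card (Subgroup.centralizer {g})
  rw [card_sz hm hF] at h
  refine Nat.Coprime.dvd_of_dvd_mul_left (Nat.coprime_of_dvd fun p hp h1 h2 => ?_) h
  obtain ⟨-, hq1, hq⟩ := prime_facts hm hF hp (dvd_of_dvd_torus hm hF hp hg h1)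
  rcases hp.dvd_mul.mp h2 with h3 | h3
  · exact hq (hp.dvd_of_dvd_pow h3)
  · exact hq1 h3

theorem five_le_torus {g : Cfsg.Sz F m} (hg : Fpf g) :
    5 ≤ Nat.card (Subgroup.centralizer {g}) := by
  obtain ⟨x, hx, hp, hmem⟩ := exists_prime_power hm hF hg
  have h5 := five_le hm hF hp (dvd_of_fpf (good_of_card (m := m) hF) hm hF hx hp dvd_rfl).2.2
  refine h5.trans (Nat.le_of_dvd Nat.card_pos ?_)
  have hxg : x ∈ Subgroup.centralizer {g} := by
    obtain ⟨j, rfl⟩ := hmem
    exact Subgroup.mem_centralizer_singleton_iff.mpr ((Commute.refl g).zpow_left j).eq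
  rw [← Subgroup.orderOf_mk x hxg]
  exact orderOf_dvd_natCard _

/-- Tori are Hall subgroups. -/
theorem sylow_le_torus {g : Cfsg.Sz F m} {p : ℕ} [Fact p.Prime] (hg : Fpf g) {y : Cfsg.Sz F m}
    (hy : y ∈ Subgroup.centralizer {g}) (hy1 : y ≠ 1) (P : Sylow p (Cfsg.Sz F m)) (hyP : y ∈ P) :
    (P : Subgroup (Cfsg.Sz F m)) ≤ Subgroup.centralizer {g} := by
  have : Nontrivial (P : Subgroup (Cfsg.Sz F m)) :=
    ⟨⟨⟨y, hyP⟩, 1, fun e => hy1 (congrArg Subtype.val e)⟩⟩
  have hnt := P.isPGroup'.center_nontrivial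
  obtain ⟨z, hz⟩ := exists_ne (1 : Subgroup.center (P : Subgroup (Cfsg.Sz F m)))
  have hz1 : ((z : (P : Subgroup (Cfsg.Sz F m))) : Cfsg.Sz F m) ≠ 1 :=
    fun e => hz (Subtype.ext (Subtype.ext e))
  have hc : ∀ w ∈ P, w * (z : (P : Subgroup (Cfsg.Sz F m))) =
      ((z : (P : Subgroup (Cfsg.Sz F m))) : Cfsg.Sz F m) * w := fun w hw =>
    congrArg Subtype.val (Subgroup.mem_center_iff.mp z.2 ⟨w, hw⟩)
  have hfy := fpf_mem hm hF hg hy hy1
  have hzy : ((z : (P : Subgroup (Cfsg.Sz F m))) : Cfsg.Sz F m) ∈ Subgroup.centralizer {y} :=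
    Subgroup.mem_centralizer_singleton_iff.mpr (hc y hyP).symm
  intro w hw
  rw [← centralizer_eq hm hF hg hy hy1, ← centralizer_eq hm hF hfy hzy hz1]
  exact Subgroup.mem_centralizer_singleton_iff.mpr (hc w hw)

theorem exists_sylow_le {g : Cfsg.Sz F m} {p : ℕ} [Fact p.Prime] (hg : Fpf g)
    (hd : p ∣ Nat.card (Subgroup.centralizer {g})) :
    ∃ P : Sylow p (Cfsg.Sz F m), (P : Subgroup (Cfsg.Sz F m)) ≤ Subgroup.centralizer {g} := by
  obtain ⟨y, hy, ho, he⟩ := exists_elt_in_torus hm hF Fact.out hg hd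
  have hz : IsPGroup p (Subgroup.zpowers y) := IsPGroup.of_card (n := 1) (by
    rw [Nat.card_zpowers, ho, pow_one])
  obtain ⟨P, hP⟩ := hz.exists_le_sylow
  exact ⟨P, sylow_le_torus hm hF hg (he ▸ Subgroup.mem_centralizer_singleton_iff.mpr rfl)
    (ne_one_of_fpf hm hF hy) P (hP (Subgroup.mem_zpowers y))⟩

theorem card_conj_torus (k g : Cfsg.Sz F m) :
    Nat.card (Subgroup.centralizer {k * g * k⁻¹}) = Nat.card (Subgroup.centralizer {g}) := by
  rw [centralizer_conj]
  exact Subgroup.card_map_of_injective (MulAut.conj k).injective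

/-- The conjugacy class of the torus of `g`. -/
def cls (g : Cfsg.Sz F m) : Set (Cfsg.Sz F m) :=
  {v | ∃ k, ∃ u ∈ Subgroup.centralizer {g}, u ≠ 1 ∧ k * u * k⁻¹ = v}

theorem cls_fpf {g v : Cfsg.Sz F m} (hg : Fpf g) (hv : v ∈ cls g) : Fpf v := by
  obtain ⟨k, u, hu, hu1, rfl⟩ := hv
  exact fpf_conj k (fpf_mem hm hF hg hu hu1)

theorem self_mem_cls {g : Cfsg.Sz F m} (hg : Fpf g) : g ∈ cls g :=
  ⟨1, g, Subgroup.mem_centralizer_singleton_iff.mpr rfl, ne_one_of_fpf hm hF hg, by simp⟩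

theorem card_eq_of_mem_cls {g v : Cfsg.Sz F m} (hg : Fpf g) (hv : v ∈ cls g) :
    Nat.card (Subgroup.centralizer {v}) = Nat.card (Subgroup.centralizer {g}) := by
  obtain ⟨k, u, hu, hu1, rfl⟩ := hv
  rw [card_conj_torus hm hF, centralizer_eq hm hF hg hu hu1]

theorem mem_cls_of_dvd {g h : Cfsg.Sz F m} {p : ℕ} (hp : p.Prime) (hg : Fpf g) (hh : Fpf h)
    (h1 : p ∣ Nat.card (Subgroup.centralizer {g})) (h2 : p ∣ Nat.card (Subgroup.centralizer {h})) :
    h ∈ cls g := by
  have := Fact.mk hp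
  obtain ⟨P, hP⟩ := exists_sylow_le hm hF hg h1
  obtain ⟨Q, hQ⟩ := exists_sylow_le hm hF hh h2
  obtain ⟨k, hk⟩ := MulAction.exists_smul_eq (Cfsg.Sz F m) P Q
  obtain ⟨y, hy, ho, he⟩ := exists_elt_in_torus hm hF hp hh h2
  have hnt : Nontrivial (Q : Subgroup (Cfsg.Sz F m)) := by
    rw [← Finite.one_lt_card_iff_nontrivial, Q.card_eq_multiplicity]
    refine Nat.one_lt_pow ?_ hp.one_lt
    exact (hp.factorization_pos_of_dvd Nat.card_pos.ne'
      (h2.trans (Subgroup.card_subgroup_dvd_card _))).ne'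
  obtain ⟨⟨z, hz⟩, hz1⟩ := exists_ne (1 : (Q : Subgroup (Cfsg.Sz F m)))
  have hz1' : z ≠ 1 := fun e => hz1 (Subtype.ext e)
  have hu : k⁻¹ * z * k ∈ Subgroup.centralizer {g} := hP (by
    rw [← hk, Sylow.coe_subgroup_smul, Subgroup.mem_pointwise_smul_iff_inv_smul_mem] at hz
    simpa [mul_assoc] using hz)
  have hu1 : k⁻¹ * z * k ≠ 1 := fun e => hz1' (by
    have := congrArg (fun w => k * w * k⁻¹) e
    simpa [mul_assoc] using this)
  have hC : (Subgroup.centralizer {g}).map (MulAut.conj k).toMonoidHom =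
      Subgroup.centralizer {h} := by
    rw [← centralizer_eq hm hF hg hu hu1, ← centralizer_conj,
      show k * (k⁻¹ * z * k) * k⁻¹ = z by simp [mul_assoc]]
    exact centralizer_eq hm hF hh (hQ hz) hz1'
  obtain ⟨u, hu', he'⟩ := (hC ▸ Subgroup.mem_centralizer_singleton_iff.mpr rfl :
    h ∈ (Subgroup.centralizer {g}).map (MulAut.conj k).toMonoidHom)
  refine ⟨k, u, hu', fun e => ne_one_of_fpf hm hF hh ?_, he'⟩
  rw [← he', e, map_one]

theorem cls_eq_of_mem {g v : Cfsg.Sz F m} (hg : Fpf g) (hv : v ∈ cls g) : cls v = cls g := by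
  obtain ⟨k, u, hu, hu1, rfl⟩ := hv
  ext w
  constructor
  · rintro ⟨l, z, hz, hz1, rfl⟩
    rw [centralizer_conj, centralizer_eq hm hF hg hu hu1] at hz
    obtain ⟨y, hy, rfl⟩ := hz
    exact ⟨l * k, y, hy, fun e => hz1 (by rw [e, map_one]), by simp [mul_assoc]⟩
  · rintro ⟨l, z, hz, hz1, rfl⟩
    refine ⟨l * k⁻¹, k * z * k⁻¹, ?_, fun e => hz1 (by simpa [mul_inv_eq_one, mul_eq_left] using e),
      by simp [mul_assoc]⟩
    rw [centralizer_conj, centralizer_eq hm hF hg hu hu1]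
    exact ⟨z, hz, rfl⟩

theorem coprime_of_not_mem_cls {g h : Cfsg.Sz F m} (hg : Fpf g) (hh : Fpf h) (hn : h ∉ cls g) :
    (Nat.card (Subgroup.centralizer {g})).Coprime (Nat.card (Subgroup.centralizer {h})) :=
  Nat.coprime_of_dvd fun _ hp h1 h2 => hn (mem_cls_of_dvd hm hF hp hg hh h1 h2)

theorem disjoint_cls {g h : Cfsg.Sz F m} (hg : Fpf g) (hh : Fpf h) (hn : h ∉ cls g) :
    Disjoint (cls g) (cls h) := by
  rw [Set.disjoint_left]
  intro v hv hv'
  have hc := coprime_of_not_mem_cls hm hF hg hh hn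
  rw [← card_eq_of_mem_cls hm hF hg hv, ← card_eq_of_mem_cls hm hF hh hv', Nat.coprime_self] at hc
  have := five_le_torus hm hF (cls_fpf hm hF hg hv)
  omega

theorem card_cls {g : Cfsg.Sz F m} (hg : Fpf g) :
    Nat.card (cls g) *
        Nat.card (Subgroup.normalizer (Subgroup.centralizer {g} : Set (Cfsg.Sz F m))) =
      (Nat.card (Subgroup.centralizer {g}) - 1) * Nat.card (Cfsg.Sz F m) := by
  classical
  set A := Subgroup.centralizer {g}
  set N := Subgroup.normalizer (A : Set (Cfsg.Sz F m))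
  have hchoice : ∀ v : cls g, ∃ k u, u ∈ A ∧ u ≠ 1 ∧ k * u * k⁻¹ = (v : Cfsg.Sz F m) := fun v => by
    obtain ⟨k, u, a, b, c⟩ := v.2
    exact ⟨k, u, a, b, c⟩
  choose kk uu hu hu1 hku using hchoice
  let Φ : cls g × N → Cfsg.Sz F m × {u : A // u ≠ 1} := fun x =>
    (kk x.1 * (x.2 : Cfsg.Sz F m),
      ⟨⟨(x.2 : Cfsg.Sz F m)⁻¹ * uu x.1 * (x.2 : Cfsg.Sz F m),
        (Subgroup.mem_normalizer_iff''.mp x.2.2 _).mp (hu x.1)⟩, fun e => hu1 x.1 (by
          have := congrArg (fun w : A => (x.2 : Cfsg.Sz F m) * (w : Cfsg.Sz F m) *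
            (x.2 : Cfsg.Sz F m)⁻¹) e
          simpa [mul_assoc] using this)⟩)
  have hΦ : Function.Bijective Φ := by
    constructor
    · rintro ⟨v, n⟩ ⟨v', n'⟩ h
      have e1 : kk v * (n : Cfsg.Sz F m) = kk v' * (n' : Cfsg.Sz F m) := congrArg Prod.fst h
      have e2 : (n : Cfsg.Sz F m)⁻¹ * uu v * n = (n' : Cfsg.Sz F m)⁻¹ * uu v' * n' :=
        congrArg (fun x : Cfsg.Sz F m × {u : A // u ≠ 1} => ((x.2 : A) : Cfsg.Sz F m)) h
      have ev : ∀ (w : cls g) (r : Cfsg.Sz F m),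
          (w : Cfsg.Sz F m) = (kk w * r) * (r⁻¹ * uu w * r) * (kk w * r)⁻¹ := fun w r => by
        rw [← hku w]; simp [mul_assoc]
      obtain rfl : v = v' := Subtype.ext (by rw [ev v n, ev v' n', e1, e2])
      rw [Subtype.ext (mul_left_cancel e1)]
    · rintro ⟨k, ⟨⟨u, huA⟩, hne⟩⟩
      have hne' : u ≠ 1 := fun e => hne (Subtype.ext e)
      let v : cls g := ⟨k * u * k⁻¹, k, u, huA, hne', rfl⟩
      set n := (kk v)⁻¹ * k with hn
      have hnu : n * u * n⁻¹ = uu v := by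
        have := hku v
        calc n * u * n⁻¹ = (kk v)⁻¹ * (v : Cfsg.Sz F m) * kk v := by simp [hn, v, mul_assoc]
          _ = uu v := by rw [← this]; simp [mul_assoc]
      have hmap : A.map (MulAut.conj n).toMonoidHom = A := by
        show (Subgroup.centralizer {g}).map _ = Subgroup.centralizer {g}
        rw [← centralizer_eq hm hF hg huA hne', ← centralizer_conj, hnu,
          centralizer_eq hm hF hg (hu v) (hu1 v), centralizer_eq hm hF hg huA hne']
      have hnN : n ∈ N := by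
        refine Subgroup.mem_normalizer_iff.mpr fun x => ?_
        conv_rhs => rw [← hmap]
        rw [Subgroup.mem_map_equiv, MulAut.conj_symm_apply]
        simp [mul_assoc]
      refine ⟨(v, ⟨n, hnN⟩), Prod.ext ?_ (Subtype.ext (Subtype.ext ?_))⟩
      · show kk v * n = k
        simp [hn]
      · show n⁻¹ * uu v * n = u
        rw [← hnu]; simp [mul_assoc]
  have hcompl : Nat.card {u : A // u ≠ 1} = Nat.card A - 1 := by
    rw [Nat.card_eq_fintype_card, Nat.card_eq_fintype_card, Fintype.card_subtype_compl,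
      Fintype.card_subtype_eq]
  rw [← Nat.card_prod, Nat.card_eq_of_bijective Φ hΦ, Nat.card_prod, hcompl, mul_comm]

theorem normalizer_index {g : Cfsg.Sz F m} (hg : Fpf g) :
    ∃ e, (e = 1 ∨ e = 2 ∨ e = 4) ∧
      Nat.card (Subgroup.normalizer (Subgroup.centralizer {g} : Set (Cfsg.Sz F m))) =
        e * Nat.card (Subgroup.centralizer {g}) := by
  classical
  obtain ⟨x, hx, hp, hmem⟩ := exists_prime_power hm hF hg
  have hxg : x ∈ Subgroup.centralizer {g} := by
    obtain ⟨j, rfl⟩ := hmem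
    exact Subgroup.mem_centralizer_singleton_iff.mpr ((Commute.refl g).zpow_left j).eq
  rw [← centralizer_eq hm hF hg hxg (ne_one_of_fpf hm hF hx)]
  obtain ⟨M⟩ := exists_fieldModel (good_of_card (m := m) hF) hm hF hx hp
  letI := M.field
  letI := M.alg
  haveI := M.fin
  set A := Subgroup.centralizer {x}
  set N := Subgroup.normalizer (A : Set (Cfsg.Sz F m))
  have hAN : A ≤ N := Subgroup.le_normalizer
  have hc : ∀ n : N, ∃ a, M.φ a = mat ((n : Cfsg.Sz F m) * x * (n : Cfsg.Sz F m)⁻¹) := fun n => by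
    refine M.commutant _ ?_
    rw [← map_mul, ← map_mul]
    exact congrArg mat (Subgroup.mem_centralizer_singleton_iff.mp
      ((Subgroup.mem_normalizer_iff.mp n.2 x).mp (Subgroup.mem_centralizer_singleton_iff.mpr rfl)))
  choose a ha using hc
  set μ := (minpoly F (mat x)).map (algebraMap F M.K)
  have hμ : minpoly F (mat x) ≠ 0 := minpoly.ne_zero (Matrix.isIntegral _)
  have hroot : ∀ n : N, a n ∈ μ.roots.toFinset := fun n => by
    rw [Multiset.mem_toFinset, Polynomial.mem_roots (Polynomial.map_ne_zero hμ),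
      Polynomial.IsRoot, Polynomial.eval_map_algebraMap]
    refine M.inj ?_
    rw [map_zero, ← Polynomial.aeval_algHom_apply, ha]
    let u : (Matrix (Fin 4) (Fin 4) F)ˣ := Units.map mat (toUnits (n : Cfsg.Sz F m))
    have : mat ((n : Cfsg.Sz F m) * x * (n : Cfsg.Sz F m)⁻¹) =
        (u : Matrix (Fin 4) (Fin 4) F) * mat x * ((u⁻¹ : (Matrix (Fin 4) (Fin 4) F)ˣ) : Matrix _ _ F) := by
      rw [map_mul, map_mul]; rfl
    rw [this]
    generalize mat x = X at *
    have key : ∀ P : Polynomial F, Polynomial.aeval ((u : Matrix (Fin 4) (Fin 4) F) * X *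
        ((u⁻¹ : (Matrix (Fin 4) (Fin 4) F)ˣ) : Matrix _ _ F)) P =
        (u : Matrix (Fin 4) (Fin 4) F) * Polynomial.aeval X P *
        ((u⁻¹ : (Matrix (Fin 4) (Fin 4) F)ˣ) : Matrix _ _ F) := fun P => by
      induction P using Polynomial.induction_on' with
      | add P Q hP hQ => rw [map_add, map_add, hP, hQ, mul_add, add_mul]
      | monomial j r =>
        rw [Polynomial.aeval_monomial, Polynomial.aeval_monomial, Units.conj_pow, ← mul_assoc,
          ← mul_assoc, Algebra.commutes r, ← mul_assoc]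
    rw [key, minpoly.aeval, mul_zero, zero_mul]
  let f : N ⧸ A.subgroupOf N → (μ.roots.toFinset : Finset M.K) := fun c => ⟨a c.out, hroot _⟩
  have hf : Function.Injective f := by
    intro c c' h
    have h' := congrArg M.φ (congrArg Subtype.val h)
    rw [ha, ha] at h'
    have h'' := mat_injective h'
    rw [← c.out_eq', ← c'.out_eq', QuotientGroup.eq, Subgroup.mem_subgroupOf,
      Subgroup.mem_centralizer_singleton_iff]
    rw [mul_inv_eq_iff_eq_mul] at h''
    show ((c.out : Cfsg.Sz F m)⁻¹ * (c'.out : Cfsg.Sz F m)) * x =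
      x * ((c.out : Cfsg.Sz F m)⁻¹ * (c'.out : Cfsg.Sz F m))
    calc _ = (c.out : Cfsg.Sz F m)⁻¹ * ((c'.out : Cfsg.Sz F m) * x * (c'.out : Cfsg.Sz F m)⁻¹) *
          (c'.out : Cfsg.Sz F m) := by simp [mul_assoc]
      _ = _ := by rw [← mat_injective h']; simp [mul_assoc]
  have hle : Nat.card (N ⧸ A.subgroupOf N) ≤ 4 := by
    refine (Nat.card_le_card_of_injective f hf).trans ?_
    rw [Nat.card_eq_fintype_card, Fintype.card_coe]
    refine (Multiset.toFinset_card_le _).trans ((Polynomial.card_roots' _).trans ?_)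
    exact Polynomial.natDegree_map_le.trans M.deg
  have hN : Nat.card N = Nat.card (N ⧸ A.subgroupOf N) * Nat.card A := by
    rw [Subgroup.card_eq_card_quotient_mul_card_subgroup (A.subgroupOf N),
      Nat.card_congr (Subgroup.subgroupOfEquivOfLe hAN).toEquiv]
  refine ⟨_, ?_, hN⟩
  have h3 : Nat.card (N ⧸ A.subgroupOf N) ≠ 3 := fun e => three_not_dvd hm hF
    ((e ▸ Dvd.intro _ hN.symm : (3 : ℕ) ∣ Nat.card N).trans (Subgroup.card_subgroup_dvd_card N))
  have h0 : 0 < Nat.card (N ⧸ A.subgroupOf N) := Nat.card_pos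
  omega

theorem card_fixedBy {g : Cfsg.Sz F m} (hg : g ≠ 1) :
    (Fpf g ∧ Nat.card (fixedBy (Cfsg.suzukiOvoid F m) g) = 0) ∨
      (¬ Fpf g ∧ (Nat.card (fixedBy (Cfsg.suzukiOvoid F m) g) = 1 ∨
        Nat.card (fixedBy (Cfsg.suzukiOvoid F m) g) = 2)) := by
  have hG := good_of_card (m := m) hF
  have hconj : ∀ k : Cfsg.Sz F m, Nat.card (fixedBy (Cfsg.suzukiOvoid F m) g) =
      Nat.card (fixedBy (Cfsg.suzukiOvoid F m) (k * g * k⁻¹)) := fun k => by
    rw [← MulAction.smul_fixedBy, Nat.card_coe_set_eq, Nat.card_coe_set_eq,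
      Set.ncard_smul_set]
  by_cases hf : Fpf g
  · refine Or.inl ⟨hf, Nat.card_eq_zero.mpr (Or.inl ⟨fun p => hf p.1 p.2⟩)⟩
  refine Or.inr ⟨hf, ?_⟩
  rcases elt_cases hm hF g with h | ⟨k, hk⟩ | ⟨k, c, hc, hk⟩
  · exact absurd h hf
  · left
    rw [hconj k, Nat.card_coe_set_eq, Set.ncard_eq_one]
    refine ⟨pI, Set.eq_singleton_iff_unique_mem.mpr ⟨U_le _ hk, fun p hp => ?_⟩⟩
    exact U_fixes_only _ hk (fun e => hg (by simpa [mul_inv_eq_one, mul_eq_left] using e)) hp
  · right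
    rw [hconj k, hk, Nat.card_coe_set_eq, Set.ncard_eq_two]
    refine ⟨pI, pP 0 0, (pP_ne_pI 0 0).symm, ?_⟩
    ext p
    refine ⟨fun hp => ?_, ?_⟩
    · exact H_fixes_two _ hc hp
    · rintro (rfl | rfl)
      · exact H_pI _ c
      · exact H_pP_zero _ c

theorem card_fpf :
    2 * Nat.card {g : Cfsg.Sz F m | Fpf g} = Nat.card F ^ 3 * (Nat.card F - 1) ^ 2 := by
  classical
  have hG := good_of_card (m := m) hF
  set N := Nat.card (Cfsg.suzukiOvoid F m) with hNdef
  have hN : N = Nat.card F ^ 2 + 1 := by rw [hNdef, card_ovoid, Nat.card_eq_fintype_card]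
  set f : Cfsg.Sz F m → ℕ := fun g => Nat.card (fixedBy (Cfsg.suzukiOvoid F m) g)
  have hpt := pretransitive (m := m) hG
  have hp2 := pretransitive_two (m := m) hG
  have hburn : ∀ (α : Type u) [MulAction (Cfsg.Sz F m) α] [Finite α] [Nonempty α]
      [IsPretransitive (Cfsg.Sz F m) α],
      ∑ g : Cfsg.Sz F m, Nat.card (fixedBy α g) = Nat.card (Cfsg.Sz F m) := by
    intro α _ _ _ _
    have := Fintype.ofFinite α
    have h := sum_card_fixedBy_eq_card_orbits_mul_card_group (Cfsg.Sz F m) α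
    have : Subsingleton (Quotient (orbitRel (Cfsg.Sz F m) α)) :=
      (pretransitive_iff_subsingleton_quotient (Cfsg.Sz F m) α).mp inferInstance
    have : Nonempty (Quotient (orbitRel (Cfsg.Sz F m) α)) := ⟨⟦Classical.arbitrary α⟧⟩
    rw [Fintype.card_eq_one_iff_nonempty_unique.mpr ⟨uniqueOfSubsingleton (Classical.arbitrary _)⟩,
      one_mul] at h
    simpa only [Nat.card_eq_fintype_card] using h
  have h1 : ∑ g, f g = Nat.card (Cfsg.Sz F m) := by
    have : Nonempty (Cfsg.suzukiOvoid F m) := ⟨pI⟩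
    exact hburn (Cfsg.suzukiOvoid F m)
  have h2 : ∑ g, (f g).descFactorial 2 = Nat.card (Cfsg.Sz F m) := by
    have : Nonempty (Fin 2 ↪ Cfsg.suzukiOvoid F m) :=
      ⟨⟨![pI, pP 0 0], fun i j h => by
        fin_cases i <;> fin_cases j <;> simp_all [pP_ne_pI, (pP_ne_pI (m := m) (0 : F) 0).symm]⟩⟩
    have : IsPretransitive (Cfsg.Sz F m) (Fin 2 ↪ Cfsg.suzukiOvoid F m) := hp2
    rw [← hburn (Fin 2 ↪ Cfsg.suzukiOvoid F m)]
    refine Finset.sum_congr rfl fun g _ => ?_
    show (Nat.card (fixedBy (Cfsg.suzukiOvoid F m) g)).descFactorial 2 = _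
    have := Fintype.ofFinite (fixedBy (Cfsg.suzukiOvoid F m) g)
    rw [Nat.card_eq_fintype_card, ← Fintype.card_fin 2, ← Fintype.card_embedding_eq,
      Fintype.card_fin, ← Nat.card_eq_fintype_card]
    refine Nat.card_congr
      { toFun := fun e => ⟨e.trans (Function.Embedding.subtype _), Function.Embedding.ext
          fun i => (e i).2⟩
        invFun := fun e => ⟨fun i => ⟨e.1 i, DFunLike.congr_fun e.2 i⟩,
          fun i j h => e.1.injective (congrArg Subtype.val h)⟩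
        left_inv := fun e => by ext i; rfl
        right_inv := fun e => by ext i; rfl }
  have hpoint : ∀ g : Cfsg.Sz F m, g ≠ 1 →
      2 * (if Fpf g then 1 else 0) + 2 * f g = 2 + (f g).descFactorial 2 := fun g hg => by
    rcases card_fixedBy hm hF hg with ⟨hf, h0⟩ | ⟨hf, h1 | h1⟩
    · simp only [f, hf, h0]; rfl
    · simp only [f, hf, h1]; rfl
    · simp only [f, hf, h1]; rfl
  have hsum := Finset.sum_congr rfl
    (fun g hg => hpoint g (Finset.ne_of_mem_erase hg) :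
      ∀ g ∈ (Finset.univ : Finset (Cfsg.Sz F m)).erase 1, _ = _)
  rw [Finset.sum_add_distrib, Finset.sum_add_distrib, ← Finset.mul_sum, ← Finset.mul_sum,
    Finset.sum_const, Finset.card_erase_of_mem (Finset.mem_univ _), Finset.card_univ,
    smul_eq_mul] at hsum
  have h1' := Finset.add_sum_erase _ f (Finset.mem_univ (1 : Cfsg.Sz F m))
  have h2' := Finset.add_sum_erase _ (fun g => (f g).descFactorial 2)
    (Finset.mem_univ (1 : Cfsg.Sz F m))
  beta_reduce at h2'
  have h3' := Finset.add_sum_erase _ (fun g : Cfsg.Sz F m => if Fpf g then 1 else 0)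
    (Finset.mem_univ (1 : Cfsg.Sz F m))
  have hf1 : f 1 = N := by simp [f, hNdef]
  have hn1 : ¬ Fpf (1 : Cfsg.Sz F m) := fun h => ne_one_of_fpf hm hF h rfl
  have hS : ∑ g : Cfsg.Sz F m, (if Fpf g then 1 else 0) =
      Nat.card {g : Cfsg.Sz F m | Fpf g} := by
    rw [Finset.sum_boole, Nat.card_coe_set_eq, Set.ncard_eq_toFinset_card', Nat.cast_id]
    simp
  simp only [if_neg hn1, zero_add] at h3'
  rw [hf1, h1] at h1'
  rw [hf1, h2, Nat.descFactorial_succ, Nat.descFactorial_one] at h2'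
  rw [h3', hS, ← Nat.card_eq_fintype_card] at hsum
  rw [card_sz hm hF] at h1' h2' hsum
  have h8 := eight_le hm hF
  generalize Nat.card {g : Cfsg.Sz F m | Fpf g} = n0 at hsum ⊢
  generalize (Finset.univ.erase (1 : Cfsg.Sz F m)).sum f = S1 at hsum h1'
  generalize (Finset.univ.erase (1 : Cfsg.Sz F m)).sum (fun g => (f g).descFactorial 2) = S2
    at hsum h2'
  obtain ⟨r, hr⟩ : ∃ r, Nat.card F = r + 1 := ⟨Nat.card F - 1, by omega⟩
  simp only [hN, hr, Nat.add_sub_cancel] at hsum h1' h2' h8 ⊢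
  have e : (r + 1) ^ 2 * r * ((r + 1) ^ 2 + 1) - 1 + 1 = (r + 1) ^ 2 * r * ((r + 1) ^ 2 + 1) :=
    Nat.sub_add_cancel (by nlinarith)
  nlinarith

omit hm hF in
theorem card_union {α : Type*} [Finite α] {s t : Set α} (h : Disjoint s t) :
    Nat.card (s ∪ t : Set α) = Nat.card s + Nat.card t := by
  rw [Nat.card_coe_set_eq, Nat.card_coe_set_eq, Nat.card_coe_set_eq, Set.ncard_union_eq h]

theorem exists_elt_dvd {p : ℕ} (hp : p.Prime) (h : p ∣ Nat.card F ^ 2 + 1) :
    ∃ y : Cfsg.Sz F m, Fpf y ∧ p ∣ Nat.card (Subgroup.centralizer {y}) := by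
  have := Fact.mk hp
  obtain ⟨y, hy⟩ := exists_prime_orderOf_dvd_card' (G := Cfsg.Sz F m) p (by
    rw [card_sz hm hF]; exact h.mul_left _)
  refine ⟨y, fpf_of_prime_dvd hm hF hp hy.symm.dvd h, ?_⟩
  have hmem : y ∈ Subgroup.centralizer {y} := Subgroup.mem_centralizer_singleton_iff.mpr rfl
  rw [← hy, ← Subgroup.orderOf_mk y hmem]
  exact orderOf_dvd_natCard _

theorem full_part {g : Cfsg.Sz F m} {p : ℕ} (hp : p.Prime) (hg : Fpf g)
    (hd : p ∣ Nat.card (Subgroup.centralizer {g})) :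
    (Nat.card F ^ 2 + 1).factorization p ≤
      (Nat.card (Subgroup.centralizer {g})).factorization p := by
  have := Fact.mk hp
  obtain ⟨P, hP⟩ := exists_sylow_le hm hF hg hd
  have h := Subgroup.card_dvd_of_le hP
  rw [P.card_eq_multiplicity] at h
  refine le_trans ?_ ((hp.pow_dvd_iff_le_factorization Nat.card_pos.ne').mp h)
  refine (Nat.factorization_le_iff_dvd (by positivity) Nat.card_pos.ne').mpr ?_ p
  rw [card_sz hm hF]
  exact dvd_mul_left _ _

theorem n0_lt : 2 * Nat.card {g : Cfsg.Sz F m | Fpf g} < Nat.card (Cfsg.Sz F m) := by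
  rw [card_fpf hm hF, card_sz hm hF]
  have h8 := eight_le hm hF
  obtain ⟨r, hr⟩ : ∃ r, Nat.card F = r + 1 := ⟨Nat.card F - 1, by omega⟩
  rw [hr, Nat.add_sub_cancel]
  have : (r + 1) * r < (r + 1) ^ 2 + 1 := by nlinarith
  calc (r + 1) ^ 3 * r ^ 2 = (r + 1) ^ 2 * r * ((r + 1) * r) := by ring
    _ < _ := Nat.mul_lt_mul_of_pos_left this (by nlinarith)

/-- The two classes. -/
theorem torus_structure :
    ∃ g h : Cfsg.Sz F m, Fpf g ∧ Fpf h ∧ (∀ v, Fpf v → v ∈ cls g ∨ v ∈ cls h) ∧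
      Nat.card (Subgroup.centralizer {g}) = 2 ^ (2 * m + 1) - 2 ^ (m + 1) + 1 ∧
      Nat.card (Subgroup.centralizer {h}) = 2 ^ (2 * m + 1) + 2 ^ (m + 1) + 1 ∧
      (∀ v : Cfsg.Sz F m, Fpf v → Nat.card (Subgroup.normalizer (Subgroup.centralizer {v} : Set (Cfsg.Sz F m))) =
        4 * Nat.card (Subgroup.centralizer {v})) := by
  classical
  set q := Nat.card F with hqdef
  have hq : q = 2 ^ (2 * m + 1) := by rw [hqdef, Nat.card_eq_fintype_card, hF]
  have h8 : 8 ≤ q := eight_le hm hF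
  set G := Nat.card (Cfsg.Sz F m) with hGdef
  have hG : G = q ^ 2 * (q - 1) * (q ^ 2 + 1) := card_sz hm hF
  have hGpos : 0 < G := Nat.card_pos
  have hn0 := card_fpf hm hF
  rw [← hqdef] at hn0
  set S := {g : Cfsg.Sz F m | Fpf g}
  have hlt : 2 * Nat.card S < G := n0_lt hm hF
  have hbig : ∀ v, Fpf v → G ≤ 5 * Nat.card (cls v) := fun v hv => by
    obtain ⟨e, he, hN⟩ := normalizer_index hm hF hv
    have h := card_cls hm hF hv
    rw [hN] at h
    have h5 := five_le_torus hm hF hv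
    generalize Nat.card (Subgroup.centralizer {v}) = a at h h5
    obtain ⟨b, rfl⟩ : ∃ b, a = b + 1 := ⟨a - 1, by omega⟩
    rw [Nat.add_sub_cancel, ← hGdef] at h
    have : e ≤ 4 := by omega
    have h' : b * G ≤ Nat.card (cls v) * (4 * (b + 1)) := h ▸ by gcongr
    nlinarith
  have hsub : ∀ v, Fpf v → cls v ⊆ S := fun v hv w hw => cls_fpf hm hF hv hw
  obtain ⟨p, hp, hpd⟩ := Nat.exists_prime_and_dvd (n := q ^ 2 + 1) (by nlinarith)
  obtain ⟨g, hg, -⟩ := exists_elt_dvd hm hF hp hpd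
  -- a second class exists
  obtain ⟨h, hh, hn⟩ : ∃ h, Fpf h ∧ h ∉ cls g := by
    by_contra hall
    push Not at hall
    have hS : cls g = S := Set.Subset.antisymm (hsub g hg) hall
    have ha : Nat.card (Subgroup.centralizer {g}) = q ^ 2 + 1 := by
      refine Nat.dvd_antisymm (card_torus_dvd hm hF hg)
        ((Nat.factorization_le_iff_dvd (by positivity) Nat.card_pos.ne').mp fun r => ?_)
      by_cases hr : r.Prime ∧ r ∣ q ^ 2 + 1
      · obtain ⟨y, hy, hyd⟩ := exists_elt_dvd hm hF hr.1 hr.2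
        rw [card_eq_of_mem_cls hm hF hg (hall y hy)] at hyd
        exact full_part hm hF hr.1 hg hyd
      · rw [not_and_or] at hr
        rcases hr with hr | hr
        · simp [Nat.factorization_eq_zero_of_not_prime _ hr]
        · simp [Nat.factorization_eq_zero_of_not_dvd hr]
    obtain ⟨e, he, hN⟩ := normalizer_index hm hF hg
    have hc := card_cls hm hF hg
    rw [hN, hS, ha, Nat.add_sub_cancel, ← hGdef, hG] at hc
    obtain ⟨r, hr⟩ : ∃ r, q = r + 1 := ⟨q - 1, by omega⟩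
    rw [hr, Nat.add_sub_cancel] at hc hn0
    have key : e * ((r + 1) * r) = 2 * (r + 1) ^ 2 := by
      refine Nat.eq_of_mul_eq_mul_left
        (show 0 < (r + 1) ^ 2 * r * ((r + 1) ^ 2 + 1) from Nat.pos_of_ne_zero (by
          rw [hr, Nat.add_sub_cancel] at hG; rw [← hG]; exact hGpos.ne')) ?_
      calc (r + 1) ^ 2 * r * ((r + 1) ^ 2 + 1) * (e * ((r + 1) * r)) =
            (2 * Nat.card S) * (e * ((r + 1) ^ 2 + 1)) := by rw [hn0]; ring
        _ = 2 * ((r + 1) ^ 2 * ((r + 1) ^ 2 * r * ((r + 1) ^ 2 + 1))) := by rw [← hc]; ring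
        _ = _ := by ring
    rcases he with rfl | rfl | rfl <;> nlinarith
  have hd12 := disjoint_cls hm hF hg hh hn
  have hcov : ∀ v, Fpf v → v ∈ cls g ∨ v ∈ cls h := by
    intro v hv
    by_contra hv'
    push Not at hv'
    have d1 := disjoint_cls hm hF hg hv hv'.1
    have d2 := disjoint_cls hm hF hh hv hv'.2
    have hle : Nat.card (cls g ∪ cls h ∪ cls v : Set (Cfsg.Sz F m)) ≤ Nat.card S :=
      Nat.card_mono (Set.toFinite _)
        (Set.union_subset (Set.union_subset (hsub g hg) (hsub h hh)) (hsub v hv))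
    rw [card_union (Set.disjoint_union_left.mpr ⟨d1, d2⟩), card_union hd12] at hle
    have := hbig g hg
    have := hbig h hh
    have := hbig v hv
    omega
  have hS : Nat.card S = Nat.card (cls g) + Nat.card (cls h) := by
    rw [← card_union hd12]
    congr 1
    exact congrArg _ (Set.Subset.antisymm hcov (Set.union_subset (hsub g hg) (hsub h hh)))
  have hfour : ∀ v w : Cfsg.Sz F m, Fpf v → Fpf w → Nat.card S = Nat.card (cls v) + Nat.card (cls w) →
      Nat.card (Subgroup.normalizer (Subgroup.centralizer {v} : Set (Cfsg.Sz F m))) =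
        4 * Nat.card (Subgroup.centralizer {v}) := by
    intro v w hv hw hS'
    obtain ⟨e, he, hN⟩ := normalizer_index hm hF hv
    rcases he with he | he | rfl
    rotate_left 2
    · exact hN
    all_goals
      exfalso
      have hc := card_cls hm hF hv
      rw [hN] at hc
      have h5 := five_le_torus hm hF hv
      generalize Nat.card (Subgroup.centralizer {v}) = a at hc h5
      obtain ⟨b, rfl⟩ : ∃ b, a = b + 1 := ⟨a - 1, by omega⟩
      rw [Nat.add_sub_cancel, ← hGdef] at hc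
      subst he
      have := hbig w hw
      nlinarith
  have hNg := hfour g h hg hh hS
  have hNh := hfour h g hh hg (by rw [hS, add_comm])
  set a := Nat.card (Subgroup.centralizer {g}) with hadef
  set b := Nat.card (Subgroup.centralizer {h}) with hbdef
  have hab : a * b = q ^ 2 + 1 := by
    have hc := coprime_of_not_mem_cls hm hF hg hh hn
    refine Nat.dvd_antisymm (hc.mul_dvd_of_dvd_of_dvd (card_torus_dvd hm hF hg)
      (card_torus_dvd hm hF hh)) ((Nat.factorization_le_iff_dvd (by positivity)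
      (Nat.mul_ne_zero Nat.card_pos.ne' Nat.card_pos.ne')).mp fun r => ?_)
    by_cases hr : r.Prime ∧ r ∣ q ^ 2 + 1
    · obtain ⟨y, hy, hyd⟩ := exists_elt_dvd hm hF hr.1 hr.2
      rw [Nat.factorization_mul Nat.card_pos.ne' Nat.card_pos.ne', Finsupp.add_apply]
      rcases hcov y hy with hy' | hy'
      · rw [card_eq_of_mem_cls hm hF hg hy'] at hyd
        exact le_add_right (full_part hm hF hr.1 hg hyd)
      · rw [card_eq_of_mem_cls hm hF hh hy'] at hyd
        exact le_add_left (full_part hm hF hr.1 hh hyd)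
    · rw [not_and_or] at hr
      rcases hr with hr | hr
      · simp [Nat.factorization_eq_zero_of_not_prime _ hr]
      · simp [Nat.factorization_eq_zero_of_not_dvd hr]
  have ha5 := five_le_torus hm hF hg
  have hb5 := five_le_torus hm hF hh
  have hca := card_cls hm hF hg
  have hcb := card_cls hm hF hh
  rw [hNg, ← hGdef] at hca
  rw [hNh, ← hGdef] at hcb
  have hsum : a + b = 2 * q + 2 := by
    have hGz : ((G : ℤ)) ≠ 0 := by exact_mod_cast hGpos.ne'
    have eG : (G : ℤ) = (q : ℤ) ^ 2 * ((q : ℤ) - 1) * ((q : ℤ) ^ 2 + 1) := by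
      rw [hG, Nat.cast_mul, Nat.cast_mul, Nat.cast_sub (by omega)]; push_cast; ring
    have e1 : (Nat.card (cls g) : ℤ) * (4 * a) = ((a : ℤ) - 1) * G := by
      have := congrArg (Nat.cast : ℕ → ℤ) hca
      rw [Nat.cast_mul, Nat.cast_mul, Nat.cast_mul, Nat.cast_sub (by omega)] at this
      push_cast at this
      exact this
    have e2 : (Nat.card (cls h) : ℤ) * (4 * b) = ((b : ℤ) - 1) * G := by
      have := congrArg (Nat.cast : ℕ → ℤ) hcb
      rw [Nat.cast_mul, Nat.cast_mul, Nat.cast_mul, Nat.cast_sub (by omega)] at this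
      push_cast at this
      exact this
    have e3 : 2 * ((Nat.card (cls g) : ℤ) + Nat.card (cls h)) = (q : ℤ) ^ 3 * ((q : ℤ) - 1) ^ 2 := by
      have := congrArg (Nat.cast : ℕ → ℤ) hn0
      rw [hS, Nat.cast_mul, Nat.cast_mul, Nat.cast_pow ((q - 1)), Nat.cast_sub (by omega)] at this
      push_cast at this
      exact this
    have e4 : (a : ℤ) * b = (q : ℤ) ^ 2 + 1 := by exact_mod_cast hab
    have key : ((b : ℤ) * (a - 1) + a * (b - 1) - 2 * q * (q - 1)) * (G : ℤ) = 0 := by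
      linear_combination (-(b : ℤ)) * e1 + (-(a : ℤ)) * e2 + 2 * (a : ℤ) * b * e3 +
        2 * ((q : ℤ) ^ 3 * ((q : ℤ) - 1) ^ 2) * e4 - 2 * (q : ℤ) * ((q : ℤ) - 1) * eG
    have := (mul_eq_zero.mp key).resolve_right hGz
    have : ((a + b : ℕ) : ℤ) = ((2 * q + 2 : ℕ) : ℤ) := by push_cast; linear_combination -this + 2 * e4
    exact_mod_cast this
  set s := 2 ^ (m + 1) with hsdef
  have hs : s ^ 2 = 2 * q := by rw [hq, hsdef, ← pow_mul, ← pow_succ']; congr 1; ring
  have hsq : ((a : ℤ) - (q + 1)) ^ 2 = (s : ℤ) ^ 2 := by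
    have e4 : (a : ℤ) * b = (q : ℤ) ^ 2 + 1 := by exact_mod_cast hab
    have e5 : (a : ℤ) + b = 2 * q + 2 := by exact_mod_cast hsum
    have e6 : (s : ℤ) ^ 2 = 2 * q := by exact_mod_cast hs
    linear_combination (a : ℤ) * e5 - e4 - e6
  have hNall : ∀ v : Cfsg.Sz F m, Fpf v → Nat.card (Subgroup.normalizer
      (Subgroup.centralizer {v} : Set (Cfsg.Sz F m))) = 4 * Nat.card (Subgroup.centralizer {v}) := by
    intro v hv
    rcases hcov v hv with hv' | hv'
    · exact hfour v h hv hh (by rw [hS, cls_eq_of_mem hm hF hg hv'])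
    · exact hfour v g hv hg (by rw [hS, cls_eq_of_mem hm hF hh hv', add_comm])
  rcases sq_eq_sq_iff_eq_or_eq_neg.mp hsq with e | e
  · refine ⟨h, g, hh, hg, fun v hv => (hcov v hv).symm, ?_, ?_, hNall⟩
    · rw [← hbdef, ← hq]; omega
    · rw [← hadef, ← hq]; omega
  · refine ⟨g, h, hg, hh, hcov, ?_, ?_, hNall⟩
    · rw [← hadef, ← hq]; omega
    · rw [← hbdef, ← hq]; omega

end Cfsg.Agent.Suzuki
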