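import Cfsg.Agent.Suzuki.Tori3

/-!
Transitive actions of the Suzuki group with fixity two.
-/

set_option autoImplicit false

namespace Cfsg.Agent.Suzuki

open Matrix Cfsg.Agent.RankOne.Ovoid MulAction
open scoped Pointwise

universe u v

section General

variable {G : Type*} [Group G] {Ω : Type*} [Fintype Ω] [MulAction G Ω]
  (hfix : ∀ g : G, g ≠ 1 → Nat.card (fixedBy Ω g) ≤ 2)

include hfix

theorem three_fix {h : G} (h1 : h ≠ 1) {a b c : Ω} (ha : h • a = a) (hb : h • b = b)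
    (hc : h • c = c) : a = b ∨ a = c ∨ b = c := by
  by_contra hne
  push Not at hne
  have hle := hfix h h1
  have hsub : ({a, b, c} : Set Ω) ⊆ fixedBy Ω h := by
    rintro x (rfl | rfl | rfl) <;> assumption
  have := Set.ncard_le_ncard hsub (Set.toFinite _)
  rw [Set.ncard_eq_three.mpr ⟨a, b, c, hne.1, hne.2.1, hne.2.2, rfl⟩] at this
  rw [Nat.card_coe_set_eq] at hle
  omega

/-- The square of an element of a subgroup whose orbit consists of fixed points of `h`. -/
theorem sq_fix {h : G} (h1 : h ≠ 1) {K : Subgroup G} {α : Ω}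
    (hK : ∀ n ∈ K, h • n • α = n • α) {k : G} (hk : k ∈ K) : (k * k) • α = α := by
  have e0 : h • α = α := by simpa using hK 1 K.one_mem
  rcases three_fix hfix h1 e0 (hK k hk) (hK _ (K.mul_mem hk hk)) with e | e | e
  · rw [mul_smul, ← e, ← e]
  · exact e.symm
  · rw [mul_smul, smul_left_cancel_iff] at e
    rw [mul_smul, ← e, ← e]

theorem odd_fix {h : G} (h1 : h ≠ 1) {K : Subgroup G} {α : Ω}
    (hK : ∀ n ∈ K, h • n • α = n • α) {k : G} (hk : k ∈ K) (ho : Odd (orderOf k)) :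
    k • α = α := by
  obtain ⟨j, hj⟩ := ho
  have e : k = k ^ (j + 1) * k ^ (j + 1) := by
    rw [← pow_add, show j + 1 + (j + 1) = orderOf k + 1 by omega, pow_succ, pow_orderOf_eq_one,
      one_mul]
  rw [e]
  exact sq_fix hfix h1 hK (K.pow_mem hk _)

theorem pigeon_fix {h : G} (h1 : h ≠ 1) {K : Subgroup G} {α : Ω}
    (hK : ∀ n ∈ K, h • n • α = n • α) {k l : G} (hk : k ∈ K) (hl : l ∈ K) :
    k • α = α ∨ l • α = α ∨ (k⁻¹ * l) • α = α := by
  have e0 : h • α = α := by simpa using hK 1 K.one_mem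
  rcases three_fix hfix h1 e0 (hK k hk) (hK l hl) with e | e | e
  · exact Or.inl e.symm
  · exact Or.inr (Or.inl e.symm)
  · exact Or.inr (Or.inr (by rw [mul_smul, ← e, inv_smul_smul]))

end General

variable {F : Type u} [Field F] [Fintype F] {m : ℕ} (hm : 1 ≤ m)
  (hF : Fintype.card F = 2 ^ (2 * m + 1))
variable {Ω : Type v} [Fintype Ω] [MulAction (Cfsg.Sz F m) Ω]
  (hfix : ∀ g : Cfsg.Sz F m, g ≠ 1 → Nat.card (fixedBy Ω g) ≤ 2)

include hm hF hfix

theorem stabilizer_pI_le {β : Ω} {v : Cfsg.Sz F m} (hv : v ∈ U (good_of_card (m := m) hF))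
    (hv1 : v ≠ 1) (hvβ : v • β = β) :
    stabilizer (Cfsg.Sz F m) (pI : Cfsg.suzukiOvoid F m) ≤ stabilizer (Cfsg.Sz F m) β := by
  classical
  have hG := good_of_card (m := m) hF
  obtain ⟨a, b, rfl⟩ := hv
  -- some central element fixes `β`
  have hcomm : ∀ d, Commute (T hG (0 : F) d) (T hG a b) := fun d =>
    (commute_T_iff hG).mpr (by simp [sigma_ne_zero])
  have hCv : ∀ n ∈ Subgroup.centralizer {T hG a b}, T hG a b • n • β = n • β := fun n hn => by
    rw [← mul_smul, ← Subgroup.mem_centralizer_singleton_iff.mp hn, mul_smul, hvβ]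
  obtain ⟨c, hc0, hc1, -⟩ := exists_sigma_ne hm hF
  obtain ⟨b0, hb0, hz0⟩ : ∃ b0 : F, b0 ≠ 0 ∧ T hG 0 b0 • β = β := by
    rcases pigeon_fix hfix hv1 hCv
      (Subgroup.mem_centralizer_singleton_iff.mpr (hcomm 1).eq)
      (Subgroup.mem_centralizer_singleton_iff.mpr (hcomm c).eq) with e | e | e
    · exact ⟨1, one_ne_zero, e⟩
    · exact ⟨c, hc0, e⟩
    · refine ⟨c + 1, fun h => hc1 ?_, ?_⟩
      · have := hG.two
        grind
      · rw [T_inv, T_mul] at e
        simpa [sigma_ne_zero, add_comm] using e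
  have hz1 : T hG (0 : F) b0 ≠ 1 := fun h => hb0 (T_inj hG (h.trans (T_zero hG).symm)).2
  have hall : ∀ d, T hG 0 d • β = β := fun d => by
    obtain ⟨r, hr⟩ := sigma_succ_surj hG d
    rw [← hr, ← T_sq hG r 0]
    refine sq_fix hfix hz1 (K := U hG) ?_ (T_mem hG r 0)
    rintro _ ⟨x, y, rfl⟩
    rw [← mul_smul, ((commute_T_iff hG).mpr (by simp [sigma_ne_zero]) :
      Commute (T hG (0 : F) b0) (T hG x y)).eq, mul_smul, hz0]
  have hz2 : T hG (0 : F) 1 ≠ 1 := T_ne_one hG
  have hB : ∀ n ∈ stabilizer (Cfsg.Sz F m) (pI : Cfsg.suzukiOvoid F m),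
      T hG 0 1 • n • β = n • β := by
    intro n hn
    obtain ⟨x, y, d, rfl⟩ := eq_T_mul_H hG hm hF hn
    have e : T hG 0 1 * (T hG x y * H hG d) =
        (T hG x y * H hG d) * T hG 0 (((d⁻¹ : Fˣ) : F) ^ (2 ^ (m + 1))) := by
      have h1 : H hG d⁻¹ * T hG 0 1 =
          T hG 0 (((d⁻¹ : Fˣ) : F) ^ (2 ^ (m + 1))) * H hG d⁻¹ := by
        rw [H_conj_T, mul_zero, mul_one]
      have h2 : T hG 0 1 * H hG d =
          H hG d * T hG 0 (((d⁻¹ : Fˣ) : F) ^ (2 ^ (m + 1))) := by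
        rw [map_inv] at h1
        rw [eq_mul_inv_iff_mul_eq, mul_assoc, inv_mul_eq_iff_eq_mul] at h1
        exact h1
      rw [← mul_assoc, ((commute_T_iff hG).mpr (by simp [sigma_ne_zero]) :
        Commute (T hG (0 : F) 1) (T hG x y)).eq, mul_assoc, h2, ← mul_assoc]
    rw [← mul_smul, e, mul_smul, hall]
  have hH : ∀ d : Fˣ, ∀ n ∈ stabilizer (Cfsg.Sz F m) (pI : Cfsg.suzukiOvoid F m),
      H hG d • n • β = n • β := by
    intro d n hn
    have hd : d = d ^ (2 ^ (2 * m)) * d ^ (2 ^ (2 * m)) := by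
      refine Units.ext ?_
      rw [← pow_add, Units.val_pow_eq_pow_val, ← two_mul, ← pow_succ', ← hF, FiniteField.pow_card]
    rw [hd, map_mul]
    refine sq_fix hfix hz2 (K := stabilizer (Cfsg.Sz F m) (pI : Cfsg.suzukiOvoid F m))
      (α := n • β) (fun k hk => ?_) (H_pI hG _)
    rw [← mul_smul k n]
    exact hB _ (Subgroup.mul_mem _ hk hn)
  have hu : ∀ r s : F, T hG r s • β = β := by
    intro r s
    obtain ⟨d, hd⟩ : ∃ d : Fˣ, d ≠ 1 := ⟨Units.mk0 c hc0, fun h => hc1 (congrArg Units.val h)⟩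
    have hl : lam m (d : F) - 1 ≠ 0 := fun h => hd (lam_eq_one hG (sub_eq_zero.mp h))
    set x := r / (lam m (d : F) - 1)
    have hx : x * (lam m (d : F) - 1) = r := div_mul_cancel₀ _ hl
    have h1 := hH d _ (U_le hG (T_mem hG x 0))
    have h2 : H hG d • β = β := by simpa using hH d 1 (Subgroup.one_mem _)
    rw [← mul_smul, H_conj_T, mul_zero, mul_smul, h2] at h1
    have h3 : ((T hG x 0)⁻¹ * T hG (lam m (d : F) * x) 0) • β = β := by
      rw [mul_smul, h1, inv_smul_smul]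
    rw [T_inv, T_mul, show x + lam m (d : F) * x = r by
      rw [← hx]; have := hG.two; grind] at h3
    have h4 : ((T hG r (0 + x ^ (2 ^ (m + 1)) * x + 0 + x ^ (2 ^ (m + 1)) * (lam m (d : F) * x))) *
        T hG 0 (s - (0 + x ^ (2 ^ (m + 1)) * x + 0 + x ^ (2 ^ (m + 1)) * (lam m (d : F) * x)))) • β
          = β := by
      rw [mul_smul, hall, h3]
    rw [T_mul] at h4
    convert h4 using 3 <;> ring
  intro n hn
  obtain ⟨x, y, d, rfl⟩ := eq_T_mul_H hG hm hF hn
  rw [mem_stabilizer_iff, mul_smul]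
  have h2 : H hG d • β = β := by simpa using hH d 1 (Subgroup.one_mem _)
  rw [h2, hu]

theorem fixity_two [IsPretransitive (Cfsg.Sz F m) Ω]
    (hex : ∃ g : Cfsg.Sz F m, g ≠ 1 ∧ Nat.card (fixedBy Ω g) = 2) :
    (Fintype.card Ω = Fintype.card F ^ 2 + 1 ∧ IsMultiplyPretransitive (Cfsg.Sz F m) Ω 2) ∨
      (Fintype.card Ω = Fintype.card F ^ 2 * (Fintype.card F ^ 2 + 1) ∧
        ∀ α : Ω, Nat.card (stabilizer (Cfsg.Sz F m) α) = Fintype.card F - 1) := by
  classical
  have hG := good_of_card (m := m) hF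
  have hpt := pretransitive (m := m) hG
  obtain ⟨g0, hg0, hg2⟩ := hex
  obtain ⟨a1, a2, ha, hfs⟩ := Set.ncard_eq_two.mp (Nat.card_coe_set_eq _ ▸ hg2)
  have ha1 : g0 • a1 = a1 := (hfs ▸ Set.mem_insert a1 {a2} : a1 ∈ fixedBy Ω g0)
  have : Nontrivial Ω := ⟨⟨a1, a2, ha⟩⟩
  have hcardG : Nat.card (Cfsg.Sz F m) =
      Nat.card F ^ 2 * (Nat.card F - 1) * (Nat.card F ^ 2 + 1) := card_sz hm hF
  by_cases hA : ∃ (β : Ω) (v : Cfsg.Sz F m), v ∈ U hG ∧ v ≠ 1 ∧ v • β = β
  · -- the stabiliser is that of a point of the ovoid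
    obtain ⟨β, v, hv, hv1, hvβ⟩ := hA
    left
    have hle := stabilizer_pI_le hm hF hfix hv hv1 hvβ
    have : Nontrivial (Cfsg.suzukiOvoid F m) := ⟨⟨pP 0 0, pI, pP_ne_pI 0 0⟩⟩
    have hprim : IsPreprimitive (Cfsg.Sz F m) (Cfsg.suzukiOvoid F m) :=
      isPreprimitive_of_is_two_pretransitive (pretransitive_two hG)
    have hcoat := IsPreprimitive.isCoatom_stabilizer_of_isPreprimitive (G := Cfsg.Sz F m) (pI : Cfsg.suzukiOvoid F m)
    have heq : stabilizer (Cfsg.Sz F m) β =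
        stabilizer (Cfsg.Sz F m) (pI : Cfsg.suzukiOvoid F m) := by
      refine (hcoat.le_iff.mp hle).resolve_left fun htop => ?_
      obtain ⟨γ, hγ⟩ := exists_ne β
      obtain ⟨k, hk⟩ := MulAction.exists_smul_eq (Cfsg.Sz F m) β γ
      exact hγ (hk ▸ (htop ▸ Subgroup.mem_top k : k ∈ stabilizer (Cfsg.Sz F m) β))
    refine ⟨?_, ?_⟩
    · rw [← Nat.card_eq_fintype_card (α := Ω), ← index_stabilizer_of_transitive (Cfsg.Sz F m) β,
        heq, index_stabilizer_of_transitive, card_ovoid]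
    · have hlift : ∀ g k : Cfsg.Sz F m,
          (g • (pI : Cfsg.suzukiOvoid F m) = k • pI) ↔ g • β = k • β := fun g k => by
        rw [← inv_smul_eq_iff, ← mul_smul, ← mem_stabilizer_iff, ← heq, mem_stabilizer_iff,
          mul_smul, inv_smul_eq_iff]
      rw [is_two_pretransitive_iff]
      intro a b c d hab hcd
      obtain ⟨ga, rfl⟩ := MulAction.exists_smul_eq (Cfsg.Sz F m) β a
      obtain ⟨gb, rfl⟩ := MulAction.exists_smul_eq (Cfsg.Sz F m) β b
      obtain ⟨gc, rfl⟩ := MulAction.exists_smul_eq (Cfsg.Sz F m) β c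
      obtain ⟨gd, rfl⟩ := MulAction.exists_smul_eq (Cfsg.Sz F m) β d
      have hab' : ga • (pI : Cfsg.suzukiOvoid F m) ≠ gb • pI := fun h => hab ((hlift _ _).mp h)
      have hcd' : gc • (pI : Cfsg.suzukiOvoid F m) ≠ gd • pI := fun h => hcd ((hlift _ _).mp h)
      obtain ⟨k, hk1, hk2⟩ := (is_two_pretransitive_iff.mp (pretransitive_two hG)) hab' hcd'
      exact ⟨k, by rw [← mul_smul, ← hlift, mul_smul, hk1],
        by rw [← mul_smul, ← hlift, mul_smul, hk2]⟩
  -- all stabilisers consist of torus elements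
  have hnoU : ∀ (α : Ω) (g : Cfsg.Sz F m), g • α = α → g ≠ 1 → ¬ ∃ k, k * g * k⁻¹ ∈ U hG := by
    rintro α g hg hg1 ⟨k, hk⟩
    refine hA ⟨k • α, _, hk, fun e => hg1 (by simpa [mul_inv_eq_one, mul_eq_left] using e), ?_⟩
    rw [mul_smul, mul_smul, inv_smul_smul, hg]
  have h8 := eight_le hm hF
  have hno : ∀ (α : Ω) (g : Cfsg.Sz F m), g • α = α → ¬ Fpf g := by
    intro α h hα hf
    have hne := ne_one_of_fpf hm hF hf
    set A := Subgroup.centralizer {h}
    have hAle : ∀ a ∈ A, a • α = α := fun a ha => by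
      refine odd_fix hfix hne (K := A) (fun n hn => ?_) ha ?_
      · rw [← mul_smul, ← Subgroup.mem_centralizer_singleton_iff.mp hn, mul_smul, hα]
      · rw [← Nat.not_even_iff_odd, even_iff_two_dvd]
        intro h2
        exact (prime_facts hm hF Nat.prime_two
          ((h2.trans (Subgroup.orderOf_mk a ha ▸ orderOf_dvd_natCard (⟨a, ha⟩ : A))).trans
            (card_torus_dvd hm hF hf))).1 rfl
    obtain ⟨g, h', -, -, -, -, -, hN⟩ := torus_structure hm hF
    set N := Subgroup.normalizer (A : Set (Cfsg.Sz F m))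
    have hcardN : Nat.card N = 4 * Nat.card A := hN h hf
    have : Fact (Nat.Prime 2) := ⟨Nat.prime_two⟩
    obtain ⟨P, hP⟩ := Sylow.exists_subgroup_card_pow_prime 2 (n := 2)
      (show 2 ^ 2 ∣ Nat.card N by rw [hcardN]; exact dvd_mul_right _ _)
    obtain ⟨k, l, hk, hl, hkl⟩ : ∃ k l : P, k ≠ 1 ∧ l ≠ 1 ∧ k ≠ l := by
      have := Fintype.ofFinite P
      have h4 : 2 < Fintype.card P := by rw [← Nat.card_eq_fintype_card, hP]; norm_num
      obtain ⟨k, hk⟩ := @exists_ne P (Finite.one_lt_card_iff_nontrivial.mp (by rw [hP]; norm_num : 1 < Nat.card P)) (1 : P)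
      obtain ⟨l, -, hl⟩ := Finset.exists_mem_notMem_of_card_lt_card (s := ({1, k} : Finset P))
        (t := Finset.univ) (lt_of_le_of_lt Finset.card_le_two (by rwa [Finset.card_univ]))
      simp only [Finset.mem_insert, Finset.mem_singleton, not_or] at hl
      exact ⟨k, l, hk, hl.1, fun e => hl.2 e.symm⟩
    have hK : ∀ n ∈ N, h • n • α = n • α := fun n hn => by
      have := hAle _ ((Subgroup.mem_normalizer_iff''.mp hn h).mp
        (Subgroup.mem_centralizer_singleton_iff.mpr rfl))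
      rw [mul_smul, mul_smul, inv_smul_eq_iff] at this
      exact this
    have hbad : ∀ r : P, r ≠ 1 → ((r : N) : Cfsg.Sz F m) • α ≠ α := fun r hr hfixed => by
      have h4 : orderOf ((r : N) : Cfsg.Sz F m) ∣ 2 ^ 2 := by
        rw [Subgroup.orderOf_coe, Subgroup.orderOf_coe, ← hP]
        exact orderOf_dvd_natCard r
      have hr1 : ((r : N) : Cfsg.Sz F m) ≠ 1 := fun e => hr (Subtype.ext (Subtype.ext e))
      obtain ⟨p, hp, hpd⟩ := Nat.exists_prime_and_dvd (n := orderOf ((r : N) : Cfsg.Sz F m))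
        (fun e => hr1 (orderOf_eq_one_iff.mp e))
      obtain rfl := (Nat.prime_dvd_prime_iff_eq hp Nat.prime_two).mp
        (hp.dvd_of_dvd_pow (hpd.trans h4))
      rcases elt_cases hm hF ((r : N) : Cfsg.Sz F m) with hr' | hr' | ⟨k, c, -, hr'⟩
      · exact (dvd_of_fpf hG hm hF hr' hp hpd).1 rfl
      · exact hnoU α _ hfixed hr1 hr'
      · have := hpd.trans (orderOf_dvd_sub_one hF hr')
        have := even_q hm hF
        omega
    rcases pigeon_fix hfix hne hK (k : N).2 (l : N).2 with e | e | e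
    · exact hbad k hk e
    · exact hbad l hl e
    · exact hbad (k⁻¹ * l) (fun e' => hkl (inv_mul_eq_one.mp e')) e
  right
  have hstab : ∀ α : Ω, Nat.card (stabilizer (Cfsg.Sz F m) α) = Fintype.card F - 1 := by
    intro α
    obtain ⟨k0, hk0⟩ := MulAction.exists_smul_eq (Cfsg.Sz F m) a1 α
    set h := k0 * g0 * k0⁻¹ with hdef
    have hα : h • α = α := by rw [hdef, ← hk0, mul_smul, mul_smul, inv_smul_smul, ha1]
    have hne : h ≠ 1 := fun e => hg0 (by simpa [hdef, mul_inv_eq_one, mul_eq_left] using e)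
    obtain ⟨k, c, hc, hk⟩ := ((elt_cases hm hF h).resolve_left (hno α h hα)).resolve_left
      (hnoU α h hα hne)
    obtain ⟨hcy, hcard⟩ := centralizer_of_conj_H hm hF hc hk
    have hT : Subgroup.centralizer {h} ≤ stabilizer (Cfsg.Sz F m) α := fun t ht => by
      refine odd_fix hfix hne (K := Subgroup.centralizer {h}) (fun n hn => ?_) ht ?_
      · rw [← mul_smul, ← Subgroup.mem_centralizer_singleton_iff.mp hn, mul_smul, hα]
      · have hd : orderOf t ∣ Nat.card F - 1 :=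
          hcard ▸ Subgroup.orderOf_mk t ht ▸ orderOf_dvd_natCard _
        refine Odd.of_dvd_nat ?_ hd
        obtain ⟨j, hj⟩ := even_q hm hF
        exact ⟨j - 1, by omega⟩
    refine le_antisymm (Nat.le_of_dvd (by rw [← Nat.card_eq_fintype_card (α := F)]; omega) ?_) ?_
    · have hdvd := Subgroup.card_subgroup_dvd_card (stabilizer (Cfsg.Sz F m) α)
      rw [hcardG] at hdvd
      have hp : ∀ p, p.Prime → p ∣ Nat.card (stabilizer (Cfsg.Sz F m) α) →
          p ∣ Nat.card F - 1 := fun p hp hd => by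
        have := Fact.mk hp
        obtain ⟨⟨y, hy⟩, ho⟩ := exists_prime_orderOf_dvd_card' p hd
        rw [Subgroup.orderOf_mk] at ho
        have hy1 : y ≠ 1 := fun e => hp.ne_one (by rw [← ho, e, orderOf_one])
        obtain ⟨k, c, -, hk⟩ := ((elt_cases hm hF y).resolve_left (hno α y hy)).resolve_left
          (hnoU α y hy hy1)
        exact ho ▸ orderOf_dvd_sub_one hF hk
      rw [← Nat.card_eq_fintype_card (α := F)]
      refine Nat.Coprime.dvd_of_dvd_mul_left ?_ (Nat.Coprime.dvd_of_dvd_mul_right ?_ hdvd)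
      · refine Nat.coprime_of_dvd fun p hp' h1 h2 => ?_
        have h3 := hp p hp' h1
        have h4 := hp'.dvd_of_dvd_pow h2
        exact hp'.not_dvd_one (by
          have := Nat.dvd_sub h4 h3
          rwa [show Nat.card F - (Nat.card F - 1) = 1 by omega] at this)
      · exact Nat.coprime_of_dvd fun p hp' h1 h2 =>
          (prime_facts hm hF hp' h2).2.1 (hp p hp' h1)
    · rw [← Nat.card_eq_fintype_card (α := F), ← hcard]
      exact Subgroup.card_le_of_le hT
  refine ⟨?_, hstab⟩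
  have h := (stabilizer (Cfsg.Sz F m) a1).card_mul_index
  rw [hstab, index_stabilizer_of_transitive, hcardG, Nat.card_eq_fintype_card (α := Ω),
    Nat.card_eq_fintype_card (α := F)] at h
  rw [Nat.card_eq_fintype_card] at h8
  refine Nat.eq_of_mul_eq_mul_left (show 0 < Fintype.card F - 1 by omega) ?_
  rw [h]; ring

end Cfsg.Agent.Suzuki
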