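import Cfsg.Agent.Suzuki.DegreeList

/-!
Completeness of the list of degrees.
-/

set_option autoImplicit false
set_option maxHeartbeats 8000000

namespace Cfsg.Agent.Suzuki.Degree

open Cfsg.Agent.Char

universe u

variable {G : Type u} [Group G] [Fintype G] {one st : IrrCharacter G} {K₀ Kp Km : Subgroup G}

theorem split_all {r : ℕ} (D : Data one st r K₀ Kp Km) (hr : 2 ≤ r) (f : Fam one st K₀ 2)
    {M : Type*} [AddCommMonoid M] (φ : IrrCharacter G → M) :
    ∑ χ, φ χ = φ one + φ st + ∑ χ ∈ f.E, φ χ + ∑ χ ∈ others one st f.E, φ χ := by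
  classical
  have hsplit : (Finset.univ : Finset (IrrCharacter G)) =
      insert one (insert st (f.E ∪ others one st f.E)) := by
    ext χ
    simp [mem_others]
    tauto
  have hne := D.ne hr
  rw [hsplit, Finset.sum_insert (by simp [mem_others, hne, f.one_not]),
    Finset.sum_insert (by simp [mem_others, f.st_not]),
    Finset.sum_union (Finset.disjoint_left.2 fun χ h h' => ((mem_others one st).1 h').1 h)]
  abel

theorem split_sum {r : ℕ} (D : Data one st r K₀ Kp Km) (hr : 2 ≤ r) (f : Fam one st K₀ 2) :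
    (Nat.card G : ℤ) = 1 + (4 * (r : ℤ) ^ 4) ^ 2 + f.k * (f.x : ℤ) ^ 2 +
      ∑ χ ∈ others one st f.E, (dg χ : ℤ) ^ 2 := by
  rw [← sum_dg_sq (G := G), split_all D hr f (fun χ => (dg χ : ℤ) ^ 2),
    Finset.sum_congr rfl (fun χ hχ => by rw [f.deg χ hχ]) (s₁ := f.E), Finset.sum_const, f.card,
    D.st1, show dg one = 1 from eq_dg (by rw [D.hone]; simp), nsmul_eq_mul]
  push_cast
  ring

/-- The characters with their degrees and their zeros and units on the tori. -/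
structure Table (one st : IrrCharacter G) (r : ℕ) (K₀ Kp Km : Subgroup G) where
  E₀ : Finset (IrrCharacter G)
  Ep : Finset (IrrCharacter G)
  Em : Finset (IrrCharacter G)
  w₁ : IrrCharacter G
  w₂ : IrrCharacter G
  decomp : ∀ φ : IrrCharacter G → ℂ, ∑ χ, φ χ =
    φ one + φ st + ∑ χ ∈ E₀, φ χ + ∑ χ ∈ Ep, φ χ + ∑ χ ∈ Em, φ χ + (φ w₁ + φ w₂)
  cover : ∀ χ, χ = one ∨ χ = st ∨ χ ∈ E₀ ∨ χ ∈ Ep ∨ χ ∈ Em ∨ χ = w₁ ∨ χ = w₂
  card₀ : E₀.card + 1 = r ^ 2
  cardp : 2 * Ep.card = r ^ 2 + r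
  cardm : 2 * Em.card + r = r ^ 2
  deg₀ : ∀ χ ∈ E₀, dg χ = 4 * r ^ 4 + 1
  degp : ∀ χ ∈ Ep, (dg χ : ℤ) = (2 * r ^ 2 - 1) * (2 * r ^ 2 - 2 * r + 1)
  degm : ∀ χ ∈ Em, (dg χ : ℤ) = (2 * r ^ 2 - 1) * (2 * r ^ 2 + 2 * r + 1)
  degw : ∀ χ, χ = w₁ ∨ χ = w₂ → (dg χ : ℤ) = r * (2 * r ^ 2 - 1)
  zero₀ : ∀ a ∈ K₀, a ≠ 1 → ∀ χ, χ ∈ Ep ∨ χ ∈ Em ∨ χ = w₁ ∨ χ = w₂ → (χ : G → ℂ) a = 0
  zerop : ∀ a ∈ Kp, a ≠ 1 → ∀ χ, χ ∈ E₀ ∨ χ ∈ Em → (χ : G → ℂ) a = 0
  zerom : ∀ a ∈ Km, a ≠ 1 → ∀ χ, χ ∈ E₀ ∨ χ ∈ Ep → (χ : G → ℂ) a = 0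
  unitp : ∀ a ∈ Kp, a ≠ 1 → ∀ χ, χ = w₁ ∨ χ = w₂ → (χ : G → ℂ) a = 1 ∨ (χ : G → ℂ) a = -1
  unitm : ∀ a ∈ Km, a ≠ 1 → ∀ χ, χ = w₁ ∨ χ = w₂ → (χ : G → ℂ) a = 1 ∨ (χ : G → ℂ) a = -1
  same : ∀ g : G, (∀ h, h ∈ K₀ ∨ h ∈ Kp ∨ h ∈ Km → h ≠ 1 → ¬ IsConj h g) →
    ∀ χ ψ, (χ ∈ E₀ ∧ ψ ∈ E₀) ∨ (χ ∈ Ep ∧ ψ ∈ Ep) ∨ (χ ∈ Em ∧ ψ ∈ Em) →
      (χ : G → ℂ) g = (ψ : G → ℂ) g

theorem bot_ne {K : Subgroup G} (h : 2 ≤ Nat.card K) : K ≠ ⊥ := fun e => by
  rw [e, Subgroup.card_bot] at h; omega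

/-- A value congruent to the degree on a torus all of whose nonidentity elements are conjugate. -/
theorem rational_on {K : Subgroup G} {e : ℕ} (hK : Torus K e) (he : e + 1 = Nat.card K) (hK2 : 2 ≤ Nat.card K)
    (χ : IrrCharacter G) {a : G} (ha : a ∈ K) (ha1 : a ≠ 1) :
    ∃ n : ℤ, (∀ b ∈ K, b ≠ 1 → (χ : G → ℂ) b = n) ∧ (Nat.card K : ℤ) ∣ (dg χ : ℤ) - n := by
  classical
  have := Fintype.ofFinite K
  set N := Subgroup.normalizer (K : Set G)
  have hmem : ∀ c : N ⧸ K.subgroupOf N, (c.out : G) * a * (c.out : G)⁻¹ ∈ K := fun c =>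
    (Subgroup.mem_normalizer_iff.1 c.out.2 a).1 ha
  let φ : N ⧸ K.subgroupOf N → {b : K // b ≠ 1} := fun c =>
    ⟨⟨_, hmem c⟩, fun h => ha1 (conj_eq_one_iff.1 (congrArg Subtype.val h))⟩
  have hinj : Function.Injective φ := by
    intro c c' h
    have h' : (c.out : G) * a * (c.out : G)⁻¹ = (c'.out : G) * a * (c'.out : G)⁻¹ :=
      congrArg (fun b : {b : K // b ≠ 1} => ((b : K) : G)) h
    rw [← c.out_eq', ← c'.out_eq', QuotientGroup.eq, Subgroup.mem_subgroupOf]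
    show (c.out : G)⁻¹ * (c'.out : G) ∈ K
    refine (SetLike.ext_iff.1 (hK.cent a ha ha1) _).1 (Subgroup.mem_centralizer_singleton_iff.2 ?_)
    calc (c.out : G)⁻¹ * (c'.out : G) * a
        = (c.out : G)⁻¹ * ((c'.out : G) * a * (c'.out : G)⁻¹) * (c'.out : G) := by group
      _ = (c.out : G)⁻¹ * ((c.out : G) * a * (c.out : G)⁻¹) * (c'.out : G) := by rw [h']
      _ = a * ((c.out : G)⁻¹ * (c'.out : G)) := by group
  have hcard : Nat.card (N ⧸ K.subgroupOf N) = e := by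
    have h := Subgroup.card_eq_card_quotient_mul_card_subgroup (K.subgroupOf N)
    rw [Nat.card_congr (Subgroup.subgroupOfEquivOfLe Subgroup.le_normalizer).toEquiv,
      hK.card_normalizer] at h
    exact (Nat.eq_of_mul_eq_mul_right Nat.card_pos h).symm
  have hcard' : Nat.card {b : K // b ≠ 1} = e := by
    rw [Nat.card_eq_fintype_card, Fintype.card_subtype_compl, Fintype.card_subtype_eq,
      ← Nat.card_eq_fintype_card]
    omega
  have hbij := hinj.bijective_of_nat_card_le (by rw [hcard, hcard'])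
  have hconst : ∀ b : K, b ≠ 1 → (χ : G → ℂ) b = 0 + (χ : G → ℂ) a := by
    intro b hb
    obtain ⟨c, hc⟩ := hbij.2 ⟨b, hb⟩
    rw [zero_add, ← congrArg (fun b : {b : K // b ≠ 1} => ((b : K) : G)) hc]
    exact isClassFunction_of_isIrr χ.2 a (c.out : G)
  obtain ⟨n, hn, hdn⟩ := AbelianTI.int_of_const (bot_ne hK2) χ.2 (dg_spec χ).2 ((χ : G → ℂ) a)
    (fun _ => 0) 0 (by simp) (fun _ => isIntegral_zero) hconst
  refine ⟨n, fun b hb hb1 => ?_, by simpa using hdn⟩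
  rw [hconst ⟨b, hb⟩ (fun h => hb1 (congrArg Subtype.val h)), zero_add, hn]

/-- Two families are disjoint when their degrees or sizes differ. -/
theorem fam_disjoint {K K' : Subgroup G} {e e' : ℕ} (hK : Torus K e) (hK' : Torus K' e')
    (hne : Nat.card K ≠ Nat.card K') (f : Fam one st K e) (f' : Fam one st K' e')
    (h : f.k = f'.k → f.x = f'.x → False) : Disjoint f.E f'.E := by
  rw [Finset.disjoint_left]
  intro χ h1 h2
  have := f.eq_of_inter f' (fun a ha ha1 => hK'.no_conj hK (Ne.symm hne) ha ha1)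
    (fun a ha ha1 => hK.no_conj hK' hne ha ha1) h1 h2
  refine h (by rw [← f.card, ← f'.card, this]) ?_
  rw [← f.deg χ h1, ← f'.deg χ h2]

/-- A family is zero on another torus when it is large. -/
theorem zero_on {K K' : Subgroup G} {e e' : ℕ} (hK : Torus K e) (hK' : Torus K' e')
    (hne : Nat.card K ≠ Nat.card K') (hK1 : 2 ≤ Nat.card K) (f : Fam one st K e) (f' : Fam one st K' e')
    (hd : Disjoint f.E f'.E) (hs : ∑ ψ ∈ others one st f.E, f.cst ψ ^ 2 ≤ 2) (hk : 3 ≤ f'.k) :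
    (∀ χ ∈ f'.E, f.cst χ = 0) ∧ (0 < f'.k → (Nat.card K : ℤ) ∣ f'.x) := by
  have key : ∀ χ ∈ f'.E, f.cst χ = 0 ∧ (Nat.card K : ℤ) ∣ f'.x := by
    intro χ hχ
    obtain ⟨h1, h2⟩ := f.const_bound f' (fun a ha ha1 => hK'.no_conj hK (Ne.symm hne) ha ha1)
      (bot_ne hK1) hd hχ
    have hk' : (3 : ℤ) ≤ f'.k := by exact_mod_cast hk
    have : f.cst χ = 0 := by
      by_contra hc
      have : 1 ≤ f.cst χ ^ 2 := by
        have : 0 < f.cst χ ^ 2 := by positivity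
        linarith
      nlinarith
    exact ⟨this, by rwa [this, sub_zero] at h2⟩
  refine ⟨fun χ hχ => (key χ hχ).1, fun hpos => ?_⟩
  obtain ⟨χ, hχ⟩ : f'.E.Nonempty := Finset.card_pos.1 (by rw [f'.card]; exact hpos)
  exact (key χ hχ).2

theorem sum_two_of_large {K : Subgroup G} (f : Fam one st K 4) (hk : 6 ≤ f.k) :
    f.c = 0 ∧ ∑ χ ∈ others one st f.E, f.cst χ ^ 2 = 2 := by
  have hcol := f.col
  push_cast at hcol
  have hsum : 0 ≤ ∑ χ ∈ others one st f.E, f.cst χ ^ 2 := Finset.sum_nonneg fun _ _ => sq_nonneg _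
  have hk' : (6 : ℤ) ≤ f.k := by exact_mod_cast hk
  have hc : f.c = 0 := by
    by_contra hne
    have h1 : 1 ≤ f.c ^ 2 := by
      have : 0 < f.c ^ 2 := by positivity
      linarith
    have h2 : -2 * f.ε * f.c ≥ -2 * f.c ^ 2 := by
      rcases f.sgn with h | h <;> rw [h] <;> nlinarith [Int.le_self_sq f.c, Int.le_self_sq (-f.c)]
    nlinarith
  rw [hc] at hcol
  exact ⟨hc, by linarith⟩

/-- The degree of a character taking a unit value on the large torus. -/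
theorem unit_degree {A Q R d s : ℤ} (hA : A = 2 * R ^ 2 + 2 * R + 1) (hQ : Q = 2 * R ^ 2 - 1)
    (hR : 2 ≤ R) (hQd : Q ∣ d) (hAd : A ∣ d - s) (hs : s = 1 ∨ s = -1) (hd : 0 < d) : Q * R ≤ d := by
  obtain ⟨w, rfl⟩ := hQd
  have hQ0 : 0 < Q := by nlinarith
  have hw : 0 < w := pos_of_mul_pos_right hd hQ0.le
  have h1 : A ∣ w - s * R := by
    have h2 : A ∣ R * (Q * w - s) := hAd.mul_left R
    have h3 : A ∣ w * (R * Q - 1) := Dvd.dvd.mul_left ⟨R - 1, by rw [hA, hQ]; ring⟩ w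
    have h4 := h2.sub h3
    rw [show w - s * R = R * (Q * w - s) - w * (R * Q - 1) by ring]
    exact h4
  have hwR : R ≤ w := by
    by_contra hlt
    push Not at hlt
    have habs : |w - s * R| < A := by
      rw [abs_lt]
      rcases hs with rfl | rfl <;> constructor <;> nlinarith
    have h0 := Int.eq_zero_of_abs_lt_dvd h1 habs
    rcases hs with rfl | rfl <;> linarith
  exact mul_le_mul_of_nonneg_left hwR hQ0.le

theorem tight {k P u : ℤ} (hk : 1 ≤ k) (hP : 1 ≤ P) (hu : 1 ≤ u) :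
    k * P ^ 2 ≤ k * (P * u) ^ 2 ∧ (k * (P * u) ^ 2 ≤ k * P ^ 2 → u = 1) := by
  have hu2 : 1 ≤ u ^ 2 := one_le_pow₀ hu
  have hk0 : 0 ≤ k * P ^ 2 := by positivity
  refine ⟨by rw [mul_pow, ← mul_assoc]; exact le_mul_of_one_le_right hk0 hu2, fun h => ?_⟩
  have h1 : u ^ 2 ≤ 1 := le_of_mul_le_mul_left (a := k * P ^ 2) (by linarith) (by positivity)
  nlinarith

theorem table_large {r : ℕ} (D : Data one st r K₀ Kp Km) (hr : 4 ≤ r) :
    Nonempty (Table one st r K₀ Kp Km) := by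
  classical
  have hr2 : 2 ≤ r := by omega
  obtain ⟨h7, h13, h5, n0p, n0m, npm⟩ := D.sizes hr2
  obtain ⟨f, -, hk0, hrest⟩ := D.split hr2
  obtain ⟨fp⟩ := exists_fam (D.ne hr2) D.hone D.tp (by norm_num) (by omega) (s := -1) (by norm_num) D.stp
  have h4r : 4 * r ≤ r ^ 2 := by rw [pow_two]; exact Nat.mul_le_mul_right r hr
  have := D.cm
  obtain ⟨fm⟩ := exists_fam (D.ne hr2) D.hone D.tm (by norm_num) (by omega) (s := -1) (by norm_num) D.stm
  have hsp := fp.size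
  have hsm := fm.size
  have := D.cp
  have := D.c₀
  have hkp : 6 ≤ fp.k := by omega
  have hkm : 6 ≤ fm.k := by omega
  obtain ⟨-, hSp⟩ := sum_two_of_large fp hkp
  obtain ⟨-, hSm⟩ := sum_two_of_large fm hkm
  have d0p : Disjoint f.E fp.E := fam_disjoint D.t₀ D.tp n0p f fp fun h _ => by
    omega
  have d0m : Disjoint f.E fm.E := fam_disjoint D.t₀ D.tm n0m f fm fun h _ => by omega
  have dpm : Disjoint fp.E fm.E := fam_disjoint D.tp D.tm npm fp fm fun h _ => by omega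
  obtain ⟨z1, hx0p⟩ := zero_on D.tp D.t₀ n0p.symm (by omega) fp f d0p.symm hSp.le (by omega)
  obtain ⟨-, hx0m⟩ := zero_on D.tm D.t₀ n0m.symm (by omega) fm f d0m.symm hSm.le (by omega)
  obtain ⟨-, hxpm⟩ := zero_on D.tm D.tp npm.symm (by omega) fm fp dpm.symm hSm.le (by omega)
  obtain ⟨z2, hxmp⟩ := zero_on D.tp D.tm npm (by omega) fp fm dpm hSp.le (by omega)
  set R : ℤ := (r : ℤ) with hR
  have hR4 : 4 ≤ R := by rw [hR]; exact_mod_cast hr
  set A := 2 * R ^ 2 + 2 * R + 1 with hA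
  set B := 2 * R ^ 2 - 2 * R + 1 with hB
  set Q := 2 * R ^ 2 - 1 with hQ
  have cA : (Nat.card Kp : ℤ) = A := by rw [D.cp, hA, hR]; push_cast; ring
  have cB : (Nat.card Km : ℤ) = B := by
    have h : ((Nat.card Km + 2 * r : ℕ) : ℤ) = ((2 * r ^ 2 + 1 : ℕ) : ℤ) := by rw [D.cm]
    push_cast at h; rw [hB, hR]; linarith
  have cQ : (Nat.card K₀ : ℤ) = Q := by
    have h : ((Nat.card K₀ + 1 : ℕ) : ℤ) = ((2 * r ^ 2 : ℕ) : ℤ) := by rw [D.c₀]
    push_cast at h; rw [hQ, hR]; linarith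
  have copA2 : IsCoprime A 2 := ⟨1, -(R ^ 2 + R), by rw [hA]; ring⟩
  have copAR : IsCoprime A R := ⟨1, -(2 * (R + 1)), by rw [hA]; ring⟩
  have copAB : IsCoprime A B := by
    have h : IsCoprime A (-(2 * 2 * R)) := ((copA2.mul_right copA2).mul_right copAR).neg_right
    have e : B = -(2 * 2 * R) + A * 1 := by rw [hA, hB]; ring
    rw [e]
    exact h.add_mul_left_right 1
  have copQ2 : IsCoprime Q 2 := ⟨-1, R ^ 2, by rw [hQ]; ring⟩
  have copQA : IsCoprime Q A := by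
    have h1 : IsCoprime Q (R + 1) := ⟨1, -(2 * (R - 1)) * 1, by rw [hQ]; ring⟩
    have e : A = 2 * (R + 1) + Q * 1 := by rw [hA, hQ]; ring
    rw [e]
    exact (copQ2.mul_right h1).add_mul_left_right 1
  have copQB : IsCoprime Q B := by
    have h1 : IsCoprime Q (1 - R) := ⟨1, 2 * (R + 1), by rw [hQ]; ring⟩
    have e : B = 2 * (1 - R) + Q * 1 := by rw [hB, hQ]; ring
    rw [e]
    exact (copQ2.mul_right h1).add_mul_left_right 1
  have hQdvd : ∀ χ ∈ others one st f.E, Q ∣ (dg χ : ℤ) := fun χ hχ => cQ ▸ (hrest χ hχ).2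
  have pdeg : ∀ {K : Subgroup G} {e : ℕ} (g : Fam one st K e), 0 < g.k → 0 < g.x := fun g hg => by
    obtain ⟨χ, hχ⟩ : g.E.Nonempty := Finset.card_pos.1 (by rw [g.card]; exact hg)
    rw [← g.deg χ hχ]; exact (dg_spec χ).1
  -- the three families
  obtain ⟨u0, hu0⟩ : A * B ∣ (f.x : ℤ) :=
    copAB.mul_dvd (cA ▸ hx0p (by omega)) (cB ▸ hx0m (by omega))
  obtain ⟨χp, hχp⟩ : fp.E.Nonempty := Finset.card_pos.1 (by rw [fp.card]; omega)
  obtain ⟨χm, hχm⟩ : fm.E.Nonempty := Finset.card_pos.1 (by rw [fm.card]; omega)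
  obtain ⟨up, hup⟩ : Q * B ∣ (fp.x : ℤ) := copQB.mul_dvd
    (fp.deg χp hχp ▸ hQdvd χp (f.sub_others fp d0p hχp)) (cB ▸ hxpm (by omega))
  obtain ⟨um, hum⟩ : Q * A ∣ (fm.x : ℤ) := copQA.mul_dvd
    (fm.deg χm hχm ▸ hQdvd χm (f.sub_others fm d0m hχm)) (cA ▸ hxmp (by omega))
  have hR16 : 4 * R ≤ R ^ 2 := by rw [pow_two]; exact mul_le_mul_of_nonneg_right hR4 (by linarith)
  have hApos : 1 ≤ A := by rw [hA]; linarith
  have hBpos : 1 ≤ B := by rw [hB]; linarith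
  have hQpos : 1 ≤ Q := by rw [hQ]; linarith
  have hu0' : 1 ≤ u0 := by
    have h : (0 : ℤ) < f.x := by exact_mod_cast pdeg f (by omega)
    rw [hu0] at h
    linarith [pos_of_mul_pos_right h (by positivity)]
  have hup' : 1 ≤ up := by
    have h : (0 : ℤ) < fp.x := by exact_mod_cast pdeg fp (by omega)
    rw [hup] at h
    linarith [pos_of_mul_pos_right h (by positivity)]
  have hum' : 1 ≤ um := by
    have h : (0 : ℤ) < fm.x := by exact_mod_cast pdeg fm (by omega)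
    rw [hum] at h
    linarith [pos_of_mul_pos_right h (by positivity)]
  -- the two remaining characters
  obtain ⟨i, hi, j, hj, hij, hsi, hsj, -⟩ := two_nonzero _ _ hSp
  have hmem : ∀ l ∈ others one st fp.E, (fp.cst l = 1 ∨ fp.cst l = -1) →
      l ∈ others one st f.E ∧ l ∉ fp.E ∧ l ∉ fm.E ∧ Q * R ≤ (dg l : ℤ) := by
    intro l hl hs
    obtain ⟨h1, h2, h3⟩ := (mem_others one st).1 hl
    have hne : fp.cst l ≠ 0 := by rcases hs with h | h <;> rw [h] <;> norm_num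
    have hl0 : l ∈ others one st f.E := (mem_others one st).2 ⟨fun h => hne (z1 l h), h2, h3⟩
    refine ⟨hl0, h1, fun h => hne (z2 l h), ?_⟩
    exact unit_degree hA hQ (by linarith) (hQdvd l hl0) (cA ▸ fp.vcong l h1) hs
      (by exact_mod_cast (dg_spec l).1)
  obtain ⟨hi0, hip, him, hid⟩ := hmem i hi hsi
  obtain ⟨hj0, hjp, hjm, hjd⟩ := hmem j hj hsj
  set W := others one st f.E \ (fp.E ∪ fm.E ∪ {i, j}) with hW
  have hsplit : others one st f.E = fp.E ∪ fm.E ∪ {i, j} ∪ W := by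
    rw [hW, Finset.union_sdiff_of_subset]
    intro χ hχ
    simp only [Finset.mem_union, Finset.mem_insert, Finset.mem_singleton] at hχ
    rcases hχ with (h | h) | rfl | rfl
    · exact f.sub_others fp d0p h
    · exact f.sub_others fm d0m h
    · exact hi0
    · exact hj0
  have htot := split_sum D hr2 f
  rw [hsplit, Finset.sum_union (Finset.disjoint_sdiff),
    Finset.sum_union (by
      rw [Finset.disjoint_left]
      intro χ h1 h2
      simp only [Finset.mem_union, Finset.mem_insert, Finset.mem_singleton] at h1 h2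
      rcases h2 with rfl | rfl <;> rcases h1 with h1 | h1 <;> contradiction),
    Finset.sum_union dpm, Finset.sum_pair hij,
    Finset.sum_congr rfl (fun χ hχ => by rw [fp.deg χ hχ]) (s₁ := fp.E),
    Finset.sum_congr rfl (fun χ hχ => by rw [fm.deg χ hχ]) (s₁ := fm.E),
    Finset.sum_const, Finset.sum_const, fp.card, fm.card, nsmul_eq_mul, nsmul_eq_mul, D.order,
    ← hR, hu0, hup, hum] at htot
  have hk0Z : (f.k : ℤ) = R ^ 2 - 1 := by
    have h : ((2 * f.k + 2 : ℕ) : ℤ) = ((2 * r ^ 2 : ℕ) : ℤ) := by rw [hk0]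
    push_cast at h; rw [← hR] at h; linarith
  have hkpZ : 2 * (fp.k : ℤ) = R ^ 2 + R := by
    have h : ((fp.k * 4 + 1 : ℕ) : ℤ) = A := by rw [hsp]; exact cA
    push_cast at h; rw [hA] at h; linarith
  have hkmZ : 2 * (fm.k : ℤ) = R ^ 2 - R := by
    have h : ((fm.k * 4 + 1 : ℕ) : ℤ) = B := by rw [hsm]; exact cB
    push_cast at h; rw [hB] at h; linarith
  have hident : 2 * (4 * R ^ 4 * (2 * R ^ 2 - 1) * (4 * R ^ 4 + 1)) =
      2 + 2 * (4 * R ^ 4) ^ 2 + 2 * ((f.k : ℤ) * (A * B) ^ 2) + 2 * ((fp.k : ℤ) * (Q * B) ^ 2) +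
        2 * ((fm.k : ℤ) * (Q * A) ^ 2) + 4 * (Q * R) ^ 2 := by
    rw [hk0Z, ← mul_assoc 2 (fp.k : ℤ), hkpZ, ← mul_assoc 2 (fm.k : ℤ), hkmZ, hA, hB, hQ]; ring
  obtain ⟨t0, e0⟩ := tight (k := (f.k : ℤ)) (P := A * B) (by rw [hk0Z]; linarith)
    (one_le_mul_of_one_le_of_one_le hApos hBpos) hu0'
  obtain ⟨tp, ep⟩ := tight (k := (fp.k : ℤ)) (P := Q * B) (by exact_mod_cast (show 1 ≤ fp.k by omega))
    (one_le_mul_of_one_le_of_one_le hQpos hBpos) hup'
  obtain ⟨tm, em⟩ := tight (k := (fm.k : ℤ)) (P := Q * A) (by exact_mod_cast (show 1 ≤ fm.k by omega))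
    (one_le_mul_of_one_le_of_one_le hQpos hApos) hum'
  have si : (Q * R) ^ 2 ≤ (dg i : ℤ) ^ 2 := pow_le_pow_left₀ (by positivity) hid 2
  have sj : (Q * R) ^ 2 ≤ (dg j : ℤ) ^ 2 := pow_le_pow_left₀ (by positivity) hjd 2
  have sW : 0 ≤ ∑ χ ∈ W, (dg χ : ℤ) ^ 2 := Finset.sum_nonneg fun _ _ => sq_nonneg _
  have u0e := e0 (by linarith)
  have upe := ep (by linarith)
  have ume := em (by linarith)
  have hi' : (dg i : ℤ) = Q * R :=
    le_antisymm ((pow_le_pow_iff_left₀ (Int.natCast_nonneg _) (by positivity) two_ne_zero).1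
      (by linarith)) hid
  have hj' : (dg j : ℤ) = Q * R :=
    le_antisymm ((pow_le_pow_iff_left₀ (Int.natCast_nonneg _) (by positivity) two_ne_zero).1
      (by linarith)) hjd
  have hW0 : W = ∅ := by
    by_contra hne
    obtain ⟨χ, hχ⟩ := Finset.nonempty_iff_ne_empty.2 hne
    have h1 : (dg χ : ℤ) ^ 2 ≤ ∑ χ ∈ W, (dg χ : ℤ) ^ 2 :=
      Finset.single_le_sum (f := fun χ => (dg χ : ℤ) ^ 2) (fun _ _ => sq_nonneg _) hχ
    have h2 : (1 : ℤ) ≤ dg χ := by exact_mod_cast (dg_spec χ).1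
    linarith [one_le_pow₀ (n := 2) h2]
  subst u0e upe ume
  rw [mul_one] at hu0 hup hum
  have hx0 : f.x = 4 * r ^ 4 + 1 := by
    have h : (f.x : ℤ) = ((4 * r ^ 4 + 1 : ℕ) : ℤ) := by
      rw [hu0, hA, hB, hR]; push_cast; ring
    exact_mod_cast h
  obtain ⟨χ0, hχ0⟩ : f.E.Nonempty := Finset.card_pos.1 (by rw [f.card]; omega)
  rw [hW0, Finset.union_empty] at hsplit
  have zp0 := hrest
  obtain ⟨z3, -⟩ := zero_on D.tm D.t₀ n0m.symm (by omega) fm f d0m.symm hSm.le (by omega)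
  obtain ⟨z4, -⟩ := zero_on D.tm D.tp npm.symm (by omega) fm fp dpm.symm hSm.le (by omega)
  obtain ⟨i', hi₁, j', hj₁, hij', hsi', hsj', -⟩ := two_nonzero _ _ hSm
  have hloc : ∀ l ∈ others one st fm.E, (fm.cst l = 1 ∨ fm.cst l = -1) → l = i ∨ l = j := by
    intro l hl hs
    obtain ⟨h1, h2, h3⟩ := (mem_others one st).1 hl
    have hne : fm.cst l ≠ 0 := by rcases hs with h | h <;> rw [h] <;> norm_num
    have hm' : l ∈ others one st f.E := (mem_others one st).2 ⟨fun h => hne (z3 l h), h2, h3⟩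
    rw [hsplit] at hm'
    simp only [Finset.mem_union, Finset.mem_insert, Finset.mem_singleton] at hm'
    rcases hm' with (h | h) | h
    · exact absurd (z4 l h) hne
    · exact absurd h h1
    · exact h
  have hum' : ∀ l, l = i ∨ l = j → fm.cst l = 1 ∨ fm.cst l = -1 := by
    rcases hloc i' hi₁ hsi' with h | h <;> rcases hloc j' hj₁ hsj' with h' | h'
    · exact absurd (h.trans h'.symm) hij'
    · rintro l (rfl | rfl)
      exacts [h ▸ hsi', h' ▸ hsj']
    · rintro l (rfl | rfl)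
      exacts [h' ▸ hsj', h ▸ hsi']
    · exact absurd (h.trans h'.symm) hij'
  refine ⟨{
    E₀ := f.E, Ep := fp.E, Em := fm.E, w₁ := i, w₂ := j, decomp := fun φ => ?_, cover := fun χ => ?_,
    card₀ := by rw [f.card]; omega, cardp := ?_, cardm := ?_,
    deg₀ := fun χ hχ => by rw [f.deg χ hχ, hx0],
    degp := fun χ hχ => by rw [fp.deg χ hχ, hup, hQ, hB],
    degm := fun χ hχ => by rw [fm.deg χ hχ, hum, hQ, hA],
    degw := ?_, zero₀ := ?_, zerop := ?_, zerom := ?_, unitp := ?_, unitm := ?_, same := ?_ }⟩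
  · rw [split_all D hr2 f φ, hsplit, Finset.sum_union (by
      rw [Finset.disjoint_left]
      intro χ h1 h2
      simp only [Finset.mem_union, Finset.mem_insert, Finset.mem_singleton] at h1 h2
      rcases h2 with rfl | rfl <;> rcases h1 with h1 | h1 <;> contradiction), Finset.sum_union dpm, Finset.sum_pair hij]
    ring
  · by_cases h1 : χ = one
    · exact Or.inl h1
    by_cases h2 : χ = st
    · exact Or.inr (Or.inl h2)
    by_cases h3 : χ ∈ f.E
    · exact Or.inr (Or.inr (Or.inl h3))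
    have hmem' : χ ∈ others one st f.E := (mem_others one st).2 ⟨h3, h1, h2⟩
    rw [hsplit] at hmem'
    simp only [Finset.mem_union, Finset.mem_insert, Finset.mem_singleton] at hmem'
    rcases hmem' with (h | h) | h
    · exact Or.inr (Or.inr (Or.inr (Or.inl h)))
    · exact Or.inr (Or.inr (Or.inr (Or.inr (Or.inl h))))
    · exact Or.inr (Or.inr (Or.inr (Or.inr (Or.inr h))))
  · rw [fp.card]
    have h : ((2 * fp.k : ℕ) : ℤ) = ((r ^ 2 + r : ℕ) : ℤ) := by push_cast; rw [← hR]; linarith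
    exact_mod_cast h
  · rw [fm.card]
    have h : ((2 * fm.k + r : ℕ) : ℤ) = ((r ^ 2 : ℕ) : ℤ) := by push_cast; rw [← hR]; linarith
    exact_mod_cast h
  · rintro χ (rfl | rfl)
    · rw [hi', hQ]; ring
    · rw [hj', hQ]; ring
  · intro a ha ha1 χ hχ
    have hm' : χ ∈ others one st f.E := by
      rw [hsplit]
      simp only [Finset.mem_union, Finset.mem_insert, Finset.mem_singleton]
      rcases hχ with h | h | h
      exacts [Or.inl (Or.inl h), Or.inl (Or.inr h), Or.inr h]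
    rw [f.val χ ((mem_others one st).1 hm').1 a ha ha1, (hrest χ hm').1, Int.cast_zero]
  · rintro a ha ha1 χ (h | h)
    · rw [fp.val χ (Finset.disjoint_left.1 d0p h) a ha ha1, z1 χ h, Int.cast_zero]
    · rw [fp.val χ (Finset.disjoint_right.1 dpm h) a ha ha1, z2 χ h, Int.cast_zero]
  · rintro a ha ha1 χ (h | h)
    · rw [fm.val χ (Finset.disjoint_left.1 d0m h) a ha ha1, z3 χ h, Int.cast_zero]
    · rw [fm.val χ (Finset.disjoint_left.1 dpm h) a ha ha1, z4 χ h, Int.cast_zero]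
  · rintro a ha ha1 χ (rfl | rfl)
    · rw [fp.val χ hip a ha ha1]; rcases hsi with h | h <;> rw [h] <;> simp
    · rw [fp.val χ hjp a ha ha1]; rcases hsj with h | h <;> rw [h] <;> simp
  · intro a ha ha1 χ hχ
    have hn : χ ∉ fm.E := by rcases hχ with rfl | rfl <;> assumption
    rw [fm.val χ hn a ha ha1]
    rcases hum' χ hχ with h | h <;> rw [h] <;> simp
  · rintro g hg χ ψ (⟨h1, h2⟩ | ⟨h1, h2⟩ | ⟨h1, h2⟩)
    · exact f.same χ h1 ψ h2 g fun h hh => hg h (Or.inl hh)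
    · exact fp.same χ h1 ψ h2 g fun h hh => hg h (Or.inr (Or.inl hh))
    · exact fm.same χ h1 ψ h2 g fun h hh => hg h (Or.inr (Or.inr hh))

theorem table_eight (D : Data one st 2 K₀ Kp Km) : Nonempty (Table one st 2 K₀ Kp Km) := by
  classical
  obtain ⟨h7, h13, -, n0p, -, -⟩ := D.sizes le_rfl
  have hc0 : Nat.card K₀ = 7 := by have := D.c₀; omega
  have hcp : Nat.card Kp = 13 := by have := D.cp; omega
  obtain ⟨f, hfc, hk0, hrest⟩ := D.split le_rfl
  obtain ⟨fp⟩ := exists_fam (D.ne le_rfl) D.hone D.tp (by norm_num) (by omega) (s := -1) (by norm_num) D.stp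
  have hkp : fp.k = 3 := by have := fp.size; omega
  have hk0' : f.k = 3 := by omega
  have hG : (Nat.card G : ℤ) = 29120 := by rw [D.order]; norm_num
  have hGn : Nat.card G = 29120 := by exact_mod_cast hG
  have htot := split_sum D le_rfl f
  rw [hG, hk0'] at htot
  push_cast at htot
  have h49 : (49 : ℤ) ∣ ∑ χ ∈ others one st f.E, (dg χ : ℤ) ^ 2 := by
    refine Finset.dvd_sum fun χ hχ => ?_
    have := (hrest χ hχ).2
    rw [hc0] at this
    exact pow_dvd_pow_of_dvd this 2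
  have hnn : 0 ≤ ∑ χ ∈ others one st f.E, (dg χ : ℤ) ^ 2 := Finset.sum_nonneg fun _ _ => sq_nonneg _
  obtain ⟨χ0, hχ0⟩ : f.E.Nonempty := Finset.card_pos.1 (by rw [f.card]; omega)
  have hxd : f.x ∣ 29120 := hGn ▸ f.deg χ0 hχ0 ▸ dg_dvd χ0
  have hxpos : 0 < f.x := f.deg χ0 hχ0 ▸ (dg_spec χ0).1
  have hx91 : f.x ≤ 91 := by
    by_contra h
    have : (92 : ℤ) ≤ f.x := by exact_mod_cast (show 92 ≤ f.x by omega)
    nlinarith
  have hcong := f.cong
  rw [hc0, hfc, sub_zero] at hcong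
  have hx : f.x = 16 ∨ f.x = 65 := by
    have h2 : (49 : ℤ) ∣ 25023 - 3 * (f.x : ℤ) ^ 2 := by
      have : (25023 : ℤ) - 3 * (f.x : ℤ) ^ 2 = ∑ χ ∈ others one st f.E, (dg χ : ℤ) ^ 2 := by linarith
      rwa [this]
    have h3 : (7 : ℤ) ∣ (f.x : ℤ) - 2 ∨ (7 : ℤ) ∣ (f.x : ℤ) + 2 := by
      rcases f.sgn with h | h <;> rw [h] at hcong
      · exact Or.inl (by simpa using hcong)
      · exact Or.inr (by simpa using hcong)
    generalize f.x = x at hxd hxpos hx91 h2 h3 ⊢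
    interval_cases x <;> first
      | (exfalso; norm_num at hxd; done)
      | (exfalso; norm_num at h2; done)
      | (exfalso; norm_num at h3; done)
      | norm_num
  -- the large torus
  have hcol := fp.col
  rw [hkp] at hcol
  push_cast at hcol
  have hSnn : 0 ≤ ∑ χ ∈ others one st fp.E, fp.cst χ ^ 2 := Finset.sum_nonneg fun _ _ => sq_nonneg _
  have hS2 : ∑ χ ∈ others one st fp.E, fp.cst χ ^ 2 ≤ 2 ∧ (fp.c = 0 ∨ fp.c = fp.ε) := by
    have hb : fp.c = 0 ∨ fp.c = 1 ∨ fp.c = -1 := by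
      have h1 : -2 < fp.c := by rcases fp.sgn with h | h <;> rw [h] at hcol <;> nlinarith
      have h2 : fp.c < 2 := by rcases fp.sgn with h | h <;> rw [h] at hcol <;> nlinarith
      omega
    rcases fp.sgn with h | h <;> rcases hb with g | g | g <;> rw [h, g] at hcol <;> rw [h, g] <;>
      first
        | exact ⟨by linarith, Or.inl rfl⟩
        | exact ⟨by linarith, Or.inr rfl⟩
        | linarith
  have hcongp := fp.cong
  rw [hcp] at hcongp
  have d0p : Disjoint f.E fp.E := fam_disjoint D.t₀ D.tp n0p f fp fun _ h => by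
    rw [← h] at hcongp
    rcases fp.sgn with g | g <;> rcases hS2.2 with g' | g' <;> rw [g'] at hcongp <;> rw [g] at hcongp <;>
      rcases hx with g'' | g'' <;> rw [g''] at hcongp <;> norm_num at hcongp
  obtain ⟨z1, hz⟩ := zero_on D.tp D.t₀ n0p.symm (by omega) fp f d0p.symm hS2.1 (by omega)
  have hx65 : f.x = 65 := by
    rcases hx with h | h
    · have := hz (by omega)
      rw [h, hcp] at this
      norm_num at this
    · exact h
  rw [hx65] at htot
  have h252 : ∑ χ ∈ others one st f.E, (dg χ : ℤ) ^ 2 = 12348 := by push_cast at htot; linarith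
  -- degrees of the others are multiples of seven
  have hw : ∀ χ ∈ others one st f.E, ∃ w : ℕ, dg χ = 7 * w ∧ w ∣ 4160 ∧ 0 < w := by
    intro χ hχ
    have h7' : 7 ∣ dg χ := by
      have := (hrest χ hχ).2
      rw [hc0] at this
      exact_mod_cast this
    obtain ⟨w, hw⟩ := h7'
    have := dg_dvd χ
    rw [hGn, hw, show 29120 = 7 * 4160 by norm_num] at this
    exact ⟨w, hw, Nat.dvd_of_mul_dvd_mul_left (by norm_num) this, by have := (dg_spec χ).1; omega⟩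
  have hsub : fp.E ⊆ others one st f.E := f.sub_others fp d0p
  obtain ⟨χp, hχp⟩ : fp.E.Nonempty := Finset.card_pos.1 (by rw [fp.card]; omega)
  obtain ⟨u, hu, hud, hupos⟩ := hw χp (hsub hχp)
  rw [fp.deg χp hχp] at hu
  set W := others one st f.E \ fp.E with hWdef
  have hW : ∑ χ ∈ W, (dg χ : ℤ) ^ 2 = 12348 - 3 * (7 * (u : ℤ)) ^ 2 := by
    rw [← Finset.sum_sdiff hsub, Finset.sum_congr rfl (fun χ hχ => by rw [fp.deg χ hχ]) (s₁ := fp.E),
      Finset.sum_const, fp.card, hkp, nsmul_eq_mul, hu] at h252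
    push_cast at h252
    linarith
  have hWnn : 0 ≤ ∑ χ ∈ W, (dg χ : ℤ) ^ 2 := Finset.sum_nonneg fun _ _ => sq_nonneg _
  have hu9 : u ≤ 9 := by
    by_contra h
    have : (10 : ℤ) ≤ u := by exact_mod_cast (show 10 ≤ u by omega)
    nlinarith
  have hu58 : (u = 5 ∨ u = 8) ∧ fp.c = 0 := by
    rw [hu] at hcongp
    push_cast at hcongp
    rcases fp.sgn with g | g <;> rcases hS2.2 with g' | g' <;> rw [g'] at hcongp <;> rw [g] at hcongp <;>
      (interval_cases u <;> first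
        | (exfalso; norm_num at hud; done)
        | (exfalso; norm_num at hcongp; done)
        | simp [g'])
  have hS : ∑ χ ∈ others one st fp.E, fp.cst χ ^ 2 = 2 := by
    rw [hu58.2] at hcol; linarith
  obtain ⟨i, hi, j, hj, hij, hsi, hsj, hzero⟩ := two_nonzero _ _ hS
  have hmem : ∀ l ∈ others one st fp.E, (fp.cst l = 1 ∨ fp.cst l = -1) →
      l ∈ W ∧ ∃ w : ℕ, dg l = 7 * w ∧ 0 < w ∧ ((49 : ℤ) * w ^ 2 ≤ 12348 - 3 * (7 * (u : ℤ)) ^ 2 → w = 2) := by
    intro l hl hs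
    obtain ⟨h1, h2, h3⟩ := (mem_others one st).1 hl
    have hne : fp.cst l ≠ 0 := by rcases hs with h | h <;> rw [h] <;> norm_num
    have hl0 : l ∈ others one st f.E := (mem_others one st).2 ⟨fun h => hne (z1 l h), h2, h3⟩
    obtain ⟨w, hwl, hwd, hwpos⟩ := hw l hl0
    refine ⟨Finset.mem_sdiff.2 ⟨hl0, h1⟩, w, hwl, hwpos, fun hle => ?_⟩
    have hv := fp.vcong l h1
    rw [hcp, hwl] at hv
    push_cast at hv
    have hw13 : w ≤ 13 := by
      by_contra h
      have : (14 : ℤ) ≤ w := by exact_mod_cast (show 14 ≤ w by omega)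
      have h5 : (5 : ℤ) ≤ u := by
        rcases hu58.1 with h | h <;> rw [h] <;> norm_num
      nlinarith
    rcases hs with g | g <;> rw [g] at hv <;>
      (interval_cases w <;> first
        | (exfalso; norm_num at hwd; done)
        | (exfalso; norm_num at hv; done)
        | norm_num)
  obtain ⟨hiW, wi, hwi, hwipos, hwi2⟩ := hmem i hi hsi
  obtain ⟨hjW, wj, hwj, hwjpos, hwj2⟩ := hmem j hj hsj
  have hle : ∀ l ∈ W, (dg l : ℤ) ^ 2 ≤ ∑ χ ∈ W, (dg χ : ℤ) ^ 2 := fun l hl =>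
    Finset.single_le_sum (f := fun χ => (dg χ : ℤ) ^ 2) (fun _ _ => sq_nonneg _) hl
  have hwi' : wi = 2 := hwi2 (by
    have := hle i hiW; rw [hwi, hW] at this; push_cast at this; linarith)
  have hwj' : wj = 2 := hwj2 (by
    have := hle j hjW; rw [hwj, hW] at this; push_cast at this; linarith)
  subst hwi' hwj'
  set W' := W \ {i, j} with hW'def
  have hijW : ({i, j} : Finset (IrrCharacter G)) ⊆ W := by
    simp [Finset.insert_subset_iff, hiW, hjW]
  have hW' : ∑ χ ∈ W', (dg χ : ℤ) ^ 2 = 12348 - 3 * (7 * (u : ℤ)) ^ 2 - 392 := by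
    rw [← Finset.sum_sdiff hijW, Finset.sum_pair hij, hwi, hwj] at hW
    push_cast at hW
    rw [hW'def]; linarith
  have hbig : ∀ χ ∈ W', ∃ v : ℕ, dg χ = 91 * v ∧ 0 < v := by
    intro χ hχ
    simp only [hW'def, hWdef, Finset.mem_sdiff, Finset.mem_insert, Finset.mem_singleton, not_or] at hχ
    obtain ⟨⟨h0, hp⟩, hni, hnj⟩ := hχ
    obtain ⟨w, hwl, -, hwpos⟩ := hw χ h0
    have hz0 := hzero χ ((mem_others one st).2 ⟨hp, ((mem_others one st).1 h0).2⟩) hni hnj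
    have hv := fp.vcong χ hp
    rw [hcp, hz0, sub_zero, hwl] at hv
    have hv' : 13 ∣ 7 * w := by exact_mod_cast hv
    obtain ⟨v, rfl⟩ := (Nat.Coprime.dvd_of_dvd_mul_left (by norm_num) hv' : 13 ∣ w)
    exact ⟨v, by rw [hwl]; ring, by omega⟩
  have hge : ∀ χ ∈ W', (8281 : ℤ) ≤ (dg χ : ℤ) ^ 2 := fun χ hχ => by
    obtain ⟨v, hv, hvpos⟩ := hbig χ hχ
    rw [hv]; push_cast
    have : (1 : ℤ) ≤ v := by exact_mod_cast hvpos
    nlinarith
  have hu5 : u = 5 := by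
    rcases hu58.1 with h | h
    · exact h
    exfalso
    subst h
    rcases W'.eq_empty_or_nonempty with he | ⟨χ, hχ⟩
    · rw [he] at hW'; norm_num at hW'
    · have h1 := hge χ hχ
      have h2 : (dg χ : ℤ) ^ 2 ≤ ∑ χ ∈ W', (dg χ : ℤ) ^ 2 :=
        Finset.single_le_sum (f := fun χ => (dg χ : ℤ) ^ 2) (fun _ _ => sq_nonneg _) hχ
      rw [hW'] at h2
      norm_num at h2
      linarith
  subst hu5
  norm_num at hW'
  obtain ⟨χ₁, hχ₁⟩ : W'.Nonempty := by
    rw [Finset.nonempty_iff_ne_empty]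
    intro he
    rw [he] at hW'
    norm_num at hW'
  have hdeg91 : ∀ χ ∈ W', dg χ = 91 := by
    intro χ hχ
    obtain ⟨v, hv, hvpos⟩ := hbig χ hχ
    have h2 : (dg χ : ℤ) ^ 2 ≤ ∑ χ ∈ W', (dg χ : ℤ) ^ 2 :=
      Finset.single_le_sum (f := fun χ => (dg χ : ℤ) ^ 2) (fun _ _ => sq_nonneg _) hχ
    rw [hW', hv] at h2
    push_cast at h2
    have hv1 : (1 : ℤ) ≤ v := by exact_mod_cast hvpos
    have hv2 : (v : ℤ) < 2 := by nlinarith
    have : v = 1 := by omega
    rw [hv, this]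
  have hW1 : W' = {χ₁} := by
    rw [Finset.sum_congr rfl (fun χ hχ => by rw [hdeg91 χ hχ]) (s₁ := W'), Finset.sum_const,
      nsmul_eq_mul] at hW'
    have hc : W'.card = 1 := by
      have h : (W'.card : ℤ) = 1 := by push_cast at hW'; linarith
      exact_mod_cast h
    obtain ⟨χ, hχ⟩ := Finset.card_eq_one.1 hc
    rw [hχ, Finset.mem_singleton] at hχ₁
    rw [hχ, hχ₁]
  have hsp : others one st f.E = fp.E ∪ {i, j} ∪ {χ₁} := by
    rw [← hW1, hW'def, Finset.union_assoc, Finset.union_sdiff_of_subset hijW, hWdef,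
      Finset.union_sdiff_of_subset hsub]
  have hip : i ∉ fp.E := (Finset.mem_sdiff.1 hiW).2
  have hjp : j ∉ fp.E := (Finset.mem_sdiff.1 hjW).2
  have hχ₁' : χ₁ ∈ others one st f.E ∧ χ₁ ∉ fp.E ∧ χ₁ ≠ i ∧ χ₁ ≠ j := by
    simp only [hW'def, hWdef, Finset.mem_sdiff, Finset.mem_insert, Finset.mem_singleton, not_or] at hχ₁
    exact ⟨hχ₁.1.1, hχ₁.1.2, hχ₁.2.1, hχ₁.2.2⟩
  have hdec : ∀ φ : IrrCharacter G → ℂ, ∑ χ, φ χ =
      φ one + φ st + ∑ χ ∈ f.E, φ χ + ∑ χ ∈ fp.E, φ χ + φ χ₁ + (φ i + φ j) := by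
    intro φ
    rw [split_all D le_rfl f φ, hsp, Finset.sum_union (by
        rw [Finset.disjoint_singleton_right]
        simp [hχ₁'.2.1, hχ₁'.2.2.1, hχ₁'.2.2.2]),
      Finset.sum_union (by
        rw [Finset.disjoint_left]
        intro χ h1 h2
        simp only [Finset.mem_insert, Finset.mem_singleton] at h2
        rcases h2 with rfl | rfl <;> contradiction),
      Finset.sum_pair hij, Finset.sum_singleton]
    ring
  -- the small torus, whose nonidentity elements are conjugate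
  have hcm : Nat.card Km = 5 := by have := D.cm; omega
  obtain ⟨⟨a, ha⟩, ha'⟩ := Subgroup.ne_bot_iff_exists_ne_one.1 (bot_ne (K := Km) (by omega))
  have ha1 : a ≠ 1 := fun h => ha' (Subtype.ext h)
  choose n hn hnd using fun χ => rational_on D.tm (by omega) (by omega) χ ha ha1
  simp only [hcm] at hnd
  have h5 : ∀ χ, ∀ d : ℕ, dg χ = d → (5 : ℤ) ∣ (d : ℤ) - n χ := fun χ d h => h ▸ hnd χ
  have hsq : (5 : ℤ) = 1 + 1 + ∑ χ ∈ f.E, n χ ^ 2 + ∑ χ ∈ fp.E, n χ ^ 2 + n χ₁ ^ 2 +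
      (n i ^ 2 + n j ^ 2) := by
    have h := second_orthogonality a a
    have h1 : Subgroup.centralizer ({a} : Set G) = Km := D.tm.cent a ha ha1
    rw [if_pos (IsConj.refl a), h1, hcm, Finset.sum_congr rfl (fun (χ : IrrCharacter G) _ =>
      show (χ : G → ℂ) a * starRingEnd ℂ ((χ : G → ℂ) a) = ((n χ : ℂ) ^ 2) by
        rw [hn χ a ha ha1, map_intCast, pow_two])] at h
    rw [hdec] at h
    have e1 : n one = 1 := by
      have := (hn one a ha ha1).symm.trans (D.hone a)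
      exact_mod_cast this
    have e2 : n st = -1 := by
      have := (hn st a ha ha1).symm.trans (D.stm a ha ha1)
      exact_mod_cast this
    rw [e1, e2] at h
    push_cast at h
    have h' : ((5 : ℤ) : ℂ) = ((1 + 1 + ∑ χ ∈ f.E, n χ ^ 2 + ∑ χ ∈ fp.E, n χ ^ 2 + n χ₁ ^ 2 +
        (n i ^ 2 + n j ^ 2) : ℤ) : ℂ) := by
      push_cast
      linear_combination -h
    exact_mod_cast h'
  have hpos : ∀ χ, ¬ ((5 : ℤ) ∣ n χ) → 1 ≤ n χ ^ 2 := fun χ h => by
    have : 0 < n χ ^ 2 := by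
      have : n χ ≠ 0 := fun e => h (by rw [e]; exact dvd_zero _)
      positivity
    linarith
  have d1 := hpos χ₁ (by have := h5 χ₁ _ (hdeg91 χ₁ (hW1 ▸ Finset.mem_singleton_self _)); omega)
  have di := hpos i (by have := h5 i _ hwi; omega)
  have dj := hpos j (by have := h5 j _ hwj; omega)
  have s1 : 0 ≤ ∑ χ ∈ f.E, n χ ^ 2 := Finset.sum_nonneg fun _ _ => sq_nonneg _
  have s2 : 0 ≤ ∑ χ ∈ fp.E, n χ ^ 2 := Finset.sum_nonneg fun _ _ => sq_nonneg _
  have z₀ : ∀ χ ∈ f.E, n χ = 0 := fun χ hχ => pow_eq_zero_iff (n := 2) two_ne_zero |>.1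
    ((Finset.sum_eq_zero_iff_of_nonneg fun _ _ => sq_nonneg _).1 (by linarith) χ hχ)
  have zp : ∀ χ ∈ fp.E, n χ = 0 := fun χ hχ => pow_eq_zero_iff (n := 2) two_ne_zero |>.1
    ((Finset.sum_eq_zero_iff_of_nonneg fun _ _ => sq_nonneg _).1 (by linarith) χ hχ)
  refine ⟨{
    E₀ := f.E, Ep := fp.E, Em := {χ₁}, w₁ := i, w₂ := j,
    decomp := fun φ => by rw [hdec φ, Finset.sum_singleton], cover := fun χ => ?_,
    card₀ := by rw [f.card, hk0']; norm_num, cardp := by rw [fp.card, hkp]; norm_num,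
    cardm := by simp,
    deg₀ := fun χ hχ => by rw [f.deg χ hχ, hx65]; norm_num,
    degp := fun χ hχ => by rw [fp.deg χ hχ, hu]; norm_num,
    degm := fun χ hχ => by
      rw [Finset.mem_singleton.1 hχ, hdeg91 χ₁ (hW1 ▸ Finset.mem_singleton_self _)]; norm_num,
    degw := ?_, zero₀ := ?_, zerop := ?_, zerom := ?_, unitp := ?_, unitm := ?_, same := ?_ }⟩
  · by_cases h1 : χ = one
    · exact Or.inl h1
    by_cases h2 : χ = st
    · exact Or.inr (Or.inl h2)
    by_cases h3 : χ ∈ f.E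
    · exact Or.inr (Or.inr (Or.inl h3))
    have hmem' : χ ∈ others one st f.E := (mem_others one st).2 ⟨h3, h1, h2⟩
    rw [hsp] at hmem'
    simp only [Finset.mem_union, Finset.mem_insert, Finset.mem_singleton] at hmem' ⊢
    rcases hmem' with (h | h) | h
    · exact Or.inr (Or.inr (Or.inr (Or.inl h)))
    · exact Or.inr (Or.inr (Or.inr (Or.inr (Or.inr h))))
    · exact Or.inr (Or.inr (Or.inr (Or.inr (Or.inl h))))
  · rintro χ (rfl | rfl)
    · rw [hwi]; norm_num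
    · rw [hwj]; norm_num
  · intro a ha ha1 χ hχ
    have hm' : χ ∈ others one st f.E := by
      rw [hsp]
      simp only [Finset.mem_union, Finset.mem_insert, Finset.mem_singleton] at hχ ⊢
      rcases hχ with h | h | h
      exacts [Or.inl (Or.inl h), Or.inr h, Or.inl (Or.inr h)]
    rw [f.val χ ((mem_others one st).1 hm').1 a ha ha1, (hrest χ hm').1, Int.cast_zero]
  · rintro a ha ha1 χ (h | h)
    · rw [fp.val χ (Finset.disjoint_left.1 d0p h) a ha ha1, z1 χ h, Int.cast_zero]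
    · rw [Finset.mem_singleton] at h
      subst h
      rw [fp.val χ hχ₁'.2.1 a ha ha1, hzero χ ((mem_others one st).2
        ⟨hχ₁'.2.1, ((mem_others one st).1 hχ₁'.1).2⟩) hχ₁'.2.2.1 hχ₁'.2.2.2, Int.cast_zero]
  · rintro b hb hb1 χ (h | h)
    · rw [hn χ b hb hb1, z₀ χ h, Int.cast_zero]
    · rw [hn χ b hb hb1, zp χ h, Int.cast_zero]
  · rintro a ha ha1 χ (rfl | rfl)
    · rw [fp.val χ hip a ha ha1]; rcases hsi with h | h <;> rw [h] <;> simp
    · rw [fp.val χ hjp a ha ha1]; rcases hsj with h | h <;> rw [h] <;> simp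
  · intro b hb hb1 χ hχ
    have h2 : n χ ^ 2 ≤ 1 := by
      rcases hχ with rfl | rfl <;> linarith
    have h3 : n χ ≠ 0 := by
      intro e
      rcases hχ with rfl | rfl <;> simp [e] at di dj
    rw [hn χ b hb hb1]
    rcases small_sq (show n χ ^ 2 ≤ 2 by linarith) with h | h | h
    · exact absurd h h3
    all_goals (rw [h]; simp)
  · rintro g hg χ ψ (⟨h1, h2⟩ | ⟨h1, h2⟩ | ⟨h1, h2⟩)
    · exact f.same χ h1 ψ h2 g fun h hh => hg h (Or.inl hh)
    · exact fp.same χ h1 ψ h2 g fun h hh => hg h (Or.inr (Or.inl hh))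
    · rw [Finset.mem_singleton.1 h1, Finset.mem_singleton.1 h2]

theorem exists_table {r : ℕ} (D : Data one st r K₀ Kp Km) (hr : r = 2 ∨ 4 ≤ r) :
    Nonempty (Table one st r K₀ Kp Km) := by
  rcases hr with rfl | hr
  · exact table_eight D
  · exact table_large D hr

theorem complete {r : ℕ} (D : Data one st r K₀ Kp Km) (hr : r = 2 ∨ 4 ≤ r) : Complete G r := by
  obtain ⟨t⟩ := exists_table D hr
  have h2 : 2 ≤ r := by omega
  have hsq : 2 * r ≤ r ^ 2 := by rw [pow_two]; exact Nat.mul_le_mul_right r h2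
  obtain ⟨χ₀, h₀⟩ : t.E₀.Nonempty := Finset.card_pos.1 (by have := t.card₀; omega)
  obtain ⟨χp, hp⟩ : t.Ep.Nonempty := Finset.card_pos.1 (by have := t.cardp; omega)
  obtain ⟨χm, hm⟩ : t.Em.Nonempty := Finset.card_pos.1 (by have := t.cardm; omega)
  refine ⟨fun χ => ?_, ⟨χ₀, t.deg₀ χ₀ h₀⟩, ⟨χp, t.degp χp hp⟩, ⟨χm, t.degm χm hm⟩, ⟨st, D.st1⟩,
    ⟨t.w₁, t.degw _ (Or.inl rfl)⟩⟩
  rcases t.cover χ with h | h | h | h | h | h | h
  · exact Or.inl (by rw [h]; exact eq_dg (by rw [D.hone]; simp))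
  · exact Or.inr (Or.inl (by rw [h, D.st1]))
  · exact Or.inr (Or.inr (Or.inl (t.deg₀ χ h)))
  · exact Or.inr (Or.inr (Or.inr (Or.inl (t.degp χ h))))
  · exact Or.inr (Or.inr (Or.inr (Or.inr (Or.inl (t.degm χ h)))))
  · exact Or.inr (Or.inr (Or.inr (Or.inr (Or.inr (t.degw χ (Or.inl h))))))
  · exact Or.inr (Or.inr (Or.inr (Or.inr (Or.inr (t.degw χ (Or.inr h))))))

end Cfsg.Agent.Suzuki.Degree
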