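import Cfsg.Agent.Suzuki.Binary

/-!
Binary coset actions of the Suzuki group: only the trivial group and the centres of the Sylow
2-subgroups occur as point stabilisers.
-/

set_option autoImplicit false

namespace Cfsg.Agent.Suzuki

open Matrix Cfsg.Agent.RankOne.Ovoid MulAction
open OddTori (IsTor)
open scoped Pointwise

universe u

variable {F : Type u} [Field F] [Fintype F] {m : ℕ} (hm : 1 ≤ m)
  (hF : Fintype.card F = 2 ^ (2 * m + 1))

include hm hF

omit hm in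
/-- The centre of `U`. -/
def ZU : Subgroup (Cfsg.Sz F m) where
  carrier := {x | ∃ b, x = T (good_of_card (m := m) hF) 0 b}
  one_mem' := ⟨0, (T_zero _).symm⟩
  mul_mem' := by
    rintro _ _ ⟨a, rfl⟩ ⟨b, rfl⟩
    exact ⟨a + b, by rw [T_mul]; simp [sigma_ne_zero]⟩
  inv_mem' := by
    rintro _ ⟨a, rfl⟩
    exact ⟨a, by rw [T_inv]; simp⟩

omit hm in
theorem mem_ZU {x : Cfsg.Sz F m} : x ∈ ZU hF ↔ ∃ b, x = T (good_of_card (m := m) hF) 0 b := Iff.rfl

omit hm in
theorem card_ZU : Nat.card (ZU (m := m) hF) = Nat.card F := by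
  refine (Nat.card_eq_of_bijective (fun b : F => (⟨T (good_of_card (m := m) hF) 0 b, b, rfl⟩ : ZU (m := m) hF))
    ⟨fun a b h => (T_inj (good_of_card (m := m) hF) (congrArg Subtype.val h)).2, fun ⟨x, b, hb⟩ => ⟨b, Subtype.ext hb.symm⟩⟩).symm

theorem eq_one_of_two {x : Cfsg.Sz F m} (hx : x ∈ U (good_of_card (m := m) hF)) (h : x * x ≠ 1) :
    orderOf x = 4 := by
  have h4 : orderOf x ∣ 2 ^ 2 := orderOf_dvd_four hF (k := 1) (by simpa using hx)
  obtain ⟨j, hj, e⟩ := (Nat.dvd_prime_pow Nat.prime_two).mp h4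
  interval_cases j
  · exact absurd (by rw [orderOf_eq_one_iff.mp e, one_mul]) h
  · exact absurd (orderOf_two_iff.mp e).2 h
  · exact e

/-- The centre of `U` lies in a binary stabiliser containing the standard involution. -/
theorem center_le {K : Subgroup (Cfsg.Sz F m)} (hb : Bin K) (hK : K ≠ ⊤)
    (hi : T (good_of_card (m := m) hF) 0 1 ∈ K) : ∀ b, T (good_of_card (m := m) hF) 0 b ∈ K := by
  set hG := good_of_card (m := m) hF
  set i := T hG (0 : F) 1 with hidef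
  have hwU : ∀ w : F, T hG 0 w ∈ U hG := fun w => T_mem hG 0 w
  have hcomm : ∀ u ∈ U hG, ∀ w : F, u * T hG 0 w * u⁻¹ = T hG 0 w := by
    rintro _ ⟨p, q, rfl⟩ w
    rw [((commute_T_iff hG).mpr (by simp [sigma_ne_zero]) : Commute (T hG p q) (T hG 0 w)).eq,
      mul_inv_cancel_right]
  have hinv : ∀ u ∈ U hG, ∀ w : F, ∀ g ∈ Hull K (T hG 0 w), u * g * u⁻¹ ∈ Hull K (T hG 0 w) := by
    intro u hu w g hg
    rw [← hcomm u hu w, mem_hull_conj]
    simpa [mul_assoc] using hg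
  set W := Hull K i
  have hWK : W ≤ K := hull_le hi
  have hWB : W ≤ stabilizer (Cfsg.Sz F m) (pI : Cfsg.suzukiOvoid F m) := by
    rcases le_stabilizer_or_eq_top hG hm hF (W ⊔ U hG) le_sup_right with h | h
    · exact le_sup_left.trans h
    exfalso
    have hN : Subgroup.normalizer (W : Set (Cfsg.Sz F m)) = ⊤ := by
      rw [eq_top_iff, ← h, sup_le_iff]
      refine ⟨Subgroup.le_normalizer, fun u hu => Subgroup.mem_normalizer_iff.mpr fun g =>
        ⟨hinv u hu 1 g, fun hg => ?_⟩⟩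
      simpa [mul_assoc] using hinv u⁻¹ ((U hG).inv_mem hu) 1 _ hg
    have hnor : W.Normal := Subgroup.normalizer_eq_top_iff.mp hN
    have := isSimple hm hF
    rcases hnor.eq_bot_or_eq_top with e | e
    · have : i ∈ (⊥ : Subgroup (Cfsg.Sz F m)) := e ▸ mem_hull i
      exact T_ne_one hG (Subgroup.mem_bot.mp this)
    · exact hK (top_le_iff.mp (e ▸ hWK))
  -- scaling
  have hscale : ∀ b : F, b ≠ 0 → ∃ d : Fˣ, H hG d * i * (H hG d)⁻¹ = T hG 0 b ∧
      ∀ e, H hG d * T hG 0 e * (H hG d)⁻¹ = T hG 0 (b * e) := by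
    intro b hb0
    obtain ⟨s, hs⟩ := (sAut hG).surjective b
    rw [sAut_apply] at hs
    have hs0 : s ≠ 0 := fun e => hb0 (by rw [← hs, e, zero_pow sigma_ne_zero])
    refine ⟨Units.mk0 s hs0, ?_, fun e => ?_⟩
    · rw [hidef, H_T_comm, mul_zero, mul_one, Units.val_mk0, hs]
    · rw [H_T_comm, mul_zero, Units.val_mk0, hs]
  have hcard : ∀ b : F, b ≠ 0 → Nat.card (Hull K (T hG 0 b)) = Nat.card W := fun b hb0 => by
    obtain ⟨d, hd, -⟩ := hscale b hb0
    rw [← hd, card_hull_conj]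
  have heq : ∀ b : F, b ≠ 0 → T hG 0 b ∈ W → Hull K (T hG 0 b) = W := fun b hb0 hbW =>
    Subgroup.eq_of_le_of_card_ge (hull_mono hbW) (hcard b hb0).ge
  have hmul : ∀ b e : F, b ≠ 0 → T hG 0 b ∈ W → T hG 0 e ∈ W → T hG 0 (b * e) ∈ W := by
    intro b e hb0 hbW heW
    obtain ⟨d, hd, hde⟩ := hscale b hb0
    rw [← heq b hb0 hbW, ← hde, ← hd, mem_hull_conj]
    simpa [mul_assoc] using heW
  have hinvE : ∀ b : F, b ≠ 0 → T hG 0 b ∈ W → T hG 0 b⁻¹ ∈ W := by
    intro b hb0 hbW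
    obtain ⟨d, hd, hde⟩ := hscale b hb0
    have h1 : i ∈ Hull K (H hG d * i * (H hG d)⁻¹) := by rw [hd, heq b hb0 hbW]; exact mem_hull i
    rw [mem_hull_conj] at h1
    have h2 := hde b⁻¹
    rw [mul_inv_cancel₀ hb0] at h2
    have h3 : (H hG d)⁻¹ * i * H hG d = T hG 0 b⁻¹ := by
      rw [hidef, ← h2]; simp [mul_assoc]
    rwa [h3] at h1
  by_contra hall
  push Not at hall
  obtain ⟨b, hbK⟩ := hall
  have hbW : T hG 0 b ∉ W := fun h => hbK (hWK h)
  have hb0 : b ≠ 0 := fun e => hbW (by rw [e, T_zero]; exact W.one_mem)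
  have hc0 : 1 + b ≠ 0 := fun e => hbW (by
    rw [show b = 1 by linear_combination e - hG.two]; exact mem_hull i)
  obtain ⟨d', hd', -⟩ := hscale (1 + b) hc0
  have hprod : i = T hG 0 b * T hG 0 (1 + b) := by
    rw [hidef, T_mul]
    congr 1
    · rw [zero_add]
    · simp [sigma_ne_zero]; linear_combination -b * hG.two
  obtain ⟨g, hgx, hgy, hgz⟩ := hb.tri_hull ⟨1, by simpa using hi⟩
    ⟨H hG d', by rw [← hd']; simpa [mul_assoc] using hi⟩ hprod
  have hno : ∀ w ∈ U hG, w ∈ W → w ∈ Hull K (T hG 0 b) → w = 1 := by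
    intro w hw hw1 hw2
    have key : ∀ e : F, T hG 0 e ∈ W → T hG 0 e ∈ Hull K (T hG 0 b) → e = 0 := by
      intro e he1 he2
      by_contra he0
      obtain ⟨d, hd, hde⟩ := hscale b hb0
      rw [← hd, mem_hull_conj] at he2
      have h2 := hde (e / b)
      rw [mul_div_cancel₀ _ hb0] at h2
      rw [show (H hG d)⁻¹ * T hG 0 e * H hG d = T hG 0 (e / b) by rw [← h2]; simp [mul_assoc]] at he2
      have h3 := hmul e (e / b)⁻¹ he0 he1 (hinvE _ (div_ne_zero he0 hb0) he2)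
      rw [show e * (e / b)⁻¹ = b by field_simp] at h3
      exact hbW h3
    by_contra hne
    by_cases h2 : w * w = 1
    · obtain ⟨e, rfl⟩ := involution_form hm hF hw h2
      exact hne (by rw [key e hw1 hw2, T_zero])
    · obtain ⟨e, he⟩ := involution_form hm hF ((U hG).mul_mem hw hw) (by
        have := orderOf_dvd_iff_pow_eq_one.mp
          (orderOf_dvd_four hF (k := 1) (by simpa using hw) : orderOf w ∣ 4)
        rw [← this, pow_succ, pow_succ, pow_succ, pow_one, mul_assoc (w * w)])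
      refine h2 ?_
      rw [he, key e (he ▸ W.mul_mem hw1 hw1) (he ▸ (Hull K _).mul_mem hw2 hw2), T_zero]
  have hgU : g ∈ U hG := by
    have h : g * i * g⁻¹ * i⁻¹ = 1 := by
      refine hno _ ((U hG).mul_mem (conj_mem_U hG hm hF (hWB hgx) (hwU 1)) ((U hG).inv_mem (hwU 1)))
        (W.mul_mem (W.mul_mem (W.mul_mem hgx (mem_hull i)) (W.inv_mem hgx)) (W.inv_mem (mem_hull i))) ?_
      rw [mul_assoc (g * i), mul_assoc g, ← mul_assoc i]
      exact (Hull K _).mul_mem hgy (hinv i (hwU 1) b _ ((Hull K _).inv_mem hgy))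
    exact centralizer_le_U hG hm hF (hwU 1) (T_ne_one hG)
      (Subgroup.mem_centralizer_singleton_iff.mpr (mul_inv_eq_iff_eq_mul.mp (mul_inv_eq_one.mp h)))
  rw [hno g hgU hgx hgy, inv_one, one_mul] at hgz
  have h5 : W = Hull K (T hG 0 (1 + b)) :=
    Subgroup.eq_of_le_of_card_ge (hull_mono hgz) (hcard _ hc0).le
  have h6 : T hG 0 (1 + b) ∈ W := h5 ▸ mem_hull _
  apply hbW
  have h7 := W.mul_mem (mem_hull i) h6
  rwa [T_mul, show T hG ((0 : F) + 0) (1 + (1 + b) + 0 ^ (2 ^ (m + 1)) * 0) = T hG 0 b by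
    congr 1
    · rw [add_zero]
    · simp; linear_combination hG.two] at h7

theorem normalizer_sylow_pt (k z : Cfsg.Sz F m) :
    z ∈ Subgroup.normalizer
      ((k • sylowU (good_of_card (m := m) hF) hm hF : Sylow 2 (Cfsg.Sz F m)) : Set (Cfsg.Sz F m)) ↔
      z • k • (pI : Cfsg.suzukiOvoid F m) = k • pI := by
  have : Fact (Nat.Prime 2) := ⟨Nat.prime_two⟩
  set hG := good_of_card (m := m) hF
  rw [← Sylow.smul_eq_iff_mem_normalizer, smul_smul, ← eq_inv_smul_iff.trans eq_comm, smul_smul,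
    eq_comm, Sylow.smul_eq_iff_mem_normalizer,
    show Subgroup.normalizer ((sylowU hG hm hF : Sylow 2 (Cfsg.Sz F m)) : Set (Cfsg.Sz F m)) =
      stabilizer (Cfsg.Sz F m) (pI : Cfsg.suzukiOvoid F m) from normalizer_U hG hm hF, mem_stabilizer_iff,
    mul_smul, inv_smul_eq_iff, mul_smul]

theorem le_stab {K : Subgroup (Cfsg.Sz F m)} (hK : K ≠ ⊤)
    (hZ : ∀ b, T (good_of_card (m := m) hF) 0 b ∈ K) :
    K ≤ stabilizer (Cfsg.Sz F m) (pI : Cfsg.suzukiOvoid F m) := by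
  set hG := good_of_card (m := m) hF
  have : Fact (Nat.Prime 2) := ⟨Nat.prime_two⟩
  have hq : Nat.card F = 2 ^ (2 * m + 1) := by rw [Nat.card_eq_fintype_card, hF]
  rcases listed hm hF K hK with ⟨P, hP⟩ | ⟨A, hA, hcard, hM⟩ | ⟨L, _, _, k, h1, h2, h3, h4, S, ⟨e⟩, hS⟩
  · obtain ⟨k, rfl⟩ := MulAction.exists_smul_eq (Cfsg.Sz F m) (sylowU hG hm hF) P
    have h := (normalizer_sylow_pt hm hF k _).mp (hP (hZ 1))
    intro x hx
    have hx' := (normalizer_sylow_pt hm hF k x).mp (hP hx)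
    rwa [U_fixes_only hG (T_mem hG 0 1) (T_ne_one hG) h] at hx'
  · exfalso
    obtain ⟨hfac, -, hlt⟩ := torus_facts hm
    have h8 : 8 ≤ 2 ^ (2 * m + 1) := hq ▸ eight_le hm hF
    have key : ∀ Q s : ℕ, 8 ≤ Q → s < Q → 2 ∣ Q → 2 ∣ s →
        (1 < Q - 1 ∧ (Q - 1) % 2 = 1) ∧ (1 < Q + s + 1 ∧ (Q + s + 1) % 2 = 1) ∧
          (1 < Q - s + 1 ∧ (Q - s + 1) % 2 = 1) := fun Q s _ _ _ _ => by omega
    obtain ⟨k1, k2, k3⟩ := key _ _ h8 hlt (dvd_pow_self 2 (by omega)) (dvd_pow_self 2 (by omega))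
    have hA' : 1 < Nat.card A ∧ Nat.card A % 2 = 1 := by
      rcases hcard with e | e | e <;> rw [e] <;> assumption
    have : Nontrivial A := Finite.one_lt_card_iff_nontrivial.mp hA'.1
    obtain ⟨⟨c, hcA⟩, hc⟩ := exists_ne (1 : A)
    have hc1 : c ≠ 1 := fun e => hc (Subtype.ext e)
    have hAc : A = Subgroup.centralizer {c} := by
      refine eq_centralizer_of_cyclic hm hF hA ?_ hcA hc1
      rw [hq, ← hfac]
      rcases hcard with e | e | e
      · exact Or.inl e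
      · exact Or.inr ⟨e ▸ dvd_mul_right _ _, Or.inl e⟩
      · exact Or.inr ⟨e ▸ dvd_mul_left _ _, Or.inr e⟩
    have ht : IsTor c := ⟨hc1, (Nat.odd_iff.mpr hA'.2).of_dvd_nat
      (Subgroup.orderOf_mk c hcA ▸ orderOf_dvd_natCard _)⟩
    subst hAc
    obtain ⟨b, hb0, hb1, -⟩ := exists_sigma_ne hm hF
    have ho : ∀ e : F, e ≠ 0 → orderOf (T hG 0 e) = 2 := fun e he => orderOf_two_iff.mpr
      ⟨fun h => he (by rw [← T_zero hG] at h; exact (T_inj hG h).2), by rw [T_sq]; simp [T_zero]⟩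
    have h' := inv_eq_of_comm hm hF ht (hM (hZ 1)) (hM (hZ b)) (ho 1 one_ne_zero) (ho b hb0)
      ((commute_T_iff hG).mpr (by simp [sigma_ne_zero])).eq
    exact hb1 (T_inj hG h').2.symm
  · exfalso
    have hle : ZU hF ≤ S := by rintro _ ⟨b, rfl⟩; exact hS (hZ b)
    have hd := Subgroup.card_dvd_of_le hle
    rw [card_ZU, hq, Nat.card_congr e.toEquiv, card_eq h1 h3, Nat.card_eq_fintype_card, h3] at hd
    have hcop : Nat.Coprime (2 ^ (2 * m + 1))
        ((2 ^ (2 * k + 1) - 1) * ((2 ^ (2 * k + 1)) ^ 2 + 1)) := by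
      refine Nat.Coprime.pow_left _ (Nat.coprime_two_left.mpr (Nat.odd_mul.mpr ⟨?_, ?_⟩))
      · exact Nat.Even.sub_odd (Nat.one_le_two_pow) (Nat.even_pow.mpr ⟨even_two, by omega⟩) odd_one
      · exact (Nat.even_pow.mpr ⟨Nat.even_pow.mpr ⟨even_two, by omega⟩, two_ne_zero⟩).add_odd odd_one
    rw [mul_assoc] at hd
    have hd' := hcop.dvd_of_dvd_mul_right hd
    rw [← pow_mul, Nat.pow_dvd_pow_iff_le_right (by norm_num)] at hd'
    obtain ⟨t, ht⟩ := h4
    rcases t with _ | _ | _ | t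
    · omega
    · omega
    · have : Odd ((2 * k + 1) * 2) := ht ▸ ⟨m, rfl⟩
      exact Nat.not_odd_iff_even.mpr (even_two.mul_left _) this
    · nlinarith

theorem no_tor_of_le {K : Subgroup (Cfsg.Sz F m)} (hb : Bin K) {x : Cfsg.Sz F m} (hx : x ∈ K)
    (ht : IsTor x) (hW : Hull K x ≤ Subgroup.centralizer {x}) : False := by
  obtain ⟨t, s, he, hn⟩ := tri_tor hm hF ht
  obtain ⟨g, hgx, hgy, hgz⟩ := hb.tri_hull ⟨1, by simpa using hx⟩
    ⟨s, by simpa [mul_assoc] using hx⟩ he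
  set y := t * x * t⁻¹ with hy
  have hyt : IsTor y := ⟨fun e => ht.1 (by simpa [hy, mul_inv_eq_one, mul_eq_left] using e), by
    rw [hy, show t * x * t⁻¹ = MulAut.conj t x from rfl, MulEquiv.orderOf_eq]; exact ht.2⟩
  have hWconj : ∀ k g, g ∈ Hull K (k * x * k⁻¹) → g ∈ Subgroup.centralizer {k * x * k⁻¹} := fun k g h => by
    rw [centralizer_conj, Subgroup.mem_map_equiv, MulAut.conj_symm_apply]
    exact hW ((mem_hull_conj k x g).mp h)
  have hg1 : g = 1 := by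
    by_contra hg
    refine hn ?_
    rw [← eq_torus hm hF ht (hW hgx) hg, eq_torus hm hF hyt (hWconj t g hgy) hg]
    exact Subgroup.mem_centralizer_singleton_iff.mpr rfl
  rw [hg1, inv_one, one_mul] at hgz
  have hzt : IsTor (s * x * s⁻¹) := ⟨fun e => ht.1 (by simpa [mul_inv_eq_one, mul_eq_left] using e), by
    rw [show s * x * s⁻¹ = MulAut.conj s x from rfl, MulEquiv.orderOf_eq]; exact ht.2⟩
  have hC := eq_torus hm hF hzt (hWconj s x hgz) ht.1
  apply hn
  have hy' : y = x * (s * x * s⁻¹)⁻¹ := eq_mul_inv_of_mul_eq he.symm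
  rw [hy']
  refine Subgroup.mul_mem _ (Subgroup.mem_centralizer_singleton_iff.mpr rfl) (Subgroup.inv_mem _ ?_)
  rw [hC]
  exact Subgroup.mem_centralizer_singleton_iff.mpr rfl

theorem le_U {K : Subgroup (Cfsg.Sz F m)} (hb : Bin K)
    (hKB : K ≤ stabilizer (Cfsg.Sz F m) (pI : Cfsg.suzukiOvoid F m)) :
    K ≤ U (good_of_card (m := m) hF) := by
  set hG := good_of_card (m := m) hF
  intro x hx
  by_cases h1 : x = 1
  · rw [h1]; exact (U hG).one_mem
  rcases odd_or_two hm hF h1 with h | h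
  · exact mem_U_of_fix hm hF (hKB hx) h
  exfalso
  refine no_tor_of_le hm hF hb hx ⟨h1, h⟩ fun w hw => ?_
  rcases elt_cases hm hF x with hf | ⟨k, hk⟩ | ⟨k, c, hc, hk⟩
  · exact absurd (hKB hx) (hf pI)
  · exact absurd h (not_odd_and_four hm hF h1 (orderOf_dvd_four hF hk))
  set g := k⁻¹ * J hG * k with hg
  have hginv : g * x * g⁻¹ = x⁻¹ := by
    have hJi : (J hG)⁻¹ = J hG := inv_eq_of_mul_eq_one_right (J_mul_J hG)
    have h' : x = k⁻¹ * H hG c * k := by rw [← hk]; simp [mul_assoc]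
    rw [hg, h']
    simp only [_root_.mul_inv_rev, inv_inv, hJi, mul_assoc, mul_inv_cancel_left]
    rw [← map_inv (H hG), ← J_H_J hG c]
    simp [mul_assoc]
  have hw2 : g⁻¹ * w * g ∈ Hull K x := (mem_hull_conj g x w).mp (by rw [hginv, hull_inv]; exact hw)
  have e1 : w • (pI : Cfsg.suzukiOvoid F m) = pI := hKB (hull_le hx hw)
  have e2 : w • g • (pI : Cfsg.suzukiOvoid F m) = g • pI := by
    have h3 : (g⁻¹ * w * g) • (pI : Cfsg.suzukiOvoid F m) = pI := hKB (hull_le hx hw2)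
    rwa [mul_smul, mul_smul, inv_smul_eq_iff] at h3
  have f1 := conj_fix (k := k) e1
  have f2 := conj_fix (k := k) e2
  rw [show k • g • (pI : Cfsg.suzukiOvoid F m) = J hG • k • pI by
    rw [hg, mul_smul, mul_smul, smul_inv_smul]] at f2
  have hq : H hG c • k • (pI : Cfsg.suzukiOvoid F m) = k • pI := by
    rw [← hk]; exact conj_fix (hKB hx)
  obtain ⟨d, hd⟩ : ∃ d, k * w * k⁻¹ = H hG d := by
    rcases H_fixes_two hG hc hq with e | e <;> rw [e] at f1 f2
    · rw [J_pI] at f2; exact eq_H_of_fix hG hm hF f1 f2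
    · rw [J_pP_zero] at f2; exact eq_H_of_fix hG hm hF f2 f1
  refine Subgroup.mem_centralizer_singleton_iff.mpr ((MulAut.conj k).injective ?_)
  rw [map_mul, map_mul, MulAut.conj_apply, MulAut.conj_apply, hd, hk, ← map_mul, mul_comm, map_mul]

theorem U_not_bin : ¬ Bin (U (good_of_card (m := m) hF)) := by
  classical
  set hG := good_of_card (m := m) hF
  intro hb
  let D := U hG × U hG × {b : U hG // b ≠ 1}
  let φ : D → Cfsg.Sz F m := fun p => (p.1 : Cfsg.Sz F m) *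
    (((p.2.1 : Cfsg.Sz F m) * J hG) * (p.2.2.1 : Cfsg.Sz F m) * ((p.2.1 : Cfsg.Sz F m) * J hG)⁻¹)
  have hq8 := eight_le hm hF
  have hlt : Nat.card (Cfsg.Sz F m) < Nat.card D := by
    have : Nat.card {b : U hG // b ≠ 1} = Nat.card F ^ 2 - 1 := by
      have := Fintype.ofFinite (U hG)
      rw [Nat.card_eq_fintype_card, Fintype.card_subtype_compl, Fintype.card_subtype_eq,
        ← Nat.card_eq_fintype_card, card_U]
    rw [card_sz hm hF, Nat.card_prod, Nat.card_prod, card_U, this]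
    set q := Nat.card F
    obtain ⟨p, hp⟩ : ∃ p, q ^ 2 = p + 1 :=
      ⟨q ^ 2 - 1, (Nat.sub_add_cancel (Nat.one_le_pow _ _ (by omega))).symm⟩
    rw [mul_assoc]
    refine Nat.mul_lt_mul_of_pos_left ?_ (pow_pos (by omega) 2)
    rw [hp, Nat.add_sub_cancel]
    have : q - 1 < p := by nlinarith [Nat.sub_le q 1]
    nlinarith
  have hφ : ¬ Function.Injective φ := fun h => not_le_of_gt hlt (Nat.card_le_card_of_injective φ h)
  obtain ⟨⟨⟨a, ha⟩, ⟨k, hk⟩, ⟨⟨b, hbU⟩, hb1⟩⟩, ⟨⟨a', ha'⟩, ⟨k', hk'⟩, ⟨⟨b', hb'U⟩, hb'1⟩⟩, he, hne⟩ :=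
    Function.not_injective_iff.mp hφ
  simp only [φ] at he
  have hb0 : b ≠ 1 := fun e => hb1 (Subtype.ext e)
  set y := k * J hG * b * (k * J hG)⁻¹ with hy
  set y' := k' * J hG * b' * (k' * J hG)⁻¹ with hy'
  have hfix : ∀ (u v : Cfsg.Sz F m), v ∈ U hG → u ∈ U hG →
      (u * J hG * v * (u * J hG)⁻¹) • u • (pP 0 0 : Cfsg.suzukiOvoid F m) = u • pP 0 0 := by
    intro u v hv hu
    rw [← J_pI hG, ← mul_smul u, ← mul_smul, inv_mul_cancel_right, mul_smul,
      show v • (pI : Cfsg.suzukiOvoid F m) = pI from U_le hG hv]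
  have hne0 : ∀ u ∈ U hG, u • (pP 0 0 : Cfsg.suzukiOvoid F m) ≠ pI := fun u hu e => pP_ne_pI (m := m) (0 : F) 0 (by
    rw [smul_eq_iff_eq_inv_smul,
      show u⁻¹ • (pI : Cfsg.suzukiOvoid F m) = pI from U_le hG ((U hG).inv_mem hu)] at e
    exact e)
  by_cases hkk : k = k'
  · subst hkk
    have hx : a'⁻¹ * a = y' * y⁻¹ := by
      rw [inv_mul_eq_iff_eq_mul, ← mul_assoc, ← he, mul_inv_cancel_right]
    have hf : (a'⁻¹ * a) • k • (pP 0 0 : Cfsg.suzukiOvoid F m) = k • pP 0 0 := by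
      rw [hx, mul_smul, inv_smul_eq_iff.mpr (hfix k b hbU hk).symm, hfix k b' hb'U hk]
    have haa : a'⁻¹ * a = 1 := by
      by_contra h
      exact hne0 k hk (U_fixes_only hG ((U hG).mul_mem ((U hG).inv_mem ha') ha) h hf)
    obtain rfl : a' = a := inv_mul_eq_one.mp haa
    have hbb : b = b' := mul_left_cancel (mul_right_cancel (mul_left_cancel he))
    subst hbb
    exact hne rfl
  · have hx : a'⁻¹ * a = y' * y⁻¹ := by
      rw [inv_mul_eq_iff_eq_mul, ← mul_assoc, ← he, mul_inv_cancel_right]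
    have hkd : k • (pP 0 0 : Cfsg.suzukiOvoid F m) ≠ k' • pP 0 0 := fun e => hkk
      (congrArg Subtype.val ((U_regular hG (pP_ne_pI (0 : F) 0) (hne0 k' hk')).unique
        (y₁ := ⟨k, hk⟩) (y₂ := ⟨k', hk'⟩) e rfl))
    obtain ⟨g, hg1, hg2, hg3⟩ := hb.tri (C₁ := {1}) (C₂ := {k' * J hG}) (C₃ := {k * J hG})
      ⟨1, rfl⟩ ⟨_, rfl⟩ (x := a'⁻¹ * a) (y := y') (z := y⁻¹)
      (by rintro c rfl; simpa using (U hG).mul_mem ((U hG).inv_mem ha') ha)
      (by rintro c rfl; simpa [hy', mul_assoc] using hb'U)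
      (by rintro c rfl; simpa [hy, mul_assoc] using hbU) hx
    have hgU : g ∈ U hG := by simpa using hg1 1 rfl
    have hg2' : (k' * J hG)⁻¹ * g * (k' * J hG) ∈ U hG := hg2 _ rfl
    have hgone : g = 1 := by
      by_contra hg
      refine hne0 k' hk' (U_fixes_only hG hgU hg ?_)
      have := U_le hG hg2'
      rw [mem_stabilizer_iff, mul_smul, mul_smul, inv_smul_eq_iff, mul_smul, J_pI] at this
      exact this
    have hx3 : (k * J hG)⁻¹ * (a'⁻¹ * a) * (k * J hG) ∈ U hG := by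
      have := hg3 _ rfl
      rwa [hgone, inv_one, one_mul] at this
    have hfx : (a'⁻¹ * a) • k • (pP 0 0 : Cfsg.suzukiOvoid F m) = k • pP 0 0 := by
      have := U_le hG hx3
      rw [mem_stabilizer_iff, mul_smul, mul_smul, inv_smul_eq_iff, mul_smul k, J_pI] at this
      exact this
    by_cases hxx : a'⁻¹ * a = 1
    · rw [hxx, eq_comm, mul_inv_eq_one] at hx
      have hf1 := hfix k b hbU hk
      have hf2 : y • k' • (pP 0 0 : Cfsg.suzukiOvoid F m) = k' • pP 0 0 := by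
        rw [← hx]; exact hfix k' b' hb'U hk'
      have hbf : b • ((k * J hG)⁻¹ • k' • (pP 0 0 : Cfsg.suzukiOvoid F m)) =
          (k * J hG)⁻¹ • k' • pP 0 0 := by
        rw [eq_inv_smul_iff, ← mul_smul, ← mul_smul, ← hy]
        exact hf2
      have := U_fixes_only hG hbU hb0 hbf
      rw [inv_smul_eq_iff, mul_smul, J_pI] at this
      exact hkd this.symm
    · exact hne0 k hk (U_fixes_only hG ((U hG).mul_mem ((U hG).inv_mem ha') ha) hxx hfx)

theorem all_involutions {K : Subgroup (Cfsg.Sz F m)} (hb : Bin K)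
    (hKU : K ≤ U (good_of_card (m := m) hF)) (hZ : ∀ b, T (good_of_card (m := m) hF) 0 b ∈ K)
    {x : Cfsg.Sz F m} (hx : x ∈ K) : x * x = 1 := by
  set hG := good_of_card (m := m) hF
  by_contra hxx
  by_cases hU : U hG ≤ K
  · exact U_not_bin hm hF (le_antisymm hKU hU ▸ hb)
  obtain ⟨y, hyU, hyK⟩ := SetLike.not_le_iff_exists.mp hU
  set z := y⁻¹ * x with hzdef
  have hzU : z ∈ U hG := (U hG).mul_mem ((U hG).inv_mem hyU) (hKU hx)
  have hzK : z ∉ K := fun h => hyK (by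
    have := K.mul_mem hx (K.inv_mem h)
    simpa [hzdef] using this)
  have h4 : ∀ v ∈ U hG, v * v ≠ 1 → ∃ k, Hull K v = Hull K (k * x * k⁻¹) := by
    intro v hv hvv
    obtain ⟨l, hl⟩ := four_conj hm hF (eq_one_of_two hm hF (hKU hx) hxx)
    obtain ⟨l', hl'⟩ := four_conj hm hF (eq_one_of_two hm hF hv hvv)
    have hv' : v = l'⁻¹ * (l' * v * l'⁻¹) * l'⁻¹⁻¹ := by simp [mul_assoc]
    have hsame : l' * v * l'⁻¹ = l * x * l⁻¹ ∨ l' * v * l'⁻¹ = l * x⁻¹ * l⁻¹ := by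
      rw [← conj_inv]
      rcases hl with hl | hl <;> rcases hl' with hl' | hl' <;> rw [hl, hl']
      · exact Or.inl rfl
      · exact Or.inr rfl
      · exact Or.inr (inv_inv _).symm
      · exact Or.inl rfl
    refine ⟨l'⁻¹ * l, ?_⟩
    rcases hsame with e | e
    · congr 1
      rw [hv', e]; simp [mul_assoc]
    · rw [show v = (l'⁻¹ * l * x * (l'⁻¹ * l)⁻¹)⁻¹ by rw [hv', e]; simp [mul_assoc], hull_inv]
  have hnz : ∀ v ∈ U hG, v ∉ K → v * v ≠ 1 := fun v hv hvK h => hvK (by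
    obtain ⟨b, rfl⟩ := involution_form hm hF hv h
    exact hZ b)
  obtain ⟨ky, hky⟩ := h4 y hyU (hnz y hyU hyK)
  obtain ⟨kz, hkz⟩ := h4 z hzU (hnz z hzU hzK)
  have hzne : ∃ c, c⁻¹ * z * c ∈ K := by
    refine ⟨kz, ?_⟩
    have h : z ∈ Hull K (kz * x * kz⁻¹) := hkz ▸ mem_hull z
    rw [mem_hull_conj] at h
    exact hull_le hx h
  obtain ⟨g, hgx, hgy, hgz⟩ := hb.tri_hull ⟨1, by simpa using hx⟩ hzne
    (show x = y * z by rw [hzdef, mul_inv_cancel_left])
  have hsmall : ∀ v w, v ∉ K → (∃ k, Hull K v = Hull K (k * x * k⁻¹)) → w ∈ Hull K x → w ∈ Hull K v →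
      w * w = 1 := by
    intro v w hv hv' hw1 hw2
    by_contra hww
    obtain ⟨k, hk⟩ := hv'
    obtain ⟨l, hl⟩ := h4 w (hKU (hull_le hx hw1)) hww
    have e1 : Hull K w = Hull K x := Subgroup.eq_of_le_of_card_ge (hull_mono hw1)
      (by rw [hl, card_hull_conj])
    have e2 : Hull K w = Hull K v := Subgroup.eq_of_le_of_card_ge (hull_mono hw2)
      (by rw [hl, card_hull_conj, hk, card_hull_conj])
    exact hv (hull_le hx (e1 ▸ e2.symm ▸ mem_hull v))
  have hgg := hsmall y g hyK ⟨ky, hky⟩ hgx hgy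
  have hg' : g⁻¹ * x ∈ Hull K x := (Hull K x).mul_mem ((Hull K x).inv_mem hgx) (mem_hull x)
  have hgg' := hsmall z _ hzK ⟨kz, hkz⟩ hg' hgz
  obtain ⟨b, hb'⟩ := involution_form hm hF (hKU (hull_le hx hgx)) hgg
  obtain ⟨b', hb''⟩ := involution_form hm hF (hKU (hull_le hx hg')) hgg'
  apply hxx
  rw [show x = g * (g⁻¹ * x) by simp]
  rw [hb'', hb', T_mul, T_sq]
  simp [T_zero, sigma_ne_zero]

/-- A binary stabiliser is trivial or a centre of a Sylow 2-subgroup. -/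
theorem forward {K : Subgroup (Cfsg.Sz F m)} (hb : Bin K) (hK : K ≠ ⊤) (hK0 : K ≠ ⊥) :
    ∃ k : Cfsg.Sz F m, ∀ x, x ∈ K ↔ ∃ b, k * x * k⁻¹ = T (good_of_card (m := m) hF) 0 b := by
  set hG := good_of_card (m := m) hF
  have : Fact (Nat.Prime 2) := ⟨Nat.prime_two⟩
  rcases Nat.even_or_odd (Nat.card K) with he | ho
  · obtain ⟨⟨i, hiK⟩, hi⟩ := exists_prime_orderOf_dvd_card' (G := K) 2 (even_iff_two_dvd.mp he)
    rw [Subgroup.orderOf_mk] at hi
    obtain ⟨k, hk⟩ := involution_conj hm hF hi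
    set K' := K.map (MulAut.conj k).toMonoidHom with hK'
    have hb' : Bin K' := hb.map (MulAut.conj k) fun x => by
      rw [hK', Subgroup.mem_map_equiv]; simp [mul_assoc]
    have hK't : K' ≠ ⊤ := fun e => hK (by
      apply Subgroup.map_injective (f := (MulAut.conj k).toMonoidHom) (MulAut.conj k).injective
      rw [Subgroup.map_top_of_surjective _ (MulAut.conj k).surjective]
      exact e)
    have hZ := center_le hm hF hb' hK't ⟨i, hiK, hk⟩
    have hU := le_U hm hF hb' (le_stab hm hF hK't hZ)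
    refine ⟨k, fun x => ⟨fun hx => ?_, ?_⟩⟩
    · have hx' : k * x * k⁻¹ ∈ K' := ⟨x, hx, rfl⟩
      exact involution_form hm hF (hU hx') (all_involutions hm hF hb' hU hZ hx')
    · rintro ⟨b, hb''⟩
      obtain ⟨x', hx', e⟩ := hb'' ▸ hZ b
      rwa [← (MulAut.conj k).injective e]
  · exfalso
    obtain ⟨x, hx, hxtop⟩ := (oddTori hm hF K).odd_group ho (fun h => hK0 (Subgroup.card_eq_one.mp h))
    have ht : IsTor (x : Cfsg.Sz F m) :=
      ⟨fun e => hx.1 (Subtype.ext e), by rw [Subgroup.orderOf_coe]; exact hx.2⟩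
    refine no_tor_of_le hm hF hb x.2 ht ((hull_le x.2).trans fun g hg => ?_)
    have : (⟨g, hg⟩ : K) ∈ Subgroup.centralizer {x} := hxtop ▸ Subgroup.mem_top _
    exact Subgroup.mem_centralizer_singleton_iff.mpr
      (congrArg Subtype.val (Subgroup.mem_centralizer_singleton_iff.mp this))

/-- The centre of `U` gives a binary action. -/
theorem bin_ZU : Bin (ZU (m := m) hF) := by
  set hG := good_of_card (m := m) hF
  apply bin_of_no_triangle
  · intro c d x hx hc hd w hw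
    obtain ⟨b, hb⟩ := hc
    obtain ⟨b', hb'⟩ := hd
    obtain ⟨e, he⟩ := hw
    have hne : T hG 0 b ≠ 1 := fun h => hx (by
      rw [← hb] at h
      simpa [mul_assoc, inv_mul_eq_one, eq_comm] using h)
    have hfix := fix_of_conj_mem_U hG (g := d⁻¹ * c) (T_mem hG 0 b) hne (by
      rw [← hb, show d⁻¹ * c * (c⁻¹ * x * c) * (d⁻¹ * c)⁻¹ = d⁻¹ * x * d by simp [mul_assoc], hb']
      exact T_mem hG _ _)
    obtain ⟨p, r, s, hs⟩ := eq_T_mul_H hG hm hF hfix
    refine ⟨(s : F) ^ (2 ^ (m + 1)) * e, ?_⟩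
    rw [show d⁻¹ * w * d = (d⁻¹ * c) * (c⁻¹ * w * c) * (d⁻¹ * c)⁻¹ by simp [mul_assoc], hs, he,
      show T hG p r * H hG s * T hG 0 e * (T hG p r * H hG s)⁻¹ =
        T hG p r * (H hG s * T hG 0 e * (H hG s)⁻¹) * (T hG p r)⁻¹ by simp [mul_assoc], H_T_comm,
      mul_zero, ((commute_T_iff hG).mpr (by simp [sigma_ne_zero]) :
        Commute (T hG p r) (T hG 0 ((s : F) ^ (2 ^ (m + 1)) * e))).eq, mul_inv_cancel_right]
  · intro c d e a b ha hb1 hab hca hdb heab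
    have hsq : ∀ g v : Cfsg.Sz F m, g⁻¹ * v * g ∈ ZU hF → v * v = 1 := by
      intro g v ⟨w, hw⟩
      have : g⁻¹ * (v * v) * g = 1 := by
        rw [show g⁻¹ * (v * v) * g = (g⁻¹ * v * g) * (g⁻¹ * v * g) by simp [mul_assoc], hw, T_sq]
        simp [T_zero]
      have h' := congrArg (fun z => g * z * g⁻¹) this
      simpa [mul_assoc] using h'
    have haa := hsq c a hca
    have hbb := hsq d b hdb
    have hcomm : a * b = b * a := by
      have h := hsq e _ heab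
      calc a * b = (a * b)⁻¹ := (inv_eq_of_mul_eq_one_right h).symm
        _ = b * a := by rw [_root_.mul_inv_rev, inv_eq_of_mul_eq_one_right haa,
          inv_eq_of_mul_eq_one_right hbb]
    obtain ⟨w, hw⟩ := heab
    have hw1 : T hG 0 w ≠ 1 := fun h => hab (by
      rw [← hw] at h
      have h' := congrArg (fun z => e * z * e⁻¹) h
      simpa [mul_assoc] using h')
    have hmem : e⁻¹ * a * e ∈ U hG := centralizer_le_U hG hm hF (T_mem hG 0 w) hw1
      (Subgroup.mem_centralizer_singleton_iff.mpr (by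
        rw [← hw]
        simp only [mul_assoc, mul_inv_cancel_left]
        rw [← mul_assoc b a, ← hcomm, mul_assoc]))
    exact involution_form hm hF hmem (by
      rw [show e⁻¹ * a * e * (e⁻¹ * a * e) = e⁻¹ * (a * a) * e by simp [mul_assoc], haa]; simp)

theorem bin_iff_center {K : Subgroup (Cfsg.Sz F m)} (hK : K ≠ ⊤) :
    Bin K ↔ (K = ⊥ ∨
      ∃ k : Cfsg.Sz F m, ∀ x, x ∈ K ↔ ∃ b, k * x * k⁻¹ = T (good_of_card (m := m) hF) 0 b) := by
  refine ⟨fun hb => or_iff_not_imp_left.mpr fun h0 => forward hm hF hb hK h0, ?_⟩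
  rintro (rfl | ⟨k, hk⟩)
  · exact bin_bot
  · refine (bin_ZU hm hF).map (MulAut.conj k⁻¹) fun x => ?_
    rw [hk, mem_ZU]
    simp [mul_assoc]

/-- Centres of Sylow 2-subgroups. -/
theorem center_map_iff (K : Subgroup (Cfsg.Sz F m)) :
    (∃ P : Sylow 2 (Cfsg.Sz F m), ∀ x, x ∈ K ↔ x ∈ P ∧ ∀ y ∈ P, x * y = y * x) ↔
      ∃ k : Cfsg.Sz F m, ∀ x, x ∈ K ↔ ∃ b, k * x * k⁻¹ = T (good_of_card (m := m) hF) 0 b := by
  set hG := good_of_card (m := m) hF
  have : Fact (Nat.Prime 2) := ⟨Nat.prime_two⟩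
  have key : ∀ (P : Sylow 2 (Cfsg.Sz F m)) (k : Cfsg.Sz F m), (∀ x, x ∈ P ↔ k * x * k⁻¹ ∈ U hG) →
      ∀ x, (x ∈ P ∧ ∀ y ∈ P, x * y = y * x) ↔ ∃ b, k * x * k⁻¹ = T hG 0 b := by
    intro P k hP x
    constructor
    · rintro ⟨hx, hc⟩
      refine (mem_center_U_iff hG hm hF ⟨_, (hP x).mp hx⟩).mp (Subgroup.mem_center_iff.mpr fun g => ?_)
      have hg : k⁻¹ * (g : Cfsg.Sz F m) * k ∈ P := (hP _).mpr (by simp [mul_assoc])
      apply Subtype.ext
      have h := congrArg (fun z => k * z * k⁻¹) (hc _ hg)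
      simpa [mul_assoc] using h.symm
    · rintro ⟨b, hb⟩
      refine ⟨(hP x).mpr (hb ▸ T_mem hG 0 b), fun y hy => ?_⟩
      obtain ⟨p, r, hp⟩ := (hP y).mp hy
      apply (MulAut.conj k).injective
      rw [map_mul, map_mul, MulAut.conj_apply, MulAut.conj_apply, hb, hp]
      exact ((commute_T_iff hG).mpr (by simp [sigma_ne_zero])).eq
  constructor
  · rintro ⟨P, hP⟩
    obtain ⟨k, hk⟩ := exists_conj_U hG hm hF P
    exact ⟨k, fun x => (hP x).trans (key P k hk x)⟩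
  · rintro ⟨k, hk⟩
    refine ⟨k⁻¹ • sylowU hG hm hF, fun x => (hk x).trans (key _ k (fun z => ?_) x).symm⟩
    show z ∈ ((k⁻¹ • sylowU hG hm hF : Sylow 2 (Cfsg.Sz F m)) : Subgroup (Cfsg.Sz F m)) ↔ _
    rw [Sylow.coe_subgroup_smul, Subgroup.mem_pointwise_smul_iff_inv_smul_mem,
      coe_sylowU]
    simp [mul_assoc]

end Cfsg.Agent.Suzuki
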