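import Cfsg.Agent.Suzuki.SolubilizerMain

/-!
Binary actions on cosets: the triangle criterion, and triangles of torus elements in `Sz(q)`.
-/

set_option autoImplicit false

namespace Cfsg.Agent.Suzuki

open Matrix Cfsg.Agent.RankOne.Ovoid MulAction
open OddTori (IsTor)
open scoped Pointwise

universe u

section Generic

variable {G : Type*} [Group G]

/-- Binarity of the action on the cosets of `H`, written with representatives. -/
def Bin (H : Subgroup G) : Prop :=
  ∀ (n : ℕ) (I J : Fin n → G), 2 ≤ n →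
    (∀ i j : Fin n, i ≠ j → ∃ g : G, (J i)⁻¹ * g * I i ∈ H ∧ (J j)⁻¹ * g * I j ∈ H) →
    ∃ g : G, ∀ i, (J i)⁻¹ * g * I i ∈ H

theorem smul_mk_eq_iff (H : Subgroup G) (g a b : G) :
    g • (a : G ⧸ H) = (b : G ⧸ H) ↔ b⁻¹ * g * a ∈ H := by
  rw [eq_comm, MulAction.Quotient.smul_coe, QuotientGroup.eq, smul_eq_mul, mul_assoc]

theorem bin_iff (H : Subgroup G) :
    (∀ (n : ℕ) (I J : Fin n → G ⧸ H), 2 ≤ n →
        (∀ i j : Fin n, i ≠ j → ∃ g : G, g • I i = J i ∧ g • I j = J j) →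
          ∃ g : G, ∀ i, g • I i = J i) ↔ Bin H := by
  constructor
  · intro h n I J hn hp
    obtain ⟨g, hg⟩ := h n (fun i => (I i : G ⧸ H)) (fun i => (J i : G ⧸ H)) hn fun i j hij => by
      simpa only [smul_mk_eq_iff] using hp i j hij
    exact ⟨g, fun i => (smul_mk_eq_iff H g _ _).mp (hg i)⟩
  · intro h n I J hn hp
    obtain ⟨g, hg⟩ := h n (fun i => (I i).out) (fun i => (J i).out) hn fun i j hij => by
      simpa only [← smul_mk_eq_iff, QuotientGroup.out_eq'] using hp i j hij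
    refine ⟨g, fun i => ?_⟩
    simpa only [← smul_mk_eq_iff, QuotientGroup.out_eq'] using hg i

theorem Bin.map {G' : Type*} [Group G'] (e : G ≃* G') {H : Subgroup G} {K : Subgroup G'}
    (hK : ∀ x, e x ∈ K ↔ x ∈ H) (h : Bin H) : Bin K := by
  intro n I J hn hp
  have key : ∀ (g : G) (a b : G'), b⁻¹ * e g * a = e ((e.symm b)⁻¹ * g * e.symm a) := fun g a b => by
    simp
  obtain ⟨g, hg⟩ := h n (fun i => e.symm (I i)) (fun i => e.symm (J i)) hn fun i j hij => by
    obtain ⟨g, h1, h2⟩ := hp i j hij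
    rw [← e.apply_symm_apply g, key, hK] at h1 h2
    exact ⟨_, h1, h2⟩
  exact ⟨e g, fun i => by rw [key, hK]; exact hg i⟩

theorem bin_bot : Bin (⊥ : Subgroup G) := by
  intro n I J hn hp
  simp only [Subgroup.mem_bot] at hp ⊢
  have h01 : (⟨0, by omega⟩ : Fin n) ≠ ⟨1, by omega⟩ := by simp
  obtain ⟨g, hg, -⟩ := hp _ _ h01
  refine ⟨g, fun i => ?_⟩
  by_cases hi : i = ⟨0, by omega⟩
  · rw [hi]; exact hg
  obtain ⟨g', h1, h2⟩ := hp _ _ (Ne.symm hi)
  rw [mul_left_cancel (mul_right_cancel (hg.trans h1.symm))]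
  exact h2

/-- If conjugates of `H` meet trivially and admit no triangle, the action is binary. -/
theorem bin_of_no_triangle (H : Subgroup G)
    (hTI : ∀ c d x : G, x ≠ 1 → c⁻¹ * x * c ∈ H → d⁻¹ * x * d ∈ H →
      ∀ w, c⁻¹ * w * c ∈ H → d⁻¹ * w * d ∈ H)
    (htri : ∀ c d e a b : G, a ≠ 1 → b ≠ 1 → a * b ≠ 1 → c⁻¹ * a * c ∈ H → d⁻¹ * b * d ∈ H →
      e⁻¹ * (a * b) * e ∈ H → e⁻¹ * a * e ∈ H) :
    Bin H := by
  intro n I J hn hp
  let i0 : Fin n := ⟨0, by omega⟩
  have h01 : i0 ≠ ⟨1, by omega⟩ := by simp [i0]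
  obtain ⟨g₀, hg₀, -⟩ := hp _ _ h01
  -- every pair through the base point gives an element of its stabiliser
  have hh : ∀ i, ∃ h, (I i0)⁻¹ * h * I i0 ∈ H ∧ (J i)⁻¹ * (g₀ * h) * I i ∈ H := by
    intro i
    by_cases hi : i = i0
    · subst hi
      exact ⟨1, by simp, by simpa using hg₀⟩
    obtain ⟨g, h1, h2⟩ := hp i0 i (Ne.symm hi)
    refine ⟨g₀⁻¹ * g, ?_, by simpa [mul_assoc] using h2⟩
    have := H.mul_mem (H.inv_mem hg₀) h1
    simpa [mul_assoc] using this
  choose h hh1 hh2 using hh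
  by_cases hall : ∀ i, ∀ w, (I i0)⁻¹ * w * I i0 ∈ H → (I i)⁻¹ * w * I i ∈ H
  · refine ⟨g₀, fun i => ?_⟩
    have := H.mul_mem (hh2 i) (H.inv_mem (hall i _ (hh1 i)))
    simpa [mul_assoc] using this
  push Not at hall
  obtain ⟨i1, w0, hw0, hw1⟩ := hall
  -- the two stabilisers meet trivially
  have hdis : ∀ x, (I i0)⁻¹ * x * I i0 ∈ H → (I i1)⁻¹ * x * I i1 ∈ H → x = 1 := fun x h0 h1 => by
    by_contra hx
    exact hw1 (hTI _ _ x hx h0 h1 w0 hw0)
  refine ⟨g₀ * h i1, fun j => ?_⟩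
  by_cases hj : ∀ w, (I i0)⁻¹ * w * I i0 ∈ H → (I j)⁻¹ * w * I j ∈ H
  · have := H.mul_mem (H.mul_mem (hh2 j) (H.inv_mem (hj _ (hh1 j)))) (hj _ (hh1 i1))
    simpa [mul_assoc] using this
  push Not at hj
  obtain ⟨w, hw, hwj⟩ := hj
  by_cases hij : i1 = j
  · subst hij; exact hh2 i1
  obtain ⟨g, hg1, hgj⟩ := hp _ _ hij
  set a := (h i1)⁻¹ * g₀⁻¹ * g with ha
  set b := g⁻¹ * g₀ * h j with hb
  have haI : (I i1)⁻¹ * a * I i1 ∈ H := by
    have := H.mul_mem (H.inv_mem (hh2 i1)) hg1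
    simpa [ha, mul_assoc] using this
  have hbI : (I j)⁻¹ * b * I j ∈ H := by
    have := H.mul_mem (H.inv_mem hgj) (hh2 j)
    simpa [hb, mul_assoc] using this
  have hab : a * b = (h i1)⁻¹ * h j := by simp [ha, hb, mul_assoc]
  have hab0 : (I i0)⁻¹ * (a * b) * I i0 ∈ H := by
    have := H.mul_mem (H.inv_mem (hh1 i1)) (hh1 j)
    rw [hab]
    simpa [mul_assoc] using this
  by_cases h1 : a * b = 1
  · rw [inv_mul_eq_one.mp (hab.symm.trans h1)]
    exact hh2 j
  have ha1 : a = 1 ∨ a ≠ 1 := em _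
  rcases ha1 with ha1 | ha1
  · have : g₀ * h i1 = g := by
      rw [ha, mul_assoc, inv_mul_eq_one] at ha1
      rw [ha1, mul_inv_cancel_left]
    rw [this]; exact hgj
  exfalso
  by_cases hb1 : b = 1
  · rw [hb1, mul_one] at hab0
    exact ha1 (hdis a hab0 haI)
  exact ha1 (hdis a (htri _ _ _ a b ha1 hb1 h1 haI hbI hab0) haI)

/-- The intersection of the conjugates of `H` containing `x`. -/
def Hull (H : Subgroup G) (x : G) : Subgroup G where
  carrier := {g | ∀ c : G, c⁻¹ * x * c ∈ H → c⁻¹ * g * c ∈ H}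
  one_mem' := fun c _ => by simp
  mul_mem' := fun {a b} ha hb c hc => by
    simpa [mul_assoc] using H.mul_mem (ha c hc) (hb c hc)
  inv_mem' := fun {a} ha c hc => by
    simpa [mul_assoc] using H.inv_mem (ha c hc)

variable {H : Subgroup G}

theorem mem_hull (x : G) : x ∈ Hull H x := fun _ hc => hc

theorem hull_le {x : G} (hx : x ∈ H) : Hull H x ≤ H := fun g hg => by simpa using hg 1 (by simpa using hx)

theorem hull_mono {x y : G} (hy : y ∈ Hull H x) : Hull H y ≤ Hull H x := fun _ hg c hc => hg c (hy c hc)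

theorem hull_inv (x : G) : Hull H x⁻¹ = Hull H x := by
  have : ∀ c : G, c⁻¹ * x⁻¹ * c ∈ H ↔ c⁻¹ * x * c ∈ H := fun c => by
    rw [← H.inv_mem_iff]; simp [mul_assoc]
  ext g
  exact ⟨fun hg c hc => hg c ((this c).mpr hc), fun hg c hc => hg c ((this c).mp hc)⟩

theorem mem_hull_conj (k x g : G) : g ∈ Hull H (k * x * k⁻¹) ↔ k⁻¹ * g * k ∈ Hull H x := by
  constructor
  · intro hg c hc
    simpa [mul_assoc] using hg (k * c) (by simpa [mul_assoc] using hc)
  · intro hg c hc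
    simpa [mul_assoc] using hg (k⁻¹ * c) (by simpa [mul_assoc] using hc)

theorem hull_conj_eq (k x : G) :
    Hull H (k * x * k⁻¹) = (Hull H x).map (MulAut.conj k).toMonoidHom := by
  ext g
  rw [mem_hull_conj, Subgroup.mem_map_equiv, MulAut.conj_symm_apply]

theorem card_hull_conj (k x : G) : Nat.card (Hull H (k * x * k⁻¹)) = Nat.card (Hull H x) := by
  rw [hull_conj_eq, Subgroup.card_map_of_injective (MulAut.conj k).injective]

/-- The triangle condition forced by binarity. -/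
theorem Bin.tri [Finite G] (hb : Bin H) {C₁ C₂ C₃ : Set G} (h₁ : C₁.Nonempty) (h₃ : C₃.Nonempty)
    {x y z : G} (hx : ∀ c ∈ C₁, c⁻¹ * x * c ∈ H) (hy : ∀ c ∈ C₂, c⁻¹ * y * c ∈ H)
    (hz : ∀ c ∈ C₃, c⁻¹ * z * c ∈ H) (e : x = y * z) :
    ∃ g, (∀ c ∈ C₁, c⁻¹ * g * c ∈ H) ∧ (∀ c ∈ C₂, c⁻¹ * g * c ∈ H) ∧
      ∀ c ∈ C₃, c⁻¹ * (g⁻¹ * x) * c ∈ H := by
  classical
  let ι := C₁ ⊕ C₂ ⊕ C₃
  let I : ι → G := Sum.elim (fun c => (c : G)) (Sum.elim (fun c => (c : G)) fun c => (c : G))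
  let J : ι → G := Sum.elim (fun c => (c : G)) (Sum.elim (fun c => (c : G)) fun c => x * (c : G))
  let eq := Finite.equivFin ι
  have hn : 2 ≤ Nat.card ι := by
    obtain ⟨a, ha⟩ := h₁
    obtain ⟨b, hb'⟩ := h₃
    exact Finite.one_lt_card_iff_nontrivial.mpr
      ⟨⟨Sum.inl ⟨a, ha⟩, Sum.inr (Sum.inr ⟨b, hb'⟩), by simp⟩⟩
  have h33 : ∀ c : G, (x * c)⁻¹ * x * c = 1 := fun c => by simp [mul_assoc]
  have h11 : ∀ c : G, c⁻¹ * (1 : G) * c = 1 := fun c => by simp
  have h23 : ∀ c ∈ C₃, (x * c)⁻¹ * y * c ∈ H := fun c hc => by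
    have := H.inv_mem (hz c hc)
    simpa [e, mul_assoc] using this
  obtain ⟨g, hg⟩ := hb (Nat.card ι) (I ∘ eq.symm) (J ∘ eq.symm) hn fun i j _ => by
    simp only [Function.comp_apply]
    generalize eq.symm i = p, eq.symm j = q
    rcases p with c | c | c <;> rcases q with d | d | d
    · exact ⟨1, by simp [I, J], by simp [I, J]⟩
    · exact ⟨1, by simp [I, J], by simp [I, J]⟩
    · exact ⟨x, hx _ c.2, by simp [I, J, h33]⟩
    · exact ⟨1, by simp [I, J], by simp [I, J]⟩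
    · exact ⟨1, by simp [I, J], by simp [I, J]⟩
    · exact ⟨y, hy _ c.2, h23 _ d.2⟩
    · exact ⟨x, by simp [I, J, h33], hx _ d.2⟩
    · exact ⟨y, h23 _ c.2, hy _ d.2⟩
    · exact ⟨x, by simp [I, J, h33], by simp [I, J, h33]⟩
  refine ⟨g, fun c hc => ?_, fun c hc => ?_, fun c hc => ?_⟩
  · simpa [I, J] using hg (eq (Sum.inl ⟨c, hc⟩))
  · simpa [I, J] using hg (eq (Sum.inr (Sum.inl ⟨c, hc⟩)))
  · have := H.inv_mem (hg (eq (Sum.inr (Sum.inr ⟨c, hc⟩))))
    simpa [I, J, mul_assoc] using this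

/-- The triangle condition for hulls. -/
theorem Bin.tri_hull [Finite G] (hb : Bin H) {x y z : G} (hx : ∃ c, c⁻¹ * x * c ∈ H)
    (hz : ∃ c, c⁻¹ * z * c ∈ H) (e : x = y * z) :
    ∃ g, g ∈ Hull H x ∧ g ∈ Hull H y ∧ g⁻¹ * x ∈ Hull H z :=
  hb.tri (C₁ := {c | c⁻¹ * x * c ∈ H}) (C₂ := {c | c⁻¹ * y * c ∈ H}) (C₃ := {c | c⁻¹ * z * c ∈ H})
    hx hz (fun _ h => h) (fun _ h => h) (fun _ h => h) e

end Generic

variable {F : Type u} [Field F] [Fintype F] {m : ℕ} (hm : 1 ≤ m)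
  (hF : Fintype.card F = 2 ^ (2 * m + 1))

include hm hF

omit hm in
theorem sigma_add_ne_one (t : F) : t ^ (2 ^ (m + 1)) + t ≠ 1 := by
  have hG := good_of_card (m := m) hF
  intro ht
  have hs2 : t ^ 2 + t ^ (2 ^ (m + 1)) = 1 := by
    have := congrArg (fun z : F => z ^ (2 ^ (m + 1))) ht
    simpa [hG.add, hG.sq] using this
  rcases eq_or_ne t 0 with rfl | h0
  · simp [zero_pow sigma_ne_zero] at ht
  · have h3 : t = 1 := by
      apply mul_left_cancel₀ h0
      rw [mul_one]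
      linear_combination hs2 - ht
    rw [h3, one_pow] at ht
    exact one_ne_zero (α := F) (by rw [← ht]; linear_combination hG.two)

/-- An element of `U` other than `1`, moved to the other base point, with its torus part. -/
theorem JTJ {a b : F} (h : T (good_of_card (m := m) hF) a b ≠ 1) :
    ∃ (u v e f : F) (c : Fˣ), (c : F) = vPt m a b 0 ∧
      J (good_of_card (m := m) hF) * T (good_of_card (m := m) hF) a b * J (good_of_card (m := m) hF) =
        T (good_of_card (m := m) hF) u v * J (good_of_card (m := m) hF) *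
          (T (good_of_card (m := m) hF) e f * H (good_of_card (m := m) hF) c) := by
  set hG := good_of_card (m := m) hF
  set g := J hG * T hG a b * J hG with hg
  rcases point_cases (g • (pI : Cfsg.suzukiOvoid F m)) with e | ⟨u, v, e⟩
  · exfalso
    rw [hg, mul_smul, mul_smul, J_pI, smul_eq_iff_eq_inv_smul, inv_eq_of_mul_eq_one_right (J_mul_J hG),
      J_pI, T_pP] at e
    obtain ⟨h1, h2⟩ := pP_inj e
    obtain rfl : a = 0 := by simpa using h1
    obtain rfl : b = 0 := by simpa [sigma_ne_zero] using h2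
    exact h (T_zero hG)
  · have hB : ((T hG u v * J hG)⁻¹ * g) • (pI : Cfsg.suzukiOvoid F m) = pI := by
      rw [mul_smul, inv_smul_eq_iff, e, mul_smul, J_pI, T_pP]
      simp [sigma_ne_zero]
    obtain ⟨p, q, c, hc⟩ := eq_T_mul_H hG hm hF hB
    refine ⟨u, v, p, q, c, ?_, by rw [← hc, mul_inv_cancel_left]⟩
    have e1 : g = T hG u v * J hG * (T hG p q * H hG c) := by rw [← hc, mul_inv_cancel_left]
    have e2 := congrArg (fun z : Cfsg.Sz F m => mat z 3 0) e1
    rw [hg] at e2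
    simpa [map_mul, mat, coe_T, coe_J, coe_H, revMat, translMat, torMat, torVec, Matrix.mul_apply,
      Fin.sum_univ_four, Matrix.diagonal, Matrix.vecHead, Matrix.vecTail] using e2.symm

/-- Two commuting involutions of a torus normalizer are equal. -/
theorem inv_eq_of_comm {c i t : Cfsg.Sz F m} (hc : IsTor c) (hi : i ∈ NC c) (ht : t ∈ NC c)
    (hi2 : orderOf i = 2) (ht2 : orderOf t = 2) (h : i * t = t * i) : i = t := by
  obtain ⟨-, hii⟩ := orderOf_two_iff.mp hi2
  obtain ⟨-, htt⟩ := orderOf_two_iff.mp ht2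
  by_contra hne
  have hne' : i * t ≠ 1 := fun e => hne ((eq_inv_of_mul_eq_one_left e).trans
    (inv_eq_of_mul_eq_one_right htt))
  have h2 : orderOf (i * t) = 2 := orderOf_two_iff.mpr ⟨hne', by
    rw [mul_assoc, ← mul_assoc t, ← h, ← mul_assoc, ← mul_assoc, hii, one_mul, htt]⟩
  refine not_mem_of_four hm hF hc hne' (h2 ▸ by norm_num) ?_
  have hcC : c ∈ Subgroup.centralizer {c} := Subgroup.mem_centralizer_singleton_iff.mpr rfl
  refine Subgroup.mem_centralizer_singleton_iff.mpr (mul_inv_eq_iff_eq_mul.mp ?_)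
  rw [show i * t * c * (i * t)⁻¹ = i * (t * c * t⁻¹) * i⁻¹ by simp [mul_assoc],
    inverts hm hF hc ht ht2 hcC, ← conj_inv, inverts hm hF hc hi hi2 hcC, inv_inv]

/-- A torus element in standard form is a product of two of its conjugates. -/
theorem tri_std {r : F} (hr : r ≠ 0)
    (hx : IsTor (T (good_of_card (m := m) hF) 0 1 * (J (good_of_card (m := m) hF) *
      T (good_of_card (m := m) hF) 0 r * J (good_of_card (m := m) hF)))) :
    ∀ x, x = T (good_of_card (m := m) hF) 0 1 * (J (good_of_card (m := m) hF) *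
      T (good_of_card (m := m) hF) 0 r * J (good_of_card (m := m) hF)) →
    ∃ t s : Cfsg.Sz F m, x = (t * x * t⁻¹) * (s * x * s⁻¹) ∧
      t * x * t⁻¹ ∉ Subgroup.centralizer {x} := by
  intro x hxdef
  set hG := good_of_card (m := m) hF
  rw [← hxdef] at hx
  have h2 := hG.two
  set i := T hG (0 : F) 1 with hi
  set j := J hG * T hG 0 r * J hG with hj
  have hJi : (J hG)⁻¹ = J hG := inv_eq_of_mul_eq_one_right (J_mul_J hG)
  have hi2 : i * i = 1 := by rw [hi, T_sq]; simp [T_zero]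
  have hj2 : j * j = 1 := by
    rw [hj, show J hG * T hG 0 r * J hG * (J hG * T hG 0 r * J hG) =
      J hG * (T hG 0 r * ((J hG * J hG) * T hG 0 r)) * J hG by simp [mul_assoc], J_mul_J, one_mul, T_sq]
    simp [T_zero, J_mul_J]
  -- choose the parameter
  obtain ⟨a, b, hN, ht1, ht2⟩ : ∃ a b : F, (vPt m a b 0) ^ (2 ^ (m + 1)) = r⁻¹ ∧
      T hG a b ≠ 1 ∧ ((a = 0 ∧ b ≠ 1) ∨ (a ≠ 0 ∧ a ^ (2 ^ (m + 1)) * a ≠ 1)) := by
    have hσ : ∀ z : F, ∃ w, w ^ (2 ^ (m + 1)) = z := fun z => (sAut hG).surjective z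
    obtain ⟨n, hn⟩ := hσ r⁻¹
    have hn0 : n ≠ 0 := fun e => inv_ne_zero hr (by rw [← hn, e, zero_pow sigma_ne_zero])
    by_cases hn1 : n = 1
    · obtain ⟨b₀, hb0, hb1, -⟩ := exists_sigma_ne hm hF
      set M := 1 + b₀ + b₀ ^ (2 ^ (m + 1)) with hM
      have hM0 : M ≠ 0 := fun e => sigma_add_ne_one hF b₀ (by linear_combination e - h2)
      have hM1 : M ≠ 1 := fun e => by
        rcases sigma_fix hG (x := b₀) (by linear_combination e - b₀ * h2) with e' | e'
        · exact hb0 e'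
        · exact hb1 e'
      obtain ⟨s, hs⟩ := hσ M⁻¹
      obtain ⟨d, hd⟩ := hσ s
      have hd2 : d ^ 2 = M⁻¹ := by rw [← hs, ← hd, hG.sq]
      have hd0 : d ≠ 0 := fun e => inv_ne_zero hM0 (by rw [← hd2, e, zero_pow two_ne_zero])
      have hd1 : d ≠ 1 := fun e => hM1 (inv_eq_one.mp (by rw [← hd2, e, one_pow]))
      have hl0 : lam m d ≠ 0 := div_ne_zero (pow_ne_zero _ hd0) (pow_ne_zero _ hd0)
      refine ⟨lam m d, d ^ (2 ^ (m + 1)) * b₀, ?_, fun e => hl0 ?_, Or.inr ⟨hl0, ?_⟩⟩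
      · rw [← hn, hn1, one_pow]
        suffices vPt m (lam m d) (d ^ (2 ^ (m + 1)) * b₀) 0 = 1 by rw [this, one_pow]
        have e1 : lam m d * d ^ (2 ^ (m + 1)) = d ^ 2 := div_mul_cancel₀ _ (pow_ne_zero _ hd0)
        have e2 : lam m d ^ (2 ^ (m + 1) + 2) = d ^ 2 := by
          rw [pow_add, pow_two, ← mul_assoc, sigma_lam hG, mul_comm, e1]
        simp only [vPt, Matrix.cons_val_zero, e2, mul_pow, hG.sq]
        rw [← mul_assoc, e1, ← inv_mul_cancel₀ hM0, ← hd2, hM]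
        ring
      · rw [← T_zero hG] at e
        exact (T_inj hG e).1
      · rw [sigma_lam hG]
        exact fun e => hd1 (congrArg Units.val (sigma_eq_one hG (a := Units.mk0 d hd0) e))
    · obtain ⟨b, hb⟩ := hσ n
      refine ⟨0, b, ?_, fun e => hn0 ?_, Or.inl ⟨rfl, fun e => hn1 (by rw [← hb, e, one_pow])⟩⟩
      · rw [← hn, ← hb]; simp [vPt, sigma_ne_zero]
      · rw [← T_zero hG] at e
        rw [← hb, (T_inj hG e).2, zero_pow sigma_ne_zero]
  set t := T hG a b with ht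
  have htU : t ∈ U hG := T_mem hG a b
  have hti : t * i = i * t := ((commute_T_iff hG).mpr (by simp [sigma_ne_zero])).eq
  set k := t * j * t⁻¹ with hk
  have hy : t * x * t⁻¹ = i * k := by
    rw [hxdef, hk, ← mul_assoc t, hti]
    simp only [hj, mul_assoc]
  have hki : k⁻¹ = k := by
    rw [hk, conj_inv, inv_eq_of_mul_eq_one_right hj2]
  have hz : x = (t * x * t⁻¹) * (k * j) := by
    rw [hy, mul_assoc, ← mul_assoc k, show k * k = 1 by
      conv_lhs => arg 1; rw [← hki]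
      exact inv_mul_cancel k]
    rw [one_mul, hxdef]
  -- `k * j` is a conjugate of `x`
  obtain ⟨u, v, e, f, c, hc, hg⟩ := JTJ hm hF ht1
  rw [← ht] at hg
  have hsc : (c : F) ^ (2 ^ (m + 1)) = r⁻¹ := hc ▸ hN
  have hcomm : ∀ (p q s : F), T hG p q * T hG 0 s * (T hG p q)⁻¹ = T hG 0 s := fun p q s => by
    rw [((commute_T_iff hG).mpr (by simp [sigma_ne_zero]) : Commute (T hG p q) (T hG 0 s)).eq,
      mul_inv_cancel_right]
  have hB : T hG e f * H hG c * T hG 0 r * (T hG e f * H hG c)⁻¹ = T hG 0 1 := by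
    rw [show T hG e f * H hG c * T hG 0 r * (T hG e f * H hG c)⁻¹ =
      T hG e f * (H hG c * T hG 0 r * (H hG c)⁻¹) * (T hG e f)⁻¹ by simp [mul_assoc], H_T_comm,
      mul_zero, hsc, inv_mul_cancel₀ hr, hcomm]
  have hJkJ : J hG * k * J hG = T hG u v * (J hG * T hG 0 1 * J hG) * (T hG u v)⁻¹ := by
    rw [hk, hj, show J hG * (t * (J hG * T hG 0 r * J hG) * t⁻¹) * J hG =
      (J hG * t * J hG) * T hG 0 r * (J hG * t * J hG)⁻¹ by simp [mul_assoc, hJi], hg,
      show T hG u v * J hG * (T hG e f * H hG c) * T hG 0 r *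
        (T hG u v * J hG * (T hG e f * H hG c))⁻¹ = T hG u v * (J hG * ((T hG e f * H hG c) *
        T hG 0 r * (T hG e f * H hG c)⁻¹) * J hG) * (T hG u v)⁻¹ by simp [mul_assoc, hJi], hB]
  have hw : T hG 0 r * (T hG u v)⁻¹ = (T hG u v)⁻¹ * T hG 0 r := by
    have := hcomm u v r
    rw [mul_inv_eq_iff_eq_mul] at this
    rw [eq_inv_mul_iff_mul_eq, ← mul_assoc, this, mul_inv_cancel_right]
  refine ⟨t, J hG * T hG u v * J hG, ?_, ?_⟩
  · rw [show J hG * T hG u v * J hG * x * (J hG * T hG u v * J hG)⁻¹ = k * j from ?_]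
    · exact hz
    calc J hG * T hG u v * J hG * x * (J hG * T hG u v * J hG)⁻¹
        = J hG * (T hG u v * (J hG * i * J hG) * ((J hG * j * J hG) * (T hG u v)⁻¹)) * J hG := by
          rw [hxdef]; simp only [_root_.mul_inv_rev, hJi, mul_assoc]
          simp [← mul_assoc (J hG) (J hG), J_mul_J]
      _ = J hG * ((J hG * k * J hG) * T hG 0 r) * J hG := by
          rw [show J hG * j * J hG = T hG 0 r by
            rw [hj]; simp only [mul_assoc]; simp [← mul_assoc (J hG) (J hG), J_mul_J], hw, hJkJ]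
          simp [hi, mul_assoc]
      _ = k * j := by rw [hj]; simp [mul_assoc, ← mul_assoc (J hG) (J hG), J_mul_J]
  · intro hmem
    -- then `t` normalises the torus of `x`
    have htN : t ∈ NC x := by
      have hne : t * x * t⁻¹ ≠ 1 := fun e => hx.1 (by simpa [mul_inv_eq_one, mul_eq_left] using e)
      have hmap : (Subgroup.centralizer {x}).map (MulAut.conj t).toMonoidHom =
          Subgroup.centralizer {x} := by
        rw [← centralizer_conj, eq_torus hm hF hx hmem hne]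
      refine Subgroup.mem_normalizer_iff.mpr fun z => ?_
      conv_rhs => rw [← hmap]
      rw [Subgroup.mem_map_equiv, MulAut.conj_symm_apply]
      simp [mul_assoc]
    have hiN : i ∈ NC x := by
      have h1 : i * x * i⁻¹ = x⁻¹ := by
        rw [hxdef, _root_.mul_inv_rev, inv_eq_of_mul_eq_one_right hj2, inv_eq_of_mul_eq_one_right hi2,
          ← mul_assoc i, hi2, one_mul]
      have hmap : (Subgroup.centralizer {x}).map (MulAut.conj i).toMonoidHom =
          Subgroup.centralizer {x} := by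
        rw [← centralizer_conj, h1]
        ext z
        simp only [Subgroup.mem_centralizer_singleton_iff]
        exact Commute.inv_right_iff (a := z) (b := x)
      refine Subgroup.mem_normalizer_iff.mpr fun z => ?_
      conv_rhs => rw [← hmap]
      rw [Subgroup.mem_map_equiv, MulAut.conj_symm_apply]
      simp [mul_assoc]
    have hio : orderOf i = 2 := orderOf_two_iff.mpr ⟨T_ne_one hG, hi2⟩
    rcases ht2 with ⟨rfl, hb⟩ | ⟨ha, haa⟩
    · have hto : orderOf t = 2 :=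
        orderOf_two_iff.mpr ⟨ht1, by rw [ht, T_sq]; simp [T_zero]⟩
      have := inv_eq_of_comm hm hF hx hiN htN hio hto hti.symm
      exact hb (T_inj hG this).2.symm
    · have ht4 : t * t ≠ 1 := fun e => ha (fst_eq_zero hG e)
      have hto : orderOf (t * t) = 2 := orderOf_two_iff.mpr ⟨ht4, by
        rw [ht, T_sq, T_sq]; simp [T_zero, sigma_ne_zero]⟩
      have := inv_eq_of_comm hm hF hx hiN ((NC x).mul_mem htN htN) hio hto
        (by rw [← mul_assoc, ← hti, mul_assoc, ← hti, ← mul_assoc])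
      rw [ht, T_sq, hi] at this
      exact haa (T_inj hG this).2.symm

/-- Every torus element is a product of two conjugates outside its torus. -/
theorem tri_tor {x : Cfsg.Sz F m} (hx : IsTor x) :
    ∃ t s : Cfsg.Sz F m, x = (t * x * t⁻¹) * (s * x * s⁻¹) ∧
      t * x * t⁻¹ ∉ Subgroup.centralizer {x} := by
  set hG := good_of_card (m := m) hF
  have : Fact (Nat.Prime 2) := ⟨Nat.prime_two⟩
  obtain ⟨⟨i, hiN⟩, hi⟩ : ∃ z : NC x, orderOf z = 2 := exists_prime_orderOf_dvd_card' 2 (by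
    rcases tor_cases hm hF hx with ⟨-, h⟩ | ⟨-, h⟩ <;> rw [h]
    · exact dvd_mul_right _ _
    · exact Dvd.dvd.mul_right (by norm_num) _)
  rw [Subgroup.orderOf_mk] at hi
  have hinv := inverts hm hF hx hiN hi (Subgroup.mem_centralizer_singleton_iff.mpr rfl : x ∈ _)
  obtain ⟨k, hk⟩ := involution_conj hm hF hi
  set i1 := T hG (0 : F) 1
  set x1 := k * x * k⁻¹ with hx1
  have hinv1 : i1 * x1 * i1⁻¹ = x1⁻¹ := by
    rw [← hk, hx1, show k * i * k⁻¹ * (k * x * k⁻¹) * (k * i * k⁻¹)⁻¹ = k * (i * x * i⁻¹) * k⁻¹ by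
      simp [mul_assoc], hinv, conj_inv]
  have hi1 : i1 * i1 = 1 := by simp only [i1]; rw [T_sq]; simp [T_zero]
  have hxo : Odd (orderOf x1) := by
    rw [hx1, show k * x * k⁻¹ = MulAut.conj k x from rfl, MulEquiv.orderOf_eq]; exact hx.2
  have hx1ne : x1 ≠ 1 := fun e => hx.1 (by simpa [hx1, mul_inv_eq_one, mul_eq_left] using e)
  set j := i1 * x1 with hjdef
  have hj2 : j * j = 1 := by
    rw [hjdef, ← mul_assoc, show i1 * x1 * i1 = x1⁻¹ by
      rw [← hinv1, inv_eq_of_mul_eq_one_right hi1], inv_mul_cancel]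
  have hj1 : j ≠ 1 := fun e => by
    have hb : x1 = i1 := by
      rw [← inv_eq_of_mul_eq_one_right hi1]
      exact (eq_inv_of_mul_eq_one_right e)
    rw [hb, orderOf_two_iff.mpr ⟨T_ne_one hG, hi1⟩] at hxo
    exact absurd hxo (by decide)
  obtain ⟨p, hp⟩ := exists_fix_of_two hm hF (g := j) (j := 1) (by rw [pow_one, pow_two, hj2])
  have hjo : orderOf j = 2 := orderOf_two_iff.mpr ⟨hj1, hj2⟩
  rcases point_cases p with rfl | ⟨a, b, rfl⟩
  · exfalso
    have hjU := mem_U_of_fix hm hF hp (by rw [hjo]; norm_num)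
    have : x1 ∈ U hG := by
      rw [show x1 = i1 * j by rw [hjdef, ← mul_assoc, hi1, one_mul]]
      exact (U hG).mul_mem (T_mem hG 0 1) hjU
    exact not_odd_and_four hm hF hx1ne (orderOf_dvd_four hF (k := 1) (by simpa using this)) hxo
  · set w := (T hG a b)⁻¹ with hw
    have hwp : w • (pP a b : Cfsg.suzukiOvoid F m) = pP 0 0 := by
      rw [hw, inv_smul_eq_iff, T_pP]; simp [sigma_ne_zero]
    set j' := J hG * (w * j * w⁻¹) * J hG with hj'
    have hfix : j' • (pI : Cfsg.suzukiOvoid F m) = pI := by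
      rw [hj', mul_smul, mul_smul, mul_smul, mul_smul, J_pI]
      rw [show w⁻¹ • (pP 0 0 : Cfsg.suzukiOvoid F m) = pP a b by rw [inv_smul_eq_iff, hwp], hp, hwp,
        J_pP_zero]
    have hj'2 : j' * j' = 1 := by
      rw [hj', show J hG * (w * j * w⁻¹) * J hG * (J hG * (w * j * w⁻¹) * J hG) =
        J hG * (w * (j * (w⁻¹ * (((J hG * J hG)) * w) * j) * w⁻¹)) * J hG by simp [mul_assoc],
        J_mul_J, one_mul, inv_mul_cancel, one_mul, hj2]
      simp [J_mul_J]
    have hj'1 : j' ≠ 1 := fun e => hj1 (by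
      have := congrArg (fun z => w⁻¹ * (J hG * z * J hG) * w) e
      simpa [hj', mul_assoc, ← mul_assoc (J hG) (J hG), J_mul_J] using this)
    obtain ⟨r, hr⟩ := involution_form hm hF
      (mem_U_of_fix hm hF hfix (by rw [orderOf_two_iff.mpr ⟨hj'1, hj'2⟩]; norm_num)) hj'2
    have hr0 : r ≠ 0 := fun e => hj'1 (by rw [hr, e, T_zero])
    have hwi : w * i1 * w⁻¹ = i1 := by
      rw [hw, inv_inv, mul_assoc, ((commute_T_iff hG).mpr (by simp [sigma_ne_zero]) :
        Commute i1 (T hG a b)).eq, inv_mul_cancel_left]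
    have hstd : w * k * x * (w * k)⁻¹ = i1 * (J hG * T hG 0 r * J hG) := by
      rw [← hr, hj', show w * k * x * (w * k)⁻¹ = w * x1 * w⁻¹ by simp [hx1, mul_assoc],
        show x1 = i1 * j by rw [hjdef, ← mul_assoc, hi1, one_mul]]
      calc w * (i1 * j) * w⁻¹ = (w * i1 * w⁻¹) * (w * j * w⁻¹) := by simp [mul_assoc]
        _ = _ := by rw [hwi]; simp [mul_assoc, ← mul_assoc (J hG) (J hG), J_mul_J]
    set l := w * k
    have hl : IsTor (l * x * l⁻¹) := by
      refine ⟨fun e => hx.1 (by simpa [mul_inv_eq_one, mul_eq_left] using e), ?_⟩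
      rw [show l * x * l⁻¹ = MulAut.conj l x from rfl, MulEquiv.orderOf_eq]; exact hx.2
    rw [hstd] at hl
    obtain ⟨t, s, h1, h2⟩ := tri_std hm hF hr0 hl _ hstd
    refine ⟨l⁻¹ * t * l, l⁻¹ * s * l, ?_, fun h => h2 ?_⟩
    · have := congrArg (fun z => l⁻¹ * z * l) h1
      simpa [mul_assoc] using this
    · rw [centralizer_conj]
      exact ⟨_, h, by simp [mul_assoc]⟩

end Cfsg.Agent.Suzuki
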