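import Mathlib

/-!
Counting in finite groups whose elements of odd order have abelian trivial-intersection
centralisers of index at most four in their normalisers.
-/

set_option autoImplicit false

namespace Cfsg.Agent.Suzuki

universe u

section TI

variable {G : Type u} [Group G] [Finite G]

/-- The conjugates of the non-identity elements of a subgroup. -/
def clsOf (A : Subgroup G) : Set G := {v | ∃ k, ∃ u ∈ A, u ≠ 1 ∧ k * u * k⁻¹ = v}

theorem card_clsOf (A : Subgroup G)
    (hTI : ∀ u ∈ A, u ≠ 1 → ∀ k : G, k * u * k⁻¹ ∈ A → k ∈ Subgroup.normalizer (A : Set G)) :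
    Nat.card (clsOf A) * Nat.card (Subgroup.normalizer (A : Set G)) =
      (Nat.card A - 1) * Nat.card G := by
  classical
  have := Fintype.ofFinite G
  set N := Subgroup.normalizer (A : Set G)
  have hchoice : ∀ v : clsOf A, ∃ k u, u ∈ A ∧ u ≠ 1 ∧ k * u * k⁻¹ = (v : G) := fun v => by
    obtain ⟨k, u, a, b, c⟩ := v.2
    exact ⟨k, u, a, b, c⟩
  choose kk uu hu hu1 hku using hchoice
  let Φ : clsOf A × N → G × {u : A // u ≠ 1} := fun x =>
    (kk x.1 * (x.2 : G),
      ⟨⟨(x.2 : G)⁻¹ * uu x.1 * (x.2 : G), (Subgroup.mem_normalizer_iff''.mp x.2.2 _).mp (hu x.1)⟩,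
        fun e => hu1 x.1 (by
          have := congrArg (fun w : A => (x.2 : G) * (w : G) * (x.2 : G)⁻¹) e
          simpa [mul_assoc] using this)⟩)
  have hΦ : Function.Bijective Φ := by
    constructor
    · rintro ⟨v, n⟩ ⟨v', n'⟩ h
      have e1 : kk v * (n : G) = kk v' * (n' : G) := congrArg Prod.fst h
      have e2 : (n : G)⁻¹ * uu v * n = (n' : G)⁻¹ * uu v' * n' :=
        congrArg (fun x : G × {u : A // u ≠ 1} => ((x.2 : A) : G)) h
      have ev : ∀ (w : clsOf A) (r : G),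
          (w : G) = (kk w * r) * (r⁻¹ * uu w * r) * (kk w * r)⁻¹ := fun w r => by
        rw [← hku w]; simp [mul_assoc]
      obtain rfl : v = v' := Subtype.ext (by rw [ev v n, ev v' n', e1, e2])
      rw [Subtype.ext (mul_left_cancel e1)]
    · rintro ⟨k, ⟨⟨u, huA⟩, hne⟩⟩
      have hne' : u ≠ 1 := fun e => hne (Subtype.ext e)
      let v : clsOf A := ⟨k * u * k⁻¹, k, u, huA, hne', rfl⟩
      set n := (kk v)⁻¹ * k with hn
      have hnu : n * u * n⁻¹ = uu v := by
        have := hku v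
        calc n * u * n⁻¹ = (kk v)⁻¹ * (v : G) * kk v := by simp [hn, v, mul_assoc]
          _ = uu v := by rw [← this]; simp [mul_assoc]
      have hnN : n ∈ N := hTI u huA hne' n (hnu ▸ hu v)
      refine ⟨(v, ⟨n, hnN⟩), Prod.ext ?_ (Subtype.ext (Subtype.ext ?_))⟩
      · show kk v * n = k
        simp [hn]
      · show n⁻¹ * uu v * n = u
        rw [← hnu]; simp [mul_assoc]
  have hcompl : Nat.card {u : A // u ≠ 1} = Nat.card A - 1 := by
    rw [Nat.card_eq_fintype_card, Nat.card_eq_fintype_card, Fintype.card_subtype_compl,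
      Fintype.card_subtype_eq]
  rw [← Nat.card_prod, Nat.card_eq_of_bijective Φ hΦ, Nat.card_prod, hcompl, mul_comm]

end TI

/-- The hypotheses on the elements of odd order. -/
structure OddTori (G : Type u) [Group G] : Prop where
  dich : ∀ x : G, x ≠ 1 → orderOf x ∣ 4 ∨ Odd (orderOf x)
  comm : ∀ x : G, x ≠ 1 → Odd (orderOf x) → ∀ u ∈ Subgroup.centralizer {x},
    ∀ v ∈ Subgroup.centralizer {x}, u * v = v * u
  odd : ∀ x : G, x ≠ 1 → Odd (orderOf x) → Odd (Nat.card (Subgroup.centralizer {x}))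
  five : ∀ x : G, x ≠ 1 → Odd (orderOf x) → 5 ≤ Nat.card (Subgroup.centralizer {x})
  index : ∀ x : G, x ≠ 1 → Odd (orderOf x) → ∃ e, (e = 1 ∨ e = 2 ∨ e = 4) ∧
    Nat.card (Subgroup.normalizer (Subgroup.centralizer {x} : Set G)) =
      e * Nat.card (Subgroup.centralizer {x})

namespace OddTori

variable {G : Type u} [Group G] [Finite G] (h : OddTori G)

/-- A non-identity element of odd order. -/
def IsTor (x : G) : Prop := x ≠ 1 ∧ Odd (orderOf x)

/-- The class of the torus of `x`. -/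
def tcls (x : G) : Set G := clsOf (Subgroup.centralizer {x})

include h

theorem tor_mem {x u : G} (hx : IsTor x) (hu : u ∈ Subgroup.centralizer {x}) (h1 : u ≠ 1) :
    IsTor u :=
  ⟨h1, (h.odd x hx.1 hx.2).of_dvd_nat (Subgroup.orderOf_mk u hu ▸ orderOf_dvd_natCard _)⟩

theorem centralizer_eq {x u : G} (hx : IsTor x) (hu : u ∈ Subgroup.centralizer {x}) (h1 : u ≠ 1) :
    Subgroup.centralizer {u} = Subgroup.centralizer {x} := by
  ext z
  refine ⟨fun hz => ?_, fun hz => ?_⟩
  · rw [Subgroup.mem_centralizer_singleton_iff]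
    exact h.comm u h1 (h.tor_mem hx hu h1).2 z hz x (Subgroup.mem_centralizer_singleton_iff.mpr
      (Subgroup.mem_centralizer_singleton_iff.mp hu).symm)
  · rw [Subgroup.mem_centralizer_singleton_iff]
    exact h.comm x hx.1 hx.2 z hz u hu

omit h in
theorem self_mem {x : G} (hx : IsTor x) : x ∈ tcls x :=
  ⟨1, x, Subgroup.mem_centralizer_singleton_iff.mpr rfl, hx.1, by simp⟩

theorem tcls_tor {x v : G} (hx : IsTor x) (hv : v ∈ tcls x) : IsTor v := by
  obtain ⟨k, u, hu, hu1, rfl⟩ := hv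
  have hu' := h.tor_mem hx hu hu1
  refine ⟨fun e => hu1 ?_, ?_⟩
  · simpa [mul_inv_eq_one, mul_eq_left] using e
  · rw [show k * u * k⁻¹ = MulAut.conj k u from rfl, MulEquiv.orderOf_eq]
    exact hu'.2

omit h in
theorem centralizer_conj' (k g : G) :
    Subgroup.centralizer {k * g * k⁻¹} =
      (Subgroup.centralizer {g}).map (MulAut.conj k).toMonoidHom := by
  ext x
  rw [Subgroup.mem_map_equiv, Subgroup.mem_centralizer_singleton_iff,
    Subgroup.mem_centralizer_singleton_iff, MulAut.conj_symm_apply]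
  constructor
  · intro h
    calc k⁻¹ * x * k * g = k⁻¹ * (x * (k * g * k⁻¹)) * k := by simp [mul_assoc]
      _ = k⁻¹ * (k * g * k⁻¹ * x) * k := by rw [h]
      _ = g * (k⁻¹ * x * k) := by simp [mul_assoc]
  · intro h
    calc x * (k * g * k⁻¹) = k * (k⁻¹ * x * k * g) * k⁻¹ := by simp [mul_assoc]
      _ = k * (g * (k⁻¹ * x * k)) * k⁻¹ := by rw [h]
      _ = k * g * k⁻¹ * x := by simp [mul_assoc]

theorem card_tcls {x : G} (hx : IsTor x) :
    ∃ e, (e = 1 ∨ e = 2 ∨ e = 4) ∧
      Nat.card (Subgroup.normalizer (Subgroup.centralizer {x} : Set G)) =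
        e * Nat.card (Subgroup.centralizer {x}) ∧
      Nat.card (tcls x) * (e * Nat.card (Subgroup.centralizer {x})) =
        (Nat.card (Subgroup.centralizer {x}) - 1) * Nat.card G := by
  obtain ⟨e, he, hN⟩ := h.index x hx.1 hx.2
  refine ⟨e, he, hN, ?_⟩
  rw [← hN]
  refine card_clsOf _ fun u hu hu1 k hk => ?_
  have hmap : (Subgroup.centralizer {x}).map (MulAut.conj k).toMonoidHom =
      Subgroup.centralizer {x} := by
    have hk1 : k * u * k⁻¹ ≠ 1 := fun e => hu1 (by simpa [mul_inv_eq_one, mul_eq_left] using e)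
    conv_lhs => rw [← h.centralizer_eq hx hu hu1, ← centralizer_conj', h.centralizer_eq hx hk hk1]
  refine Subgroup.mem_normalizer_iff.mpr fun z => ?_
  conv_rhs => rw [← hmap]
  rw [Subgroup.mem_map_equiv, MulAut.conj_symm_apply]
  simp [mul_assoc]

theorem tcls_eq {x v : G} (hx : IsTor x) (hv : v ∈ tcls x) : tcls v = tcls x := by
  obtain ⟨k, u, hu, hu1, rfl⟩ := hv
  have hC : Subgroup.centralizer {k * u * k⁻¹} =
      (Subgroup.centralizer {x}).map (MulAut.conj k).toMonoidHom := by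
    rw [centralizer_conj', h.centralizer_eq hx hu hu1]
  ext w
  constructor
  · rintro ⟨l, z, hz, hz1, rfl⟩
    rw [hC] at hz
    obtain ⟨y, hy, rfl⟩ := hz
    exact ⟨l * k, y, hy, fun e => hz1 (by rw [e, map_one]), by simp [mul_assoc]⟩
  · rintro ⟨l, z, hz, hz1, rfl⟩
    refine ⟨l * k⁻¹, k * z * k⁻¹, ?_, fun e => hz1 (by simpa [mul_inv_eq_one, mul_eq_left] using e),
      by simp [mul_assoc]⟩
    rw [hC]
    exact ⟨z, hz, rfl⟩

theorem card_eq_of_mem {x v : G} (hx : IsTor x) (hv : v ∈ tcls x) :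
    Nat.card (Subgroup.centralizer {v}) = Nat.card (Subgroup.centralizer {x}) := by
  obtain ⟨k, u, hu, hu1, rfl⟩ := hv
  rw [centralizer_conj', h.centralizer_eq hx hu hu1]
  exact Subgroup.card_map_of_injective (MulAut.conj k).injective

theorem sylow_le {x y : G} {p : ℕ} [Fact p.Prime] (hx : IsTor x)
    (hy : y ∈ Subgroup.centralizer {x}) (hy1 : y ≠ 1) (P : Sylow p G) (hyP : y ∈ P) :
    (P : Subgroup G) ≤ Subgroup.centralizer {x} := by
  have : Nontrivial (P : Subgroup G) := ⟨⟨⟨y, hyP⟩, 1, fun e => hy1 (congrArg Subtype.val e)⟩⟩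
  have := P.isPGroup'.center_nontrivial
  obtain ⟨z, hz⟩ := exists_ne (1 : Subgroup.center (P : Subgroup G))
  have hz1 : ((z : (P : Subgroup G)) : G) ≠ 1 := fun e => hz (Subtype.ext (Subtype.ext e))
  have hc : ∀ w ∈ P, w * (z : (P : Subgroup G)) = ((z : (P : Subgroup G)) : G) * w := fun w hw =>
    congrArg Subtype.val (Subgroup.mem_center_iff.mp z.2 ⟨w, hw⟩)
  have hzy : ((z : (P : Subgroup G)) : G) ∈ Subgroup.centralizer {y} :=
    Subgroup.mem_centralizer_singleton_iff.mpr (hc y hyP).symm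
  intro w hw
  rw [← h.centralizer_eq hx hy hy1, ← h.centralizer_eq (h.tor_mem hx hy hy1) hzy hz1]
  exact Subgroup.mem_centralizer_singleton_iff.mpr (hc w hw)

theorem coprime {x y : G} (hx : IsTor x) (hy : IsTor y) (hn : y ∉ tcls x) :
    (Nat.card (Subgroup.centralizer {x})).Coprime (Nat.card (Subgroup.centralizer {y})) := by
  refine Nat.coprime_of_dvd fun p hp h1 h2 => hn ?_
  have := Fact.mk hp
  have hP : ∀ z : G, IsTor z → p ∣ Nat.card (Subgroup.centralizer {z}) →
      ∃ (P : Sylow p G) (u : G), u ∈ P ∧ u ≠ 1 ∧ (P : Subgroup G) ≤ Subgroup.centralizer {z} := by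
    intro z hz hd
    obtain ⟨⟨u, hu⟩, ho⟩ := exists_prime_orderOf_dvd_card' p hd
    rw [Subgroup.orderOf_mk] at ho
    have hu1 : u ≠ 1 := fun e => hp.ne_one (by rw [← ho, e, orderOf_one])
    obtain ⟨P, hP⟩ := (IsPGroup.of_card (n := 1) (by rw [Nat.card_zpowers, ho, pow_one]) :
      IsPGroup p (Subgroup.zpowers u)).exists_le_sylow
    exact ⟨P, u, hP (Subgroup.mem_zpowers u), hu1,
      h.sylow_le hz hu hu1 P (hP (Subgroup.mem_zpowers u))⟩
  obtain ⟨P, u, huP, hu1, hPle⟩ := hP x hx h1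
  obtain ⟨Q, -, -, -, hQle⟩ := hP y hy h2
  obtain ⟨k, hk⟩ := MulAction.exists_smul_eq G P Q
  have hv : k * u * k⁻¹ ∈ Subgroup.centralizer {y} := hQle (by
    rw [← hk, Sylow.coe_subgroup_smul]
    exact ⟨u, huP, rfl⟩)
  have hv1 : k * u * k⁻¹ ≠ 1 := fun e => hu1 (by simpa [mul_inv_eq_one, mul_eq_left] using e)
  have hmap : Subgroup.centralizer {y} = (Subgroup.centralizer {x}).map (MulAut.conj k).toMonoidHom := by
    rw [← h.centralizer_eq hy hv hv1, centralizer_conj', h.centralizer_eq hx (hPle huP) hu1]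
  obtain ⟨w, hw, hwe⟩ := (hmap ▸ Subgroup.mem_centralizer_singleton_iff.mpr rfl :
    y ∈ (Subgroup.centralizer {x}).map (MulAut.conj k).toMonoidHom)
  exact ⟨k, w, hw, fun e => hy.1 (by rw [← hwe, e, map_one]), hwe⟩

theorem disjoint {x y : G} (hx : IsTor x) (hy : IsTor y) (hn : y ∉ tcls x) :
    Disjoint (tcls x) (tcls y) := by
  rw [Set.disjoint_left]
  intro v hv hv'
  have hc := h.coprime hx hy hn
  rw [← h.card_eq_of_mem hx hv, ← h.card_eq_of_mem hy hv', Nat.coprime_self] at hc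
  have := h.five v (h.tcls_tor hx hv).1 (h.tcls_tor hx hv).2
  omega

theorem five_card_tcls {x : G} (hx : IsTor x) : Nat.card G ≤ 5 * Nat.card (tcls x) := by
  obtain ⟨e, he, -, hc⟩ := h.card_tcls hx
  have h5 := h.five x hx.1 hx.2
  generalize Nat.card (Subgroup.centralizer {x}) = a at hc h5
  obtain ⟨b, rfl⟩ : ∃ b, a = b + 1 := ⟨a - 1, by omega⟩
  rw [Nat.add_sub_cancel] at hc
  have : e ≤ 4 := by omega
  have h' : b * Nat.card G ≤ Nat.card (tcls x) * (4 * (b + 1)) := hc ▸ by gcongr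
  nlinarith

omit h in
theorem card_two_union {s t : Set G} (hd : Disjoint s t) :
    Nat.card (s ∪ t : Set G) = Nat.card s + Nat.card t := by
  rw [Nat.card_coe_set_eq, Nat.card_coe_set_eq, Nat.card_coe_set_eq, Set.ncard_union_eq hd]

/-- A small union of classes consists of at most two of them. -/
theorem few_classes {D : Set G} (hD : ∀ v ∈ D, IsTor v ∧ tcls v ⊆ D)
    (hlt : 2 * Nat.card D < Nat.card G) :
    D = ∅ ∨ (∃ x, IsTor x ∧ D = tcls x) ∨
      ∃ x y, IsTor x ∧ IsTor y ∧ y ∉ tcls x ∧ D = tcls x ∪ tcls y ∧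
        Nat.card D = Nat.card (tcls x) + Nat.card (tcls y) := by
  rcases D.eq_empty_or_nonempty with hE | ⟨x, hx⟩
  · exact Or.inl hE
  obtain ⟨hxt, hxs⟩ := hD x hx
  refine Or.inr ?_
  by_cases hall : D ⊆ tcls x
  · exact Or.inl ⟨x, hxt, Set.Subset.antisymm hall hxs⟩
  obtain ⟨y, hy, hyn⟩ := Set.not_subset.mp hall
  obtain ⟨hyt, hys⟩ := hD y hy
  refine Or.inr ⟨x, y, hxt, hyt, hyn, ?_⟩
  have heq : D = tcls x ∪ tcls y := by
    refine Set.Subset.antisymm (fun z hz => ?_) (Set.union_subset hxs hys)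
    by_contra hzn
    simp only [Set.mem_union, not_or] at hzn
    obtain ⟨hzt, hzs⟩ := hD z hz
    have hle : Nat.card (tcls x ∪ tcls y ∪ tcls z : Set G) ≤ Nat.card D :=
      Nat.card_mono (Set.toFinite _) (Set.union_subset (Set.union_subset hxs hys) hzs)
    rw [card_two_union (Set.disjoint_union_left.mpr ⟨h.disjoint hxt hzt hzn.1,
      h.disjoint hyt hzt hzn.2⟩), card_two_union (h.disjoint hxt hyt hyn)] at hle
    have := h.five_card_tcls hxt
    have := h.five_card_tcls hyt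
    have := h.five_card_tcls hzt
    omega
  exact ⟨heq, by rw [← card_two_union (h.disjoint hxt hyt hyn), ← heq]⟩

/-- Identity, 2-elements, elements of odd order. -/
theorem card_split :
    1 + Nat.card {x : G | x ≠ 1 ∧ orderOf x ∣ 4} + Nat.card {x : G | IsTor x} = Nat.card G := by
  classical
  have hd : Disjoint {x : G | x ≠ 1 ∧ orderOf x ∣ 4} {x : G | IsTor x} := by
    rw [Set.disjoint_left]
    rintro x ⟨hx, h4⟩ ⟨-, ho⟩
    obtain ⟨j, hj, e⟩ := (Nat.dvd_prime_pow Nat.prime_two).mp (show orderOf x ∣ 2 ^ 2 from h4)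
    rcases j with _ | j
    · exact hx (orderOf_eq_one_iff.mp (by rw [e, pow_zero]))
    · rw [e, pow_succ] at ho
      exact Nat.not_even_iff_odd.mpr ho (even_two.mul_left _)
  rw [add_assoc, ← card_two_union hd,
    show {x : G | x ≠ 1 ∧ orderOf x ∣ 4} ∪ {x : G | IsTor x} = {(1 : G)}ᶜ from ?_,
    Nat.card_coe_set_eq, add_comm, ← Set.ncard_compl_add_ncard ({1} : Set G), Set.ncard_singleton]
  ext x
  simp only [Set.mem_union, Set.mem_setOf_eq, Set.mem_compl_iff, Set.mem_singleton_iff]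
  refine ⟨?_, fun hx => ?_⟩
  · rintro (⟨hx, -⟩ | ⟨hx, -⟩) <;> exact hx
  · rcases h.dich x hx with h4 | ho
    · exact Or.inl ⟨hx, h4⟩
    · exact Or.inr ⟨hx, ho⟩

/-- A group of odd order with these properties is the centraliser of an element. -/
theorem odd_group (hodd : Odd (Nat.card G)) (hne : Nat.card G ≠ 1) :
    ∃ x : G, IsTor x ∧ Subgroup.centralizer {x} = ⊤ := by
  have : Nontrivial G := Finite.one_lt_card_iff_nontrivial.mp (by
    have := Nat.card_pos (α := G); omega)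
  obtain ⟨x, hx1⟩ := exists_ne (1 : G)
  have hx : IsTor x := ⟨hx1, hodd.of_dvd_nat (orderOf_dvd_natCard x)⟩
  refine ⟨x, hx, ?_⟩
  obtain ⟨e, he, hN, hc⟩ := h.card_tcls hx
  have h5 := h.five x hx.1 hx.2
  have he1 : e = 1 := by
    have hd : e ∣ Nat.card G := (Dvd.intro _ hN.symm).trans (Subgroup.card_subgroup_dvd_card _)
    rcases he with rfl | rfl | rfl
    · rfl
    · exact absurd (hodd.of_dvd_nat hd) (by decide)
    · exact absurd (hodd.of_dvd_nat hd) (by decide)
  subst he1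
  have hall : ∀ y : G, y ≠ 1 → y ∈ tcls x := by
    intro y hy1
    by_contra hyn
    have hy : IsTor y := ⟨hy1, hodd.of_dvd_nat (orderOf_dvd_natCard y)⟩
    obtain ⟨e', he', hN', hc'⟩ := h.card_tcls hy
    have hd : e' ∣ Nat.card G := (Dvd.intro _ hN'.symm).trans (Subgroup.card_subgroup_dvd_card _)
    have h5' := h.five y hy.1 hy.2
    have he1' : e' = 1 := by
      rcases he' with rfl | rfl | rfl
      · rfl
      · exact absurd (hodd.of_dvd_nat hd) (by decide)
      · exact absurd (hodd.of_dvd_nat hd) (by decide)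
    subst he1'
    have hle : Nat.card (tcls x ∪ tcls y : Set G) ≤ Nat.card G :=
      Finite.card_subtype_le _
    rw [card_two_union (h.disjoint hx hy hyn)] at hle
    generalize Nat.card (Subgroup.centralizer {x}) = a at hc h5
    generalize Nat.card (Subgroup.centralizer {y}) = b at hc' h5'
    obtain ⟨a', rfl⟩ : ∃ a', a = a' + 1 := ⟨a - 1, by omega⟩
    obtain ⟨b', rfl⟩ : ∃ b', b = b' + 1 := ⟨b - 1, by omega⟩
    simp only [Nat.add_sub_cancel, one_mul] at hc hc'
    have := Nat.card_pos (α := G)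
    nlinarith
  have hset : tcls x = {(1 : G)}ᶜ := by
    ext y
    refine ⟨fun hy => (h.tcls_tor hx hy).1, hall y⟩
  have h1 : Nat.card (tcls x) + 1 = Nat.card G := by
    rw [hset, Nat.card_coe_set_eq, ← Set.ncard_compl_add_ncard ({1} : Set G), Set.ncard_singleton]
  refine Subgroup.eq_top_of_card_eq _ ?_
  generalize Nat.card (Subgroup.centralizer {x}) = a at hc h5
  obtain ⟨a', rfl⟩ : ∃ a', a = a' + 1 := ⟨a - 1, by omega⟩
  simp only [Nat.add_sub_cancel, one_mul] at hc
  nlinarith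

end OddTori

/-- The arithmetic excluding large orbits in the full case. -/
theorem no_large_orbit {s a b r : ℕ} (hs : 8 ≤ s) (hse : 2 ∣ s) (hr : 1 < r) (ha : Odd a) (hb : Odd b)
    (hab : a * b = r) (hle : a ≤ b)
    (heq : (a + b) * (s ^ 2 * (s - 1)) = 2 * r * (s ^ 2 - 2) + 4) : r = s ^ 2 + 1 := by
  obtain ⟨s', rfl⟩ := hse
  have hs2 : 2 ≤ (2 * s') ^ 2 := by nlinarith
  have e0 := congrArg (Nat.cast : ℕ → ℤ) heq
  push_cast [Nat.cast_sub hs2, Nat.cast_sub (show 1 ≤ 2 * s' by omega)] at e0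
  set S : ℤ := (a : ℤ) + b
  set t : ℤ := 2 * (s' : ℤ) - 1
  set j : ℤ := 2 * (r : ℤ) - S * t with hjdef
  set k : ℤ := j * (2 * s' + 1) - 2 * S with hkdef
  have hr1 : (r : ℤ) - 1 = (s' : ℤ) ^ 2 * j := by
    simp only [hjdef, t, S]
    linarith [show 4 * (s' : ℤ) ^ 2 * (((a : ℤ) + b) * (2 * s' - 1)) = 2 * r * (4 * (s' : ℤ) ^ 2 - 2) + 4 by linear_combination e0]
  have hj : j = 4 + t * k := by
    have h1 : j = 2 + 2 * (s' : ℤ) ^ 2 * j - S * t := by linear_combination hjdef + 2 * hr1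
    simp only [hkdef, t]
    linear_combination (2 : ℤ) * h1
  have hjpos : 0 < j := by
    by_contra hneg
    push Not at hneg
    have : (s' : ℤ) ^ 2 * j ≤ 0 := mul_nonpos_of_nonneg_of_nonpos (sq_nonneg _) hneg
    have : (2 : ℤ) ≤ r := by exact_mod_cast hr
    linarith
  have hk : 0 ≤ k := by
    by_contra hneg
    push Not at hneg
    have : t * k ≤ t * (-1) := mul_le_mul_of_nonneg_left (by linarith) (by simp only [t]; linarith)
    have : (4 : ℤ) ≤ (s' : ℤ) := by exact_mod_cast (show 4 ≤ s' by omega)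
    simp only [t] at *
    linarith
  rcases eq_or_lt_of_le hk with hk0 | hk1
  · have : (r : ℤ) = (2 * (s' : ℤ)) ^ 2 + 1 := by
      rw [← hk0, mul_zero, add_zero] at hj
      rw [hj] at hr1
      linear_combination hr1
    exact_mod_cast this
  exfalso
  have hS : 2 * S = 4 * (2 * (s' : ℤ) + 1) + k * (4 * (s' : ℤ) ^ 2 - 2) := by
    have := hkdef
    rw [hj] at this
    simp only [t] at this
    linear_combination this
  have hP : (a : ℤ) * b = 1 + (s' : ℤ) ^ 2 * (4 + (2 * (s' : ℤ) - 1) * k) := by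
    have : ((a * b : ℕ) : ℤ) = r := by rw [hab]
    push_cast at this
    rw [hj] at hr1
    simp only [t] at hr1
    linear_combination this + hr1
  have hle' : (a : ℤ) ≤ b := by exact_mod_cast hle
  have hs4 : (4 : ℤ) ≤ (s' : ℤ) := by exact_mod_cast (show 4 ≤ s' by omega)
  rcases lt_trichotomy (a : ℤ) s' with hlt | heq' | hgt
  · -- too small
    have h2a : 2 * (a : ℤ) + 1 ≤ 2 * s' := by linarith
    nlinarith [mul_nonneg (show (0 : ℤ) ≤ 2 * s' - 1 - 2 * a by linarith)
      (show (0 : ℤ) ≤ (b : ℤ) - a by linarith)]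
  · have hodd : Odd a := ha
    have : a = s' := by exact_mod_cast heq'
    subst this
    have : (a : ℤ) * S - (a : ℤ) ^ 2 = 1 + (a : ℤ) ^ 2 * (4 + (2 * (a : ℤ) - 1) * k) := by
      simp only [S]; linear_combination hP
    have hdiv : (a : ℤ) ∣ 1 := ⟨S - a - a * (4 + (2 * (a : ℤ) - 1) * k), by linear_combination -this⟩
    have := Int.le_of_dvd one_pos hdiv
    linarith
  · -- too large
    nlinarith [mul_nonneg (show (0 : ℤ) ≤ (a : ℤ) - (s' + 1) by linarith)
      (show (0 : ℤ) ≤ (b : ℤ) - a by linarith)]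

end Cfsg.Agent.Suzuki
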