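import Cfsg.Agent.Suzuki.DegreeValues

/-!
Products of two conjugates, from the character table of a Suzuki group.
-/

set_option autoImplicit false
set_option maxHeartbeats 800000

open scoped ComplexConjugate

namespace Cfsg.Agent.Suzuki.Degree

open Cfsg.Agent.Char

universe u

variable {G : Type u} [Group G] [Fintype G] {one st : IrrCharacter G} {r : ℕ} {K₀ Kp Km : Subgroup G}

theorem am_gm {ι : Type*} (s : Finset ι) (f : ι → ℂ) {M : ℝ} (h : ∑ i ∈ s, ‖f i‖ ^ 2 = M)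
    (hM : M ≤ 4 * s.card) : ∑ i ∈ s, ‖f i‖ ≤ 2 * s.card := by
  calc ∑ i ∈ s, ‖f i‖ ≤ ∑ i ∈ s, (‖f i‖ ^ 2 / 4 + 1) :=
        Finset.sum_le_sum fun i _ => by nlinarith [sq_nonneg (‖f i‖ - 2)]
    _ = M / 4 + s.card := by
        rw [Finset.sum_add_distrib, ← Finset.sum_div, h, Finset.sum_const, nsmul_eq_mul, mul_one]
    _ ≤ 2 * s.card := by linarith

theorem norm_le_of_sq {ι : Type*} (s : Finset ι) (f : ι → ℂ) {M c : ℝ}
    (h : ∑ i ∈ s, ‖f i‖ ^ 2 = M) (hc : M ≤ c ^ 2) (hc0 : 0 ≤ c) {i : ι} (hi : i ∈ s) : ‖f i‖ ≤ c := by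
  have h1 : ‖f i‖ ^ 2 ≤ c ^ 2 :=
    ((Finset.single_le_sum (f := fun i => ‖f i‖ ^ 2) (fun j _ => sq_nonneg _) hi).trans h.le).trans hc
  exact (pow_le_pow_iff_left₀ (norm_nonneg _) hc0 two_ne_zero).1 h1

theorem clear_dens {C X Y Q A M : ℂ} (hY : Y ≠ 0) (hQ : Q ≠ 0) (hA : A ≠ 0)
    (h : 1 + M * X / (Q * A) + C / (Y * Q) = 0) : Y * Q * A + Y * M * X + C * A = 0 := by
  field_simp at h
  linear_combination h

section

variable (D : Data one st r K₀ Kp Km) (t : Table one st r K₀ Kp Km) (hr : 2 ≤ r)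

include D t hr

omit hr in
/-- A bound on the nontrivial summands gives a product of two conjugates. -/
theorem covers_of_bound {x g : G}
    (h : ‖(st : G → ℂ) x‖ ^ 2 * ‖(st : G → ℂ) g‖ / (4 * (r : ℝ) ^ 4) +
      (∑ χ ∈ t.E₀, ‖(χ : G → ℂ) x‖ ^ 2 * ‖(χ : G → ℂ) g‖) / (4 * (r : ℝ) ^ 4 + 1) +
      (∑ χ ∈ t.Ep, ‖(χ : G → ℂ) x‖ ^ 2 * ‖(χ : G → ℂ) g‖) /
        |(2 * (r : ℝ) ^ 2 - 1) * (2 * (r : ℝ) ^ 2 - 2 * r + 1)| +
      (∑ χ ∈ t.Em, ‖(χ : G → ℂ) x‖ ^ 2 * ‖(χ : G → ℂ) g‖) /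
        |(2 * (r : ℝ) ^ 2 - 1) * (2 * (r : ℝ) ^ 2 + 2 * r + 1)| +
      (‖(t.w₁ : G → ℂ) x‖ ^ 2 * ‖(t.w₁ : G → ℂ) g‖ + ‖(t.w₂ : G → ℂ) x‖ ^ 2 * ‖(t.w₂ : G → ℂ) g‖) /
        |(r : ℝ) * (2 * (r : ℝ) ^ 2 - 1)| < 1) : Covers x g := by
  refine covers_of_sum_ne fun h0 => ?_
  obtain ⟨dst, d0, dp, dm, dw⟩ := t.degs D
  set φ := fun χ : IrrCharacter G =>
    (χ : G → ℂ) x * (χ : G → ℂ) x * conj ((χ : G → ℂ) g) / (χ : G → ℂ) 1
  rw [t.decomp φ] at h0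
  have h1 : φ one = 1 := by simp [φ, D.hone]
  rw [h1] at h0
  have hn : ∀ χ, ∀ d : ℝ, (χ : IrrCharacter G).1 1 = (d : ℂ) →
      ‖φ χ‖ = ‖(χ : G → ℂ) x‖ ^ 2 * ‖(χ : G → ℂ) g‖ / |d| := fun χ d hd => by
    simp only [φ, norm_div, norm_mul, Complex.norm_conj, hd, Complex.norm_real, Real.norm_eq_abs,
      pow_two]
  have hfam : ∀ (E : Finset (IrrCharacter G)) (d : ℝ), (∀ χ ∈ E, (χ : G → ℂ) 1 = (d : ℂ)) →
      ‖∑ χ ∈ E, φ χ‖ ≤ (∑ χ ∈ E, ‖(χ : G → ℂ) x‖ ^ 2 * ‖(χ : G → ℂ) g‖) / |d| := fun E d hd => by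
    rw [Finset.sum_div]
    exact (norm_sum_le _ _).trans (Finset.sum_le_sum fun χ hχ => (hn χ d (hd χ hχ)).le)
  have e1 := hn st (4 * (r : ℝ) ^ 4) (by rw [dst]; push_cast; rfl)
  have e2 := hfam t.E₀ (4 * (r : ℝ) ^ 4 + 1) (fun χ hχ => by rw [d0 χ hχ]; push_cast; rfl)
  have e3 := hfam t.Ep _ (fun χ hχ => by
    rw [dp χ hχ]
    show _ = (((2 * (r : ℝ) ^ 2 - 1) * (2 * (r : ℝ) ^ 2 - 2 * r + 1) : ℝ) : ℂ)
    push_cast; rfl)
  have e4 := hfam t.Em _ (fun χ hχ => by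
    rw [dm χ hχ]
    show _ = (((2 * (r : ℝ) ^ 2 - 1) * (2 * (r : ℝ) ^ 2 + 2 * r + 1) : ℝ) : ℂ)
    push_cast; rfl)
  have e5 := hn t.w₁ ((r : ℝ) * (2 * (r : ℝ) ^ 2 - 1)) (by rw [dw _ (Or.inl rfl)]; push_cast; rfl)
  have e6 := hn t.w₂ ((r : ℝ) * (2 * (r : ℝ) ^ 2 - 1)) (by rw [dw _ (Or.inr rfl)]; push_cast; rfl)
  have hrest : φ st + ∑ χ ∈ t.E₀, φ χ + ∑ χ ∈ t.Ep, φ χ + ∑ χ ∈ t.Em, φ χ +
      (φ t.w₁ + φ t.w₂) = -1 := by linear_combination h0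
  have hb := congrArg (‖·‖) hrest
  simp only [norm_neg, norm_one] at hb
  have := hb ▸ (norm_add_le _ _).trans (add_le_add ((norm_add_le _ _).trans (add_le_add
    ((norm_add_le _ _).trans (add_le_add (norm_add_le _ _) le_rfl)) le_rfl)) (norm_add_le _ _))
  rw [abs_of_nonneg (by positivity : (0 : ℝ) ≤ 4 * (r : ℝ) ^ 4)] at e1
  rw [abs_of_nonneg (by positivity : (0 : ℝ) ≤ 4 * (r : ℝ) ^ 4 + 1)] at e2
  rw [add_div] at h
  linarith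

omit D t in
theorem denoms : (0 : ℝ) < 2 * (r : ℝ) ^ 2 - 1 ∧ (0 : ℝ) < 2 * (r : ℝ) ^ 2 - 2 * r + 1 := by
  have hR : (2 : ℝ) ≤ r := by exact_mod_cast hr
  constructor <;> nlinarith

omit t in
/-- Real torus elements. -/
theorem real_of_torus {a : G} (ha : a ∈ K₀ ∨ a ∈ Kp ∨ a ∈ Km) : IsConj a a⁻¹ := by
  obtain ⟨o0, op, om⟩ := odd_cards D hr
  rcases ha with h | h | h
  · exact D.t₀.real dvd_rfl o0 h
  · exact D.tp.real (by norm_num) op h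
  · exact D.tm.real (by norm_num) om h

/-- The sum for a torus element and an element off the tori. -/
theorem two_sum {x g : G} (hx : IsConj x x⁻¹) (hg : TwoEl st K₀ Kp Km g) :
    ∑ χ : IrrCharacter G, (χ : G → ℂ) x * (χ : G → ℂ) x * conj ((χ : G → ℂ) g) / (χ : G → ℂ) 1 =
      1 + ((∑ χ ∈ t.E₀, ‖(χ : G → ℂ) x‖ ^ 2 : ℝ) : ℂ) / (4 * (r : ℂ) ^ 4 + 1) +
      ((∑ χ ∈ t.Ep, ‖(χ : G → ℂ) x‖ ^ 2 : ℝ) : ℂ) * (-1 - conj (t.B g)) /
        ((2 * (r : ℂ) ^ 2 - 1) * (2 * (r : ℂ) ^ 2 - 2 * r + 1)) +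
      ((∑ χ ∈ t.Em, ‖(χ : G → ℂ) x‖ ^ 2 : ℝ) : ℂ) * (conj (t.B g) - 1) /
        ((2 * (r : ℂ) ^ 2 - 1) * (2 * (r : ℂ) ^ 2 + 2 * r + 1)) +
      (((‖(t.w₁ : G → ℂ) x‖ ^ 2 : ℝ) : ℂ) * conj ((t.w₁ : G → ℂ) g) +
        ((‖(t.w₂ : G → ℂ) x‖ ^ 2 : ℝ) : ℂ) * conj ((t.w₂ : G → ℂ) g)) /
        ((r : ℂ) * (2 * (r : ℂ) ^ 2 - 1)) := by
  obtain ⟨v0, vp, vm⟩ := t.two_values D hr hg
  obtain ⟨-, d0, dp, dm, dw⟩ := t.degs D
  simp only [sq_eq_norm hx]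
  rw [t.decomp, D.hone, D.hone, D.hone, hg.zero, dw _ (Or.inl rfl), dw _ (Or.inr rfl),
    Complex.ofReal_sum, Complex.ofReal_sum, Complex.ofReal_sum, Finset.sum_mul, Finset.sum_mul,
    Finset.sum_div, Finset.sum_div, Finset.sum_div,
    Finset.sum_congr rfl (fun (χ : IrrCharacter G) hχ => show
      ((‖(χ : G → ℂ) x‖ ^ 2 : ℝ) : ℂ) * conj ((χ : G → ℂ) g) / (χ : G → ℂ) 1 =
      ((‖(χ : G → ℂ) x‖ ^ 2 : ℝ) : ℂ) / (4 * (r : ℂ) ^ 4 + 1) by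
        rw [v0 χ hχ, d0 χ hχ, map_one, mul_one]) (s₁ := t.E₀),
    Finset.sum_congr rfl (fun (χ : IrrCharacter G) hχ => show
      ((‖(χ : G → ℂ) x‖ ^ 2 : ℝ) : ℂ) * conj ((χ : G → ℂ) g) / (χ : G → ℂ) 1 =
      ((‖(χ : G → ℂ) x‖ ^ 2 : ℝ) : ℂ) * (-1 - conj (t.B g)) /
        ((2 * (r : ℂ) ^ 2 - 1) * (2 * (r : ℂ) ^ 2 - 2 * r + 1)) by
        rw [vp χ hχ, dp χ hχ, map_sub, map_neg, map_one]) (s₁ := t.Ep),
    Finset.sum_congr rfl (fun (χ : IrrCharacter G) hχ => show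
      ((‖(χ : G → ℂ) x‖ ^ 2 : ℝ) : ℂ) * conj ((χ : G → ℂ) g) / (χ : G → ℂ) 1 =
      ((‖(χ : G → ℂ) x‖ ^ 2 : ℝ) : ℂ) * (conj (t.B g) - 1) /
        ((2 * (r : ℂ) ^ 2 - 1) * (2 * (r : ℂ) ^ 2 + 2 * r + 1)) by
        rw [vm χ hχ, dm χ hχ, map_sub, map_one]) (s₁ := t.Em)]
  simp [add_div]

/-- A torus element and an element off the tori. -/
theorem covers_torus_two {x g : G} (hx : x ∈ K₀ ∨ x ∈ Kp ∨ x ∈ Km) (h1 : x ≠ 1)
    (hg : TwoEl st K₀ Kp Km g)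
    (hc : (Nat.card (Subgroup.centralizer ({g} : Set G)) : ℝ) ≤ 4 * (r : ℝ) ^ 4) : Covers x g := by
  refine covers_of_sum_ne ?_
  rw [two_sum D t hr (real_of_torus D hr hx) hg]
  set R : ℝ := (r : ℝ) with hR
  have hR2 : 2 ≤ R := by rw [hR]; exact_mod_cast hr
  obtain ⟨hQ, hA⟩ := denoms (r := r) hr
  obtain ⟨c₀, cp, cm⟩ := Table.reals D hr
  obtain ⟨k₀, kp, km⟩ := t.cardsR
  obtain ⟨hr0, hQc, hmc, hpc, h0c⟩ := degs_ne D hr
  have hnorm := t.two_norm D hr hg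
  have real_case : ∀ s : ℝ, conj (t.B g) = (s : ℂ) → R ^ 2 + t.Ep.card * (1 + s) ^ 2 +
      t.Em.card * (s - 1) ^ 2 ≤ 4 * R ^ 4 := by
    intro s hs
    have hB : t.B g = (s : ℂ) := by
      have := congrArg conj hs
      simpa using this
    rw [hB] at hnorm
    have e1 : ‖(-1 : ℂ) - (s : ℂ)‖ ^ 2 = (1 + s) ^ 2 := by
      rw [show (-1 : ℂ) - (s : ℂ) = ((-1 - s : ℝ) : ℂ) by push_cast; ring, Complex.norm_real,
        Real.norm_eq_abs, sq_abs]; ring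
    have e2 : ‖(s : ℂ) - 1‖ ^ 2 = (s - 1) ^ 2 := by
      rw [show (s : ℂ) - 1 = ((s - 1 : ℝ) : ℂ) by push_cast; ring, Complex.norm_real,
        Real.norm_eq_abs, sq_abs]
    rw [e1, e2, ← hR] at hnorm
    have : 0 ≤ ‖(t.w₁ : G → ℂ) g‖ ^ 2 + ‖(t.w₂ : G → ℂ) g‖ ^ 2 := by positivity
    linarith
  rcases hx with hx | hx | hx
  · obtain ⟨-, m2⟩ := t.moments₀ D hr hx h1
    rw [m2, c₀, Finset.sum_eq_zero (fun χ hχ => by rw [t.zero₀ x hx h1 χ (Or.inl hχ)]; simp) (s := t.Ep),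
      Finset.sum_eq_zero (fun χ hχ => by rw [t.zero₀ x hx h1 χ (Or.inr (Or.inl hχ))]; simp)
        (s := t.Em),
      t.zero₀ x hx h1 t.w₁ (by tauto), t.zero₀ x hx h1 t.w₂ (by tauto)]
    simp
    have h0 : (1 : ℝ) + (2 * R ^ 2 - 1 - 2) / (4 * R ^ 4 + 1) ≠ 0 := by
      have : 0 ≤ (2 * R ^ 2 - 1 - 2) / (4 * R ^ 4 + 1) := div_nonneg (by nlinarith) (by positivity)
      linarith
    rw [hR] at h0
    intro h
    refine h0 ?_
    have h' : ((1 + (2 * (r : ℝ) ^ 2 - 1 - 2) / (4 * (r : ℝ) ^ 4 + 1) : ℝ) : ℂ) = ((0 : ℝ) : ℂ) := by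
      push_cast
      linear_combination h
    exact Complex.ofReal_inj.1 h'
  · obtain ⟨-, m2, w1, w2⟩ := t.momentsp D hr hx h1
    rw [m2, cp, w1, w2,
      Finset.sum_eq_zero (fun χ hχ => by rw [t.zerop x hx h1 χ (Or.inl hχ)]; simp) (s := t.E₀),
      Finset.sum_eq_zero (fun χ hχ => by rw [t.zerop x hx h1 χ (Or.inr hχ)]; simp) (s := t.Em)]
    intro h
    simp only [norm_one, one_pow, Complex.ofReal_zero, Complex.ofReal_one, zero_div, zero_mul,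
      add_zero, one_mul, ← map_add] at h
    rw [← Table.B] at h
    set den : ℝ := R * (2 * R ^ 2 + 2 * R - 3) - (2 * R ^ 2 - 2 * R + 1) with hden
    set num : ℝ := R * ((2 * R ^ 2 - 1) * (2 * R ^ 2 - 2 * R + 1) - (2 * R ^ 2 + 2 * R - 3)) with hnum
    have hden0 : 0 < den := by rw [hden]; nlinarith
    have hs : conj (t.B g) = ((num / den : ℝ) : ℂ) := by
      rw [Complex.ofReal_div, eq_div_iff (Complex.ofReal_ne_zero.2 hden0.ne'), hden, hnum, hR]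
      have h' := clear_dens hr0 hQc hmc h
      push_cast at h' ⊢
      linear_combination -h'
    have h2 := real_case _ hs
    have hs2 : 2 * R ≤ num / den := by
      rw [le_div_iff₀ hden0, hden, hnum]
      nlinarith [mul_le_mul_of_nonneg_right hR2 (by positivity : (0 : ℝ) ≤ R ^ 3)]
    rw [show (t.Ep.card : ℝ) = (R ^ 2 + R) / 2 by linarith,
      show (t.Em.card : ℝ) = (R ^ 2 - R) / 2 by linarith] at h2
    nlinarith [mul_self_le_mul_self (by positivity) hs2,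
      mul_le_mul_of_nonneg_left hs2 (by positivity : (0 : ℝ) ≤ R)]
  · obtain ⟨-, m2, w1, w2⟩ := t.momentsm D hr hx h1
    rw [m2, cm, w1, w2,
      Finset.sum_eq_zero (fun χ hχ => by rw [t.zerom x hx h1 χ (Or.inl hχ)]; simp) (s := t.E₀),
      Finset.sum_eq_zero (fun χ hχ => by rw [t.zerom x hx h1 χ (Or.inr hχ)]; simp) (s := t.Ep)]
    intro h
    simp only [norm_neg, norm_one, one_pow, Complex.ofReal_zero, Complex.ofReal_one, zero_div,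
      zero_mul, add_zero, one_mul, ← map_add] at h
    rw [← Table.B] at h
    set den : ℝ := R * (2 * R ^ 2 - 2 * R - 3) + (2 * R ^ 2 + 2 * R + 1) with hden
    set num : ℝ := R * ((2 * R ^ 2 - 1) * (2 * R ^ 2 + 2 * R + 1) - (2 * R ^ 2 - 2 * R - 3)) with hnum
    have hden0 : 0 < den := by rw [hden]; nlinarith
    have hs : conj (t.B g) = ((-(num / den) : ℝ) : ℂ) := by
      rw [Complex.ofReal_neg, Complex.ofReal_div, ← neg_div,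
        eq_div_iff (Complex.ofReal_ne_zero.2 hden0.ne'), hden, hnum, hR]
      have h' := clear_dens hr0 hQc hpc h
      push_cast at h' ⊢
      linear_combination h'
    have h2 := real_case _ hs
    have hs2 : 2 * R + 1 ≤ num / den := by
      rw [le_div_iff₀ hden0, hden, hnum]
      nlinarith [mul_le_mul_of_nonneg_right hR2 (by positivity : (0 : ℝ) ≤ R ^ 4),
        mul_le_mul_of_nonneg_right hR2 (by positivity : (0 : ℝ) ≤ R ^ 3)]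
    rw [show (t.Ep.card : ℝ) = (R ^ 2 + R) / 2 by linarith,
      show (t.Em.card : ℝ) = (R ^ 2 - R) / 2 by linarith] at h2
    have h3 : 2 * R ^ 2 + R - 1 ≤ R * (num / den) - 1 := by
      nlinarith [mul_le_mul_of_nonneg_left hs2 (by positivity : (0 : ℝ) ≤ R)]
    nlinarith [mul_self_le_mul_self (by nlinarith) h3]

/-- Two torus elements. -/
theorem covers_torus_torus {x g : G} (hx : x ∈ K₀ ∨ x ∈ Kp ∨ x ∈ Km) (hx1 : x ≠ 1)
    (hg : g ∈ K₀ ∨ g ∈ Kp ∨ g ∈ Km) (hg1 : g ≠ 1) : Covers x g := by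
  refine covers_of_bound D t ?_
  set R : ℝ := (r : ℝ) with hR
  have hR2 : 2 ≤ R := by rw [hR]; exact_mod_cast hr
  obtain ⟨hQ, hA⟩ := denoms (r := r) hr
  rw [← hR] at hQ hA
  obtain ⟨c₀, cp, cm⟩ := Table.reals D hr
  rw [abs_of_pos (mul_pos hQ hA),
    abs_of_pos (mul_pos hQ (by positivity : (0 : ℝ) < 2 * R ^ 2 + 2 * R + 1)),
    abs_of_pos (mul_pos (by linarith : 0 < R) hQ)]
  have hst : ∀ a, a ∈ K₀ ∨ a ∈ Kp ∨ a ∈ Km → a ≠ 1 → ‖(st : G → ℂ) a‖ = 1 := by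
    rintro a (h | h | h) h1
    · rw [D.st₀ a h h1]; simp
    · rw [D.stp a h h1]; simp
    · rw [D.stm a h h1]; simp
  have hw : ∀ a, a ∈ K₀ ∨ a ∈ Kp ∨ a ∈ Km → a ≠ 1 → ∀ χ, χ = t.w₁ ∨ χ = t.w₂ →
      ‖(χ : G → ℂ) a‖ ≤ 1 := by
    rintro a (h | h | h) h1 χ hχ
    · rw [t.zero₀ a h h1 χ (by tauto)]; simp
    · rcases t.unitp a h h1 χ hχ with e | e <;> rw [e] <;> simp
    · rcases t.unitm a h h1 χ hχ with e | e <;> rw [e] <;> simp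
  have hW : (‖(t.w₁ : G → ℂ) x‖ ^ 2 * ‖(t.w₁ : G → ℂ) g‖ +
      ‖(t.w₂ : G → ℂ) x‖ ^ 2 * ‖(t.w₂ : G → ℂ) g‖) / (R * (2 * R ^ 2 - 1)) ≤ 1 / 7 := by
    rw [div_le_iff₀ (by positivity)]
    have l : ∀ χ, χ = t.w₁ ∨ χ = t.w₂ → ‖(χ : G → ℂ) x‖ ^ 2 * ‖(χ : G → ℂ) g‖ ≤ 1 := fun χ hχ =>
      mul_le_one₀ (pow_le_one₀ (norm_nonneg _) (hw x hx hx1 χ hχ)) (norm_nonneg _) (hw g hg hg1 χ hχ)
    have h14 : 14 ≤ R * (2 * R ^ 2 - 1) := by nlinarith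
    linarith [l _ (Or.inl rfl), l _ (Or.inr rfl)]
  have hS : ‖(st : G → ℂ) x‖ ^ 2 * ‖(st : G → ℂ) g‖ / (4 * R ^ 4) ≤ 1 / 64 := by
    rw [hst x hx hx1, hst g hg hg1, one_pow, one_mul]
    refine one_div_le_one_div_of_le (by norm_num) ?_
    nlinarith [pow_le_pow_left₀ (by norm_num) hR2 4]
  -- a family is bounded through its square sum at `x`
  have hfam : ∀ (E : Finset (IrrCharacter G)) (K : Subgroup G) (M c : ℝ), 0 ≤ c →
      (∀ a ∈ K, a ≠ 1 → ∑ χ ∈ E, ‖(χ : G → ℂ) a‖ ^ 2 = M) → M ≤ c ^ 2 → x ∈ K →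
      (g ∈ K ∨ ∀ χ ∈ E, (χ : G → ℂ) g = 0) →
      ∑ χ ∈ E, ‖(χ : G → ℂ) x‖ ^ 2 * ‖(χ : G → ℂ) g‖ ≤ M * c := by
    intro E K M c hc hK hMc hxK hgK
    rw [← hK x hxK hx1, Finset.sum_mul]
    refine Finset.sum_le_sum fun χ hχ => mul_le_mul_of_nonneg_left ?_ (sq_nonneg _)
    rcases hgK with h | h
    · exact norm_le_of_sq E (fun χ => (χ : G → ℂ) g) (hK g h hg1) hMc hc hχ
    · rw [h χ hχ]; simpa using hc
  have z : ∀ (E : Finset (IrrCharacter G)), (∀ χ ∈ E, (χ : G → ℂ) x = 0) →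
      ∀ d : ℝ, (∑ χ ∈ E, ‖(χ : G → ℂ) x‖ ^ 2 * ‖(χ : G → ℂ) g‖) / d = 0 := fun E h d => by
    rw [Finset.sum_eq_zero (fun χ hχ => by rw [h χ hχ]; simp), zero_div]
  rcases hx with hx | hx | hx
  · rw [z t.Ep (fun χ h => t.zero₀ x hx hx1 χ (Or.inl h)),
      z t.Em (fun χ h => t.zero₀ x hx hx1 χ (Or.inr (Or.inl h)))]
    have hgK : g ∈ K₀ ∨ ∀ χ ∈ t.E₀, (χ : G → ℂ) g = 0 := by
      rcases hg with h | h | h
      · exact Or.inl h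
      · exact Or.inr fun χ hχ => t.zerop g h hg1 χ (Or.inl hχ)
      · exact Or.inr fun χ hχ => t.zerom g h hg1 χ (Or.inl hχ)
    have h := hfam t.E₀ K₀ _ (2 * R) (by positivity)
      (fun a ha h1 => (t.moments₀ D hr ha h1).2) (by rw [c₀, ← hR]; nlinarith) hx hgK
    rw [c₀, ← hR] at h
    have h' : (∑ χ ∈ t.E₀, ‖(χ : G → ℂ) x‖ ^ 2 * ‖(χ : G → ℂ) g‖) / (4 * R ^ 4 + 1) ≤ 1 / 2 := by
      rw [div_le_iff₀ (by positivity)]
      nlinarith [mul_le_mul_of_nonneg_right hR2 (by positivity : (0 : ℝ) ≤ R ^ 3)]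
    linarith
  · rw [z t.E₀ (fun χ h => t.zerop x hx hx1 χ (Or.inl h)),
      z t.Em (fun χ h => t.zerop x hx hx1 χ (Or.inr h))]
    have hgK : g ∈ Kp ∨ ∀ χ ∈ t.Ep, (χ : G → ℂ) g = 0 := by
      rcases hg with h | h | h
      · exact Or.inr fun χ hχ => t.zero₀ g h hg1 χ (Or.inl hχ)
      · exact Or.inl h
      · exact Or.inr fun χ hχ => t.zerom g h hg1 χ (Or.inr hχ)
    have h' : (∑ χ ∈ t.Ep, ‖(χ : G → ℂ) x‖ ^ 2 * ‖(χ : G → ℂ) g‖) /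
        ((2 * R ^ 2 - 1) * (2 * R ^ 2 - 2 * R + 1)) ≤ 4 / 5 := by
      rw [div_le_iff₀ (mul_pos hQ hA)]
      rcases (show r = 2 ∨ r = 3 ∨ 4 ≤ r by omega) with e | e | e
      · have hR' : R = 2 := by rw [hR, e]; norm_num
        have h := hfam t.Ep Kp _ 3 (by norm_num) (fun a ha h1 => (t.momentsp D hr ha h1).2.1)
          (by rw [cp, ← hR, hR']; norm_num) hx hgK
        rw [cp, ← hR, hR'] at h
        rw [hR']
        linarith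
      all_goals
        have hR4 : 3 ≤ R := by rw [hR]; exact_mod_cast (show 3 ≤ r by omega)
        have h := hfam t.Ep Kp _ (2 * R) (by positivity) (fun a ha h1 => (t.momentsp D hr ha h1).2.1)
          (by rw [cp, ← hR]; nlinarith) hx hgK
        rw [cp, ← hR] at h
        nlinarith [mul_le_mul_of_nonneg_right hR4 (by positivity : (0 : ℝ) ≤ R ^ 3),
          mul_le_mul_of_nonneg_right hR4 (by positivity : (0 : ℝ) ≤ R ^ 2)]
    linarith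
  · rw [z t.E₀ (fun χ h => t.zerom x hx hx1 χ (Or.inl h)),
      z t.Ep (fun χ h => t.zerom x hx hx1 χ (Or.inr h))]
    have hgK : g ∈ Km ∨ ∀ χ ∈ t.Em, (χ : G → ℂ) g = 0 := by
      rcases hg with h | h | h
      · exact Or.inr fun χ hχ => t.zero₀ g h hg1 χ (Or.inr (Or.inl hχ))
      · exact Or.inr fun χ hχ => t.zerop g h hg1 χ (Or.inr hχ)
      · exact Or.inl h
    have h := hfam t.Em Km _ (2 * R) (by positivity)
      (fun a ha h1 => (t.momentsm D hr ha h1).2.1) (by rw [cm, ← hR]; nlinarith) hx hgK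
    rw [cm, ← hR] at h
    have h' : (∑ χ ∈ t.Em, ‖(χ : G → ℂ) x‖ ^ 2 * ‖(χ : G → ℂ) g‖) /
        ((2 * R ^ 2 - 1) * (2 * R ^ 2 + 2 * R + 1)) ≤ 4 / 5 := by
      rw [div_le_iff₀ (by positivity)]
      nlinarith [mul_le_mul_of_nonneg_right hR2 (by positivity : (0 : ℝ) ≤ R ^ 3),
        mul_le_mul_of_nonneg_right hR2 (by positivity : (0 : ℝ) ≤ R ^ 2)]
    linarith

/-- An element off the tori with a small centraliser, and a torus element. -/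
theorem covers_two_torus {x g : G} (hx : TwoEl st K₀ Kp Km x)
    (hc : (Nat.card (Subgroup.centralizer ({x} : Set G)) : ℝ) ≤ 4 * (r : ℝ) ^ 2)
    (hg : g ∈ K₀ ∨ g ∈ Kp ∨ g ∈ Km) (hg1 : g ≠ 1) : Covers x g := by
  refine covers_of_bound D t ?_
  obtain ⟨v0, vp, vm⟩ := t.two_values D hr hx
  have hnorm := t.two_norm D hr hx
  set R : ℝ := (r : ℝ) with hR
  have hR2 : 2 ≤ R := by rw [hR]; exact_mod_cast hr
  obtain ⟨hQ, hA⟩ := denoms (r := r) hr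
  rw [← hR] at hQ hA
  obtain ⟨c₀, cp, cm⟩ := Table.reals D hr
  obtain ⟨k₀, kp, km⟩ := t.cardsR
  rw [abs_of_pos (mul_pos hQ hA),
    abs_of_pos (mul_pos hQ (by positivity : (0 : ℝ) < 2 * R ^ 2 + 2 * R + 1)),
    abs_of_pos (mul_pos (by linarith : 0 < R) hQ), hx.zero,
    Finset.sum_congr rfl (fun χ hχ => show ‖(χ : G → ℂ) x‖ ^ 2 * ‖(χ : G → ℂ) g‖ =
      1 * ‖(χ : G → ℂ) g‖ by rw [v0 χ hχ]; simp) (s₁ := t.E₀),
    Finset.sum_congr rfl (fun χ hχ => show ‖(χ : G → ℂ) x‖ ^ 2 * ‖(χ : G → ℂ) g‖ =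
      ‖-1 - t.B x‖ ^ 2 * ‖(χ : G → ℂ) g‖ by rw [vp χ hχ]) (s₁ := t.Ep),
    Finset.sum_congr rfl (fun χ hχ => show ‖(χ : G → ℂ) x‖ ^ 2 * ‖(χ : G → ℂ) g‖ =
      ‖t.B x - 1‖ ^ 2 * ‖(χ : G → ℂ) g‖ by rw [vm χ hχ]) (s₁ := t.Em),
    ← Finset.mul_sum, ← Finset.mul_sum, ← Finset.mul_sum]
  simp only [norm_zero, ne_eq, OfNat.ofNat_ne_zero, not_false_eq_true, zero_pow, zero_mul, zero_div,
    zero_add, one_mul]
  set N := ‖-1 - t.B x‖ ^ 2 with hN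
  set N' := ‖t.B x - 1‖ ^ 2 with hN'
  set W := ‖(t.w₁ : G → ℂ) x‖ ^ 2 + ‖(t.w₂ : G → ℂ) x‖ ^ 2 with hWdef
  have hN0 : 0 ≤ N := sq_nonneg _
  have hN0' : 0 ≤ N' := sq_nonneg _
  have hW0 : 0 ≤ W := by positivity
  have hkN : 0 ≤ (t.Ep.card : ℝ) * N := by positivity
  have hkN' : 0 ≤ (t.Em.card : ℝ) * N' := by positivity
  have hb : (t.Ep.card : ℝ) * N + (t.Em.card : ℝ) * N' + W ≤ 3 * R ^ 2 := by linarith
  rcases hg with h | h | h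
  · rw [Finset.sum_eq_zero (fun χ hχ => by rw [t.zero₀ g h hg1 χ (Or.inl hχ), norm_zero]) (s := t.Ep),
      Finset.sum_eq_zero (fun χ hχ => by rw [t.zero₀ g h hg1 χ (Or.inr (Or.inl hχ)), norm_zero])
        (s := t.Em),
      t.zero₀ g h hg1 t.w₁ (by tauto), t.zero₀ g h hg1 t.w₂ (by tauto)]
    simp only [norm_zero, mul_zero, zero_div, add_zero]
    rw [div_lt_one (by positivity)]
    have hle := Finset.sum_le_card_nsmul t.E₀ (fun χ => ‖(χ : G → ℂ) g‖) (2 * R) fun χ hχ =>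
      norm_le_of_sq t.E₀ (fun χ => (χ : G → ℂ) g) (t.moments₀ D hr h hg1).2
        (by rw [c₀, ← hR]; nlinarith) (by positivity) hχ
    rw [nsmul_eq_mul] at hle
    rw [show (t.E₀.card : ℝ) = R ^ 2 - 1 by linarith] at hle
    nlinarith [mul_le_mul_of_nonneg_right hR2 (by positivity : (0 : ℝ) ≤ R ^ 3)]
  · obtain ⟨-, m2, w1, w2⟩ := t.momentsp D hr h hg1
    rw [Finset.sum_eq_zero (fun χ hχ => by rw [t.zerop g h hg1 χ (Or.inl hχ), norm_zero]) (s := t.E₀),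
      Finset.sum_eq_zero (fun χ hχ => by rw [t.zerop g h hg1 χ (Or.inr hχ), norm_zero]) (s := t.Em),
      w1, w2]
    simp only [norm_one, mul_one, mul_zero, zero_div, zero_add, add_zero, ← hWdef]
    have hs := am_gm t.Ep (fun χ => (χ : G → ℂ) g) m2 (by rw [cp, ← hR]; linarith)
    have h1 : N * (∑ χ ∈ t.Ep, ‖(χ : G → ℂ) g‖) / ((2 * R ^ 2 - 1) * (2 * R ^ 2 - 2 * R + 1)) ≤
        (t.Ep.card * N) / (R * (2 * R ^ 2 - 1)) := by
      rw [div_le_div_iff₀ (mul_pos hQ hA) (by positivity)]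
      have h2 : N * (∑ χ ∈ t.Ep, ‖(χ : G → ℂ) g‖) ≤ N * (2 * t.Ep.card) :=
        mul_le_mul_of_nonneg_left hs hN0
      calc _ ≤ N * (2 * t.Ep.card) * (R * (2 * R ^ 2 - 1)) :=
            mul_le_mul_of_nonneg_right h2 (by positivity)
        _ = (2 * R) * (t.Ep.card * N * (2 * R ^ 2 - 1)) := by ring
        _ ≤ (2 * R ^ 2 - 2 * R + 1) * (t.Ep.card * N * (2 * R ^ 2 - 1)) :=
            mul_le_mul_of_nonneg_right (by nlinarith) (by positivity)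
        _ = _ := by ring
    have h2 : (t.Ep.card * N + W) / (R * (2 * R ^ 2 - 1)) < 1 := by
      rw [div_lt_one (by positivity)]
      nlinarith [mul_le_mul_of_nonneg_right hR2 (by positivity : (0 : ℝ) ≤ R)]
    rw [add_div] at h2
    linarith
  · obtain ⟨-, m2, w1, w2⟩ := t.momentsm D hr h hg1
    rw [Finset.sum_eq_zero (fun χ hχ => by rw [t.zerom g h hg1 χ (Or.inl hχ), norm_zero]) (s := t.E₀),
      Finset.sum_eq_zero (fun χ hχ => by rw [t.zerom g h hg1 χ (Or.inr hχ), norm_zero]) (s := t.Ep),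
      w1, w2]
    simp only [norm_neg, norm_one, mul_one, mul_zero, zero_div, zero_add, add_zero, ← hWdef]
    have hs := am_gm t.Em (fun χ => (χ : G → ℂ) g) m2 (by rw [cm, ← hR]; linarith)
    have h1 : N' * (∑ χ ∈ t.Em, ‖(χ : G → ℂ) g‖) / ((2 * R ^ 2 - 1) * (2 * R ^ 2 + 2 * R + 1)) ≤
        (t.Em.card * N') / (R * (2 * R ^ 2 - 1)) := by
      rw [div_le_div_iff₀ (by positivity) (by positivity)]
      have h2 : N' * (∑ χ ∈ t.Em, ‖(χ : G → ℂ) g‖) ≤ N' * (2 * t.Em.card) :=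
        mul_le_mul_of_nonneg_left hs hN0'
      calc _ ≤ N' * (2 * t.Em.card) * (R * (2 * R ^ 2 - 1)) :=
            mul_le_mul_of_nonneg_right h2 (by positivity)
        _ = (2 * R) * (t.Em.card * N' * (2 * R ^ 2 - 1)) := by ring
        _ ≤ (2 * R ^ 2 + 2 * R + 1) * (t.Em.card * N' * (2 * R ^ 2 - 1)) :=
            mul_le_mul_of_nonneg_right (by nlinarith) (by positivity)
        _ = _ := by ring
    have h2 : (t.Em.card * N' + W) / (R * (2 * R ^ 2 - 1)) < 1 := by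
      rw [div_lt_one (by positivity)]
      nlinarith [mul_le_mul_of_nonneg_right hR2 (by positivity : (0 : ℝ) ≤ R)]
    rw [add_div] at h2
    linarith

end

end Cfsg.Agent.Suzuki.Degree
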