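import Cfsg.Agent.Suzuki.DegreeTori
import Cfsg.Agent.Char.Integral
import Cfsg.Prelude.Def_DegreeGraph

/-!
The degrees of the irreducible characters of a group with the tori and the order of a Suzuki group.
-/

set_option autoImplicit false
set_option maxHeartbeats 800000

open scoped ComplexConjugate

namespace Cfsg.Agent.Suzuki.Degree

open Cfsg.Agent.Char

universe u

variable {G : Type u} [Group G] [Fintype G]

/-- The degree of a character. -/
noncomputable def dg (χ : IrrCharacter G) : ℕ := (IsIrr.degree χ.2).choose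

theorem dg_spec (χ : IrrCharacter G) : 0 < dg χ ∧ (χ : G → ℂ) 1 = (dg χ : ℂ) :=
  (IsIrr.degree χ.2).choose_spec

theorem dg_dvd (χ : IrrCharacter G) : dg χ ∣ Nat.card G :=
  IsIrr.degree_dvd_card χ.2 (dg_spec χ).2

theorem eq_dg {χ : IrrCharacter G} {d : ℕ} (h : (χ : G → ℂ) 1 = d) : dg χ = d := by
  exact_mod_cast (dg_spec χ).2.symm.trans h

theorem charDegree_eq (χ : IrrCharacter G) : charDegree (χ : G → ℂ) = dg χ := by
  rw [charDegree, (dg_spec χ).2]; simp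

theorem sum_dg_sq : ∑ χ : IrrCharacter G, (dg χ : ℤ) ^ 2 = (Nat.card G : ℤ) := by
  have h := second_orthogonality (1 : G) (1 : G)
  rw [if_pos (IsConj.refl 1), show Subgroup.centralizer ({1} : Set G) = ⊤ from eq_top_iff.2 fun x _ =>
    Subgroup.mem_centralizer_singleton_iff.2 (by simp), Subgroup.card_top] at h
  have h2 : ((∑ χ : IrrCharacter G, (dg χ : ℤ) ^ 2 : ℤ) : ℂ) = ((Nat.card G : ℤ) : ℂ) := by
    push_cast
    rw [← h]
    refine Finset.sum_congr rfl fun χ _ => ?_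
    rw [(dg_spec χ).2, map_natCast, pow_two]
  exact_mod_cast h2

variable (one st : IrrCharacter G)

/-- The characters other than a family, the trivial and the Steinberg character. -/
noncomputable def others (E : Finset (IrrCharacter G)) : Finset (IrrCharacter G) :=
  letI := Classical.decEq (IrrCharacter G)
  Finset.univ \ (E ∪ {one, st})

theorem mem_others {E : Finset (IrrCharacter G)} {χ : IrrCharacter G} :
    χ ∈ others one st E ↔ χ ∉ E ∧ χ ≠ one ∧ χ ≠ st := by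
  simp [others]; tauto

/-- The exceptional family of a torus, and the values of the other characters on the torus. -/
structure Fam (K : Subgroup G) (e : ℕ) where
  E : Finset (IrrCharacter G)
  k : ℕ
  x : ℕ
  ε : ℤ
  c : ℤ
  cst : IrrCharacter G → ℤ
  sgn : ε = 1 ∨ ε = -1
  card : E.card = k
  size : k * e + 1 = Nat.card K
  deg : ∀ χ ∈ E, dg χ = x
  cong : (Nat.card K : ℤ) ∣ (x : ℤ) - ε * e - c
  same : ∀ χ ∈ E, ∀ ψ ∈ E, ∀ g : G, (∀ h ∈ K, h ≠ 1 → ¬ IsConj h g) → (χ : G → ℂ) g = (ψ : G → ℂ) g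
  nonconst : ∀ χ ∈ E, ∃ a ∈ K, ∃ b ∈ K, a ≠ 1 ∧ b ≠ 1 ∧ (χ : G → ℂ) a ≠ (χ : G → ℂ) b
  val : ∀ χ, χ ∉ E → ∀ a ∈ K, a ≠ 1 → (χ : G → ℂ) a = cst χ
  vcong : ∀ χ, χ ∉ E → (Nat.card K : ℤ) ∣ (dg χ : ℤ) - cst χ
  one_not : one ∉ E
  st_not : st ∉ E
  col : (e : ℤ) - 2 = k * c ^ 2 - 2 * ε * c + ∑ χ ∈ others one st E, cst χ ^ 2

variable {one st}

/-- A torus has a family. -/
theorem exists_fam (hne : one ≠ st) (hone : ∀ g, (one : G → ℂ) g = 1) {K : Subgroup G} {e : ℕ}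
    (hK : Torus K e) (he : 2 ≤ e) (hk : 2 * e + 1 ≤ Nat.card K) {s : ℤ} (hs : s ^ 2 = 1)
    (hst : ∀ a ∈ K, a ≠ 1 → (st : G → ℂ) a = s) : Nonempty (Fam one st K e) := by
  classical
  obtain ⟨E, ε, c, x, hε, hcard, hdeg, hcong, hsame, hnon, cst, hval, hvc, hcol⟩ :=
    AbelianTI.family K hK.ti (fun k hk h => (hK.cent k hk h).le) hK.comm he hK.card_normalizer hk
  have hKb : K ≠ ⊥ := fun h => by rw [h, Subgroup.card_bot] at hk; omega
  obtain ⟨⟨a, ha⟩, ha'⟩ := Subgroup.ne_bot_iff_exists_ne_one.1 hKb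
  have ha1 : a ≠ 1 := fun h => ha' (Subtype.ext h)
  have h1 : one ∉ E := fun h => by
    obtain ⟨a, -, b, -, -, -, hab⟩ := hnon one h
    exact hab (by rw [hone, hone])
  have h2 : st ∉ E := fun h => by
    obtain ⟨a, ha, b, hb, ha1, hb1, hab⟩ := hnon st h
    exact hab (by rw [hst a ha ha1, hst b hb hb1])
  have hc1 : cst one = 1 := by
    have := (hval one h1 a ha ha1).symm.trans (hone a)
    exact_mod_cast this
  have hc2 : cst st = s := by
    have := (hval st h2 a ha ha1).symm.trans (hst a ha ha1)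
    exact_mod_cast this
  obtain ⟨χ₀, hχ₀⟩ : E.Nonempty := by
    rw [← Finset.card_pos]; by_contra h
    rw [show E.card = 0 by omega] at hcard
    omega
  have hx : (x : ℂ) = ((dg χ₀ : ℤ) : ℂ) := by rw [← hdeg χ₀ hχ₀, (dg_spec χ₀).2]; simp
  have hx' : x = (dg χ₀ : ℤ) := by exact_mod_cast hx
  subst hx'
  refine ⟨{
    E := E, k := E.card, x := dg χ₀, ε := ε, c := c, cst := cst, sgn := hε, «card» := rfl,
    size := hcard, deg := fun χ hχ => eq_dg (by rw [hdeg χ hχ]; simp), cong := hcong, same := hsame,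
    nonconst := hnon, val := hval, vcong := fun χ hχ => hvc χ hχ _ (dg_spec χ).2, one_not := h1,
    st_not := h2, col := ?_ }⟩
  have hsplit : Finset.univ.filter (· ∉ E) = insert one (insert st (others one st E)) := by
    ext χ
    simp only [Finset.mem_filter, Finset.mem_univ, true_and, Finset.mem_insert, mem_others]
    constructor
    · intro h
      by_cases hA : χ = one
      · exact Or.inl hA
      by_cases hB : χ = st
      · exact Or.inr (Or.inl hB)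
      · exact Or.inr (Or.inr ⟨h, hA, hB⟩)
    · rintro (rfl | rfl | h)
      · exact h1
      · exact h2
      · exact h.1
  rw [hsplit, Finset.sum_insert (by simp [mem_others, hne]), Finset.sum_insert (by simp [mem_others]),
    hc1, hc2, hs] at hcol
  linarith

variable {K K' : Subgroup G} {e e' : ℕ}

theorem Fam.eq_of_inter (f : Fam one st K e) (f' : Fam one st K' e')
    (hno : ∀ a ∈ K, a ≠ 1 → ∀ h ∈ K', h ≠ 1 → ¬ IsConj h a)
    (hno' : ∀ a ∈ K', a ≠ 1 → ∀ h ∈ K, h ≠ 1 → ¬ IsConj h a)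
    {χ : IrrCharacter G} (h : χ ∈ f.E) (h' : χ ∈ f'.E) : f.E = f'.E := by
  have key : ∀ {K K' : Subgroup G} {e e' : ℕ} (f : Fam one st K e) (f' : Fam one st K' e'),
      (∀ a ∈ K, a ≠ 1 → ∀ h ∈ K', h ≠ 1 → ¬ IsConj h a) → χ ∈ f.E → χ ∈ f'.E → f'.E ⊆ f.E := by
    intro K K' e e' f f' hno h h' ψ hψ
    by_contra hψn
    obtain ⟨a, ha, b, hb, ha1, hb1, hab⟩ := f.nonconst χ h
    refine hab ?_
    rw [f'.same χ h' ψ hψ a (hno a ha ha1), f'.same χ h' ψ hψ b (hno b hb hb1),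
      f.val ψ hψn a ha ha1, f.val ψ hψn b hb hb1]
  exact Finset.Subset.antisymm (key f' f hno' h' h) (key f f' hno h h')

theorem Fam.cst_eq (f : Fam one st K e) (f' : Fam one st K' e')
    (hno : ∀ a ∈ K, a ≠ 1 → ∀ h ∈ K', h ≠ 1 → ¬ IsConj h a) (hK : K ≠ ⊥)
    {χ ψ : IrrCharacter G} (hd : Disjoint f.E f'.E) (h : χ ∈ f'.E) (h' : ψ ∈ f'.E) :
    f.cst χ = f.cst ψ := by
  obtain ⟨⟨a, ha⟩, ha'⟩ := Subgroup.ne_bot_iff_exists_ne_one.1 hK
  have ha1 : a ≠ 1 := fun h => ha' (Subtype.ext h)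
  have e1 := f.val χ (Finset.disjoint_right.1 hd h) a ha ha1
  have e2 := f.val ψ (Finset.disjoint_right.1 hd h') a ha ha1
  have := e1.symm.trans ((f'.same χ h ψ h' a (hno a ha ha1)).trans e2)
  exact_mod_cast this

theorem Fam.sub_others (f : Fam one st K e) (f' : Fam one st K' e') (hd : Disjoint f.E f'.E) :
    f'.E ⊆ others one st f.E := fun χ hχ => (mem_others one st).2
  ⟨Finset.disjoint_right.1 hd hχ, fun h => f'.one_not (h ▸ hχ), fun h => f'.st_not (h ▸ hχ)⟩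

/-- A second family is constant on the torus, with a small value. -/
theorem Fam.const_bound (f : Fam one st K e) (f' : Fam one st K' e')
    (hno : ∀ a ∈ K, a ≠ 1 → ∀ h ∈ K', h ≠ 1 → ¬ IsConj h a) (hK : K ≠ ⊥)
    (hd : Disjoint f.E f'.E) {χ : IrrCharacter G} (h : χ ∈ f'.E) :
    (f'.k : ℤ) * f.cst χ ^ 2 ≤ ∑ ψ ∈ others one st f.E, f.cst ψ ^ 2 ∧
      (Nat.card K : ℤ) ∣ (f'.x : ℤ) - f.cst χ := by
  refine ⟨?_, ?_⟩
  · calc (f'.k : ℤ) * f.cst χ ^ 2 = ∑ ψ ∈ f'.E, f.cst ψ ^ 2 := by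
          rw [Finset.sum_congr rfl fun ψ hψ => show f.cst ψ ^ 2 = f.cst χ ^ 2 by
            rw [f.cst_eq f' hno hK hd hψ h], Finset.sum_const, f'.card]
          simp
      _ ≤ _ := Finset.sum_le_sum_of_subset_of_nonneg (f.sub_others f' hd) fun _ _ _ => sq_nonneg _
  · have := f.vcong χ (Finset.disjoint_right.1 hd h)
    rwa [f'.deg χ h] at this

/-- The hypotheses: tori and Steinberg character of a group of Suzuki order. -/
structure Data (one st : IrrCharacter G) (r : ℕ) (K₀ Kp Km : Subgroup G) : Prop where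
  hone : ∀ g, (one : G → ℂ) g = 1
  t₀ : Torus K₀ 2
  tp : Torus Kp 4
  tm : Torus Km 4
  c₀ : Nat.card K₀ + 1 = 2 * r ^ 2
  cp : Nat.card Kp = 2 * r ^ 2 + 2 * r + 1
  cm : Nat.card Km + 2 * r = 2 * r ^ 2 + 1
  st₀ : ∀ a ∈ K₀, a ≠ 1 → (st : G → ℂ) a = (1 : ℤ)
  stp : ∀ a ∈ Kp, a ≠ 1 → (st : G → ℂ) a = (-1 : ℤ)
  stm : ∀ a ∈ Km, a ≠ 1 → (st : G → ℂ) a = (-1 : ℤ)
  st1 : dg st = 4 * r ^ 4
  order : (Nat.card G : ℤ) = 4 * (r : ℤ) ^ 4 * (2 * (r : ℤ) ^ 2 - 1) * (4 * (r : ℤ) ^ 4 + 1)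

/-- The list of degrees. -/
def Listed (r d : ℕ) : Prop :=
  d = 1 ∨ d = 4 * r ^ 4 ∨ d = 4 * r ^ 4 + 1 ∨ (d : ℤ) = (2 * r ^ 2 - 1) * (2 * r ^ 2 - 2 * r + 1) ∨
    (d : ℤ) = (2 * r ^ 2 - 1) * (2 * r ^ 2 + 2 * r + 1) ∨ (d : ℤ) = r * (2 * r ^ 2 - 1)

/-- What the list of degrees must deliver. -/
def Complete (G : Type u) [Group G] [Fintype G] (r : ℕ) : Prop :=
  (∀ χ : IrrCharacter G, Listed r (dg χ)) ∧
  (∃ χ : IrrCharacter G, dg χ = 4 * r ^ 4 + 1) ∧
  (∃ χ : IrrCharacter G, (dg χ : ℤ) = (2 * r ^ 2 - 1) * (2 * r ^ 2 - 2 * r + 1)) ∧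
  (∃ χ : IrrCharacter G, (dg χ : ℤ) = (2 * r ^ 2 - 1) * (2 * r ^ 2 + 2 * r + 1)) ∧
  (∃ χ : IrrCharacter G, dg χ = 4 * r ^ 4) ∧
  (∃ χ : IrrCharacter G, (dg χ : ℤ) = r * (2 * r ^ 2 - 1))

section

variable {r : ℕ} {K₀ Kp Km : Subgroup G} (D : Data one st r K₀ Kp Km) (hr : 2 ≤ r)

include D hr

theorem Data.ne : one ≠ st := fun h => by
  have h1 : dg one = 1 := eq_dg (by rw [D.hone]; simp)
  have := D.st1
  rw [← h, h1] at this
  have : 1 ≤ r ^ 4 := Nat.one_le_pow _ _ (by omega)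
  omega

theorem Data.sizes : 7 ≤ Nat.card K₀ ∧ 13 ≤ Nat.card Kp ∧ 5 ≤ Nat.card Km ∧
    Nat.card K₀ ≠ Nat.card Kp ∧ Nat.card K₀ ≠ Nat.card Km ∧ Nat.card Kp ≠ Nat.card Km := by
  have := D.c₀
  have := D.cp
  have := D.cm
  have h2 : 2 * r ≤ r ^ 2 := by rw [pow_two]; exact Nat.mul_le_mul_right r hr
  omega

/-- The split family. -/
theorem Data.split : ∃ f : Fam one st K₀ 2, f.c = 0 ∧ 2 * f.k + 2 = 2 * r ^ 2 ∧
    ∀ χ ∈ others one st f.E, f.cst χ = 0 ∧ (Nat.card K₀ : ℤ) ∣ dg χ := by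
  obtain ⟨h7, -⟩ := D.sizes hr
  obtain ⟨f⟩ := exists_fam (D.ne hr) D.hone D.t₀ le_rfl (by omega) (one_pow 2) D.st₀
  have hs := f.size
  have hc := D.c₀
  have hsum : 0 ≤ ∑ χ ∈ others one st f.E, f.cst χ ^ 2 := Finset.sum_nonneg fun _ _ => sq_nonneg _
  have hcol := f.col
  push_cast at hcol
  have hk : (3 : ℤ) ≤ f.k := by
    have : 3 ≤ f.k := by omega
    exact_mod_cast this
  have hc0 : f.c = 0 := by
    by_contra hne
    have h1 : 1 ≤ f.c ^ 2 := by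
      have : 0 < f.c ^ 2 := by positivity
      linarith
    have h2 : -2 * f.ε * f.c ≥ -2 * f.c ^ 2 := by
      rcases f.sgn with h | h <;> rw [h] <;> nlinarith [Int.le_self_sq f.c, Int.le_self_sq (-f.c)]
    nlinarith
  refine ⟨f, hc0, by omega, fun χ hχ => ?_⟩
  rw [hc0] at hcol
  have h0 : ∑ χ ∈ others one st f.E, f.cst χ ^ 2 = 0 := by linarith
  have hz : f.cst χ = 0 := pow_eq_zero_iff (n := 2) two_ne_zero |>.1
    ((Finset.sum_eq_zero_iff_of_nonneg fun _ _ => sq_nonneg _).1 h0 χ hχ)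
  refine ⟨hz, ?_⟩
  have := f.vcong χ ((mem_others one st).1 hχ).1
  rwa [hz, sub_zero] at this

end

theorem small_sq {c : ℤ} (h : c ^ 2 ≤ 2) : c = 0 ∨ c = 1 ∨ c = -1 := by
  have : -2 < c := by nlinarith
  have : c < 2 := by nlinarith
  omega

theorem two_nonzero {ι : Type*} (s : Finset ι) (f : ι → ℤ) (h : ∑ i ∈ s, f i ^ 2 = 2) :
    ∃ i ∈ s, ∃ j ∈ s, i ≠ j ∧ (f i = 1 ∨ f i = -1) ∧ (f j = 1 ∨ f j = -1) ∧
      ∀ l ∈ s, l ≠ i → l ≠ j → f l = 0 := by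
  classical
  set t := s.filter fun i => f i ≠ 0 with ht
  have hle : ∀ i ∈ s, f i ^ 2 ≤ 2 := fun i hi =>
    h ▸ Finset.single_le_sum (fun j _ => sq_nonneg (f j)) hi
  have h1 : ∀ i ∈ t, f i ^ 2 = 1 := fun i hi => by
    obtain ⟨hi, hne⟩ := Finset.mem_filter.1 hi
    rcases small_sq (hle i hi) with h | h | h
    · exact absurd h hne
    all_goals simp [h]
  have hsum : ∑ i ∈ t, f i ^ 2 = 2 := by
    rw [← h]
    exact Finset.sum_subset (Finset.filter_subset _ _) fun i hi hn => by simp_all [ht]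
  rw [Finset.sum_congr rfl h1, Finset.sum_const] at hsum
  obtain ⟨i, j, hij, he⟩ := Finset.card_eq_two.1 (show t.card = 2 by
    have h2 : (t.card : ℤ) = 2 := by simpa using hsum
    exact_mod_cast h2)
  have hi : i ∈ t := by rw [he]; simp
  have hj : j ∈ t := by rw [he]; simp
  refine ⟨i, (Finset.mem_filter.1 hi).1, j, (Finset.mem_filter.1 hj).1, hij, ?_, ?_,
    fun l hl h1 h2 => ?_⟩
  · exact sq_eq_one_iff.1 (h1 i hi)
  · exact sq_eq_one_iff.1 (h1 j hj)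
  · by_contra hne
    have : l ∈ t := Finset.mem_filter.2 ⟨hl, hne⟩
    simp [he, h1, h2] at this

end Cfsg.Agent.Suzuki.Degree
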