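import Cfsg.Agent.Suzuki.Tori3
import Cfsg.Agent.Char.AbelianTI
import Cfsg.Agent.S0157

/-!
The three classes of cyclic tori of a Suzuki group, their character families and the Steinberg
character.
-/

set_option autoImplicit false
set_option maxHeartbeats 800000

open MulAction Cfsg.Agent.RankOne.Ovoid

namespace Cfsg.Agent.Suzuki.Degree

universe u

/-- A torus: a cyclic subgroup equal to the centraliser of each nonidentity element, with normaliser
quotient of order `e`. -/
structure Torus {G : Type u} [Group G] (K : Subgroup G) (e : ℕ) : Prop where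
  cent : ∀ x ∈ K, x ≠ 1 → Subgroup.centralizer {x} = K
  card_normalizer : Nat.card (Subgroup.normalizer (K : Set G)) = e * Nat.card K

theorem Torus.comm {G : Type u} [Group G] {K : Subgroup G} {e : ℕ} (hK : Torus K e) :
    ∀ a ∈ K, ∀ b ∈ K, a * b = b * a := by
  intro a ha b hb
  rcases eq_or_ne a 1 with rfl | h
  · simp
  have : b ∈ Subgroup.centralizer {a} := (hK.cent a ha h).symm ▸ hb
  exact (Subgroup.mem_centralizer_singleton_iff.1 this).symm

theorem Torus.ti {G : Type u} [Group G] {K : Subgroup G} {e : ℕ} (hK : Torus K e) :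
    ∀ g : G, g ∉ Subgroup.normalizer (K : Set G) → ∀ k ∈ K, g * k * g⁻¹ ∈ K → k = 1 := by
  intro g hg k hk hgk
  by_contra hk1
  refine hg (Subgroup.mem_normalizer_iff.2 fun x => ?_)
  have h1 := hK.cent k hk hk1
  have h2 := hK.cent _ hgk (fun h => hk1 (conj_eq_one_iff.1 h))
  rw [← SetLike.ext_iff.1 h1 x, ← SetLike.ext_iff.1 h2 (g * x * g⁻¹),
    Subgroup.mem_centralizer_singleton_iff, Subgroup.mem_centralizer_singleton_iff]
  constructor
  · intro h
    calc g * x * g⁻¹ * (g * k * g⁻¹) = g * (x * k) * g⁻¹ := by group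
      _ = g * (k * x) * g⁻¹ := by rw [h]
      _ = g * k * g⁻¹ * (g * x * g⁻¹) := by group
  · intro h
    have e : g * (x * k) * g⁻¹ = g * (k * x) * g⁻¹ := by
      calc g * (x * k) * g⁻¹ = g * x * g⁻¹ * (g * k * g⁻¹) := by group
        _ = g * k * g⁻¹ * (g * x * g⁻¹) := h
        _ = g * (k * x) * g⁻¹ := by group
    exact mul_left_cancel (mul_right_cancel e)

theorem Torus.no_conj {G : Type u} [Group G] [Finite G] {K K' : Subgroup G} {e e' : ℕ}
    (hK : Torus K e) (hK' : Torus K' e') (hne : Nat.card K ≠ Nat.card K') {a : G} (ha : a ∈ K')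
    (ha1 : a ≠ 1) : ∀ h ∈ K, h ≠ 1 → ¬ IsConj h a := by
  intro h hh hh1 hc
  obtain ⟨g, rfl⟩ := isConj_iff.1 hc
  refine hne ?_
  rw [← hK.cent h hh hh1, ← hK'.cent _ ha ha1]
  refine Nat.card_congr
    { toFun := fun x => ⟨g * x * g⁻¹, Subgroup.mem_centralizer_singleton_iff.2 ?_⟩
      invFun := fun x => ⟨g⁻¹ * x * g, Subgroup.mem_centralizer_singleton_iff.2 ?_⟩
      left_inv := fun x => by ext; simp [mul_assoc]
      right_inv := fun x => by ext; simp [mul_assoc] }
  · have e1 := Subgroup.mem_centralizer_singleton_iff.1 x.2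
    calc g * x * g⁻¹ * (g * h * g⁻¹) = g * (x * h) * g⁻¹ := by group
      _ = g * (h * x) * g⁻¹ := by rw [e1]
      _ = g * h * g⁻¹ * (g * x * g⁻¹) := by group
  · have e1 := Subgroup.mem_centralizer_singleton_iff.1 x.2
    calc g⁻¹ * x * g * h = g⁻¹ * ((x : G) * (g * h * g⁻¹)) * g := by group
      _ = g⁻¹ * (g * h * g⁻¹ * x) * g := by rw [e1]
      _ = h * (g⁻¹ * x * g) := by group

section

variable {F : Type u} [Field F] [Fintype F] {m : ℕ} (hm : 1 ≤ m)
  (hF : Fintype.card F = 2 ^ (2 * m + 1))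

include hm hF

/-- The split torus. -/
theorem exists_split :
    ∃ K : Subgroup (Cfsg.Sz F m), Torus K 2 ∧ Nat.card K + 1 = 2 ^ (2 * m + 1) ∧
      ∀ a ∈ K, a ≠ 1 → Nat.card (fixedBy (Cfsg.suzukiOvoid F m) a) = 2 := by
  classical
  have hG := good_of_card (m := m) hF
  set K := (H hG).range with hKdef
  have hcard : Nat.card K = Nat.card F - 1 := card_range_H hG
  have hq : Nat.card F = 2 ^ (2 * m + 1) := by rw [Nat.card_eq_fintype_card, hF]
  have h8 := eight_le (m := m) hm hF
  have hfix : ∀ a ∈ K, a ≠ 1 → ∀ p : Cfsg.suzukiOvoid F m, a • p = p → p = pI ∨ p = pP 0 0 := by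
    rintro _ ⟨c, rfl⟩ hc p hp
    exact H_fixes_two hG (fun h => hc (by rw [h, map_one])) hp
  refine ⟨K, ⟨?_, ?_⟩, by omega, ?_⟩
  · rintro _ ⟨c, rfl⟩ hc
    exact centralizer_H hG hm hF fun h => hc (by rw [h, map_one])
  · obtain ⟨c, hc⟩ : ∃ c : Fˣ, c ≠ 1 := by
      have : Nontrivial Fˣ := Finite.one_lt_card_iff_nontrivial.1 (by
        rw [Nat.card_units]; omega)
      exact exists_ne 1
    have hN : ∀ g, g ∈ Subgroup.normalizer (K : Set (Cfsg.Sz F m)) ↔ g ∈ K ∨ J hG * g ∈ K := by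
      intro g
      constructor
      · intro hg
        have hmem := (Subgroup.mem_normalizer_iff'.1 hg) (g⁻¹ * H hG c)
        have h1 : g⁻¹ * H hG c * g ∈ K := by
          have := (Subgroup.mem_normalizer_iff.1 (inv_mem hg) (H hG c)).1 ⟨c, rfl⟩
          simpa using this
        have h1' : g⁻¹ * H hG c * g ≠ 1 := fun h => hc (H_injective hG (by
          rw [map_one]
          exact conj_eq_one_iff.1 (show g⁻¹ * H hG c * (g⁻¹)⁻¹ = 1 by rwa [inv_inv])))
        have hstep : ∀ p : Cfsg.suzukiOvoid F m, H hG c • p = p → g⁻¹ • p = pI ∨ g⁻¹ • p = pP 0 0 :=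
          fun p hp => hfix _ h1 h1' _ (by
            rw [mul_smul, mul_smul, smul_inv_smul, hp])
        have hi := hstep _ (H_pI hG c)
        have h0 := hstep _ (H_pP_zero hG c)
        rcases hi with hi | hi <;> rcases h0 with h0 | h0
        · exact absurd (MulAction.injective g⁻¹ (h0.trans hi.symm)) (pP_ne_pI 0 0)
        · obtain ⟨a, ha⟩ := eq_H_of_fix hG hm hF hi h0
          exact Or.inl (inv_mem_iff.1 ⟨a, ha.symm⟩)
        · obtain ⟨a, ha⟩ := eq_H_of_fix hG hm hF (g := J hG * g⁻¹)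
            (by rw [mul_smul, hi, J_pP_zero]) (by rw [mul_smul, h0, J_pI])
          refine Or.inr ⟨a, ?_⟩
          have e1 : g⁻¹ = J hG * H hG a := by rw [← ha, ← mul_assoc, J_mul_J, one_mul]
          have e2 : (H hG a)⁻¹ * (J hG)⁻¹ = g := by rw [← mul_inv_rev, ← e1, inv_inv]
          have e3 : (J hG)⁻¹ = J hG := inv_eq_of_mul_eq_one_right (J_mul_J hG)
          rw [← e2, e3, ← mul_assoc, ← map_inv, J_H_J, inv_inv]
        · exact absurd (MulAction.injective g⁻¹ (h0.trans hi.symm)) (pP_ne_pI 0 0)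
      · intro hg
        have hJ : J hG ∈ Subgroup.normalizer (K : Set (Cfsg.Sz F m)) := by
          have e3 : (J hG)⁻¹ = J hG := inv_eq_of_mul_eq_one_right (J_mul_J hG)
          rw [Subgroup.mem_normalizer_iff]
          intro x
          rw [e3]
          constructor
          · rintro ⟨a, rfl⟩; exact ⟨a⁻¹, (J_H_J hG a).symm⟩
          · rintro ⟨a, ha⟩
            refine ⟨a⁻¹, ?_⟩
            rw [← J_H_J hG a, ha, ← mul_assoc, ← mul_assoc, J_mul_J, one_mul, mul_assoc, J_mul_J,
              mul_one]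
        rcases hg with h | h
        · exact Subgroup.le_normalizer h
        · have := mul_mem hJ (Subgroup.le_normalizer h)
          rwa [← mul_assoc, J_mul_J, one_mul] at this
    have hJK : J hG ∉ K := fun h => by
      obtain ⟨a, ha⟩ := h
      have := J_pI (m := m) hG
      rw [← ha, H_pI] at this
      exact pP_ne_pI 0 0 this.symm
    refine (Nat.card_eq_of_bijective (fun x : Fin 2 × K =>
      (⟨(if x.1 = 0 then 1 else J hG) * x.2, (hN _).2 (by
        by_cases h : x.1 = 0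
        · rw [if_pos h, one_mul]; exact Or.inl x.2.2
        · rw [if_neg h, ← mul_assoc, J_mul_J, one_mul]; exact Or.inr x.2.2)⟩ :
        Subgroup.normalizer (K : Set (Cfsg.Sz F m)))) ⟨?_, ?_⟩).symm.trans (by simp [Nat.card_prod])
    · rintro ⟨i, k⟩ ⟨j, l⟩ h
      have h' := congrArg Subtype.val h
      dsimp only at h'
      have : i = j := by
        match i, j with
        | 0, 0 => rfl
        | 1, 1 => rfl
        | 0, 1 =>
          exfalso; apply hJK
          simp only [if_pos, one_mul, one_ne_zero, if_false] at h'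
          rw [show J hG = (k : Cfsg.Sz F m) * (l : Cfsg.Sz F m)⁻¹ by rw [h']; simp]
          exact mul_mem k.2 (inv_mem l.2)
        | 1, 0 =>
          exfalso; apply hJK
          simp only [if_pos, one_mul, one_ne_zero, if_false] at h'
          rw [show J hG = (l : Cfsg.Sz F m) * (k : Cfsg.Sz F m)⁻¹ by rw [← h']; simp]
          exact mul_mem l.2 (inv_mem k.2)
      subst this
      exact Prod.ext rfl (Subtype.ext (mul_left_cancel h'))
    · rintro ⟨g, hg⟩
      rcases (hN g).1 hg with h | h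
      · exact ⟨(0, ⟨g, h⟩), Subtype.ext (by simp)⟩
      · exact ⟨(1, ⟨J hG * g, h⟩), Subtype.ext (by simp [← mul_assoc, J_mul_J])⟩
  · intro a ha ha1
    have hset : fixedBy (Cfsg.suzukiOvoid F m) a = {pI, pP 0 0} := by
      ext p
      refine ⟨fun hp => hfix a ha ha1 p hp, ?_⟩
      obtain ⟨c, rfl⟩ := ha
      rintro (rfl | rfl)
      · exact H_pI hG c
      · exact H_pP_zero hG c
    rw [hset, Nat.card_coe_set_eq, Set.ncard_pair (pP_ne_pI 0 0).symm]

/-- The two nonsplit tori. -/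
theorem exists_nonsplit (k : ℕ) (hk : k ∈ ({2 ^ (2 * m + 1) + 2 ^ (m + 1) + 1,
      2 ^ (2 * m + 1) - 2 ^ (m + 1) + 1} : Set ℕ)) :
    ∃ K : Subgroup (Cfsg.Sz F m), Torus K 4 ∧ Nat.card K = k ∧
      ∀ a ∈ K, a ≠ 1 → Nat.card (fixedBy (Cfsg.suzukiOvoid F m) a) = 0 := by
  obtain ⟨A, -, hA, hcent, hN⟩ := exceptional_subgroups hm hF k hk
  refine ⟨A, ⟨hcent, by rw [hN, hA]⟩, hA, fun a ha ha1 => ?_⟩
  rcases card_fixedBy hm hF ha1 with ⟨-, h⟩ | ⟨hnf, -⟩
  · exact h
  exfalso
  have hG := good_of_card (m := m) hF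
  have hdvd : k ∣ Nat.card F ^ 2 + 1 := by
    rw [Nat.card_eq_fintype_card, hF]
    rcases hk with rfl | rfl
    · exact Dvd.intro _ (torus_facts (m := m) hm).1
    · exact Dvd.intro_left _ (torus_facts (m := m) hm).1
  obtain ⟨p, hp, hpd⟩ := Nat.exists_prime_and_dvd (show orderOf a ≠ 1 from
    fun h => ha1 (orderOf_eq_one_iff.1 h))
  have hpA : p ∣ Nat.card F ^ 2 + 1 := (hpd.trans (Subgroup.orderOf_dvd_natCard A ha)).trans
    (hA ▸ hdvd)
  exact hnf (fpf_of_prime_dvd hm hF hp hpd hpA)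

/-- The Steinberg character. -/
theorem exists_steinberg :
    ∃ St : IrrCharacter (Cfsg.Sz F m), ∀ g : Cfsg.Sz F m,
      (St : Cfsg.Sz F m → ℂ) g = (Nat.card (fixedBy (Cfsg.suzukiOvoid F m) g) : ℂ) - 1 := by
  haveI := pretransitive (F := F) (m := m) (good_of_card hF)
  refine ⟨⟨_, (Cfsg.Agent.S0157.result (Cfsg.suzukiOvoid F m) ?_).2
    (pretransitive_two (good_of_card hF))⟩, fun g => rfl⟩
  exact Finite.one_lt_card_iff_nontrivial.2 ⟨⟨pP 0 0, pI, pP_ne_pI 0 0⟩⟩

end

end Cfsg.Agent.Suzuki.Degree
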