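import Cfsg.Agent.Suzuki.DegreeMain
import Cfsg.Agent.S0840

/-!
Values of the characters of a group with the character table of a Suzuki group, and products of two
conjugates of an element.
-/

set_option autoImplicit false
set_option maxHeartbeats 800000

open scoped ComplexConjugate

namespace Cfsg.Agent.Suzuki.Degree

open Cfsg.Agent.Char

universe u

variable {G : Type u} [Group G]

/-- `g` is a product of two conjugates of `x`. -/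
def Covers (x g : G) : Prop := ∃ u v : G, g = (u * x * u⁻¹) * (v * x * v⁻¹)

theorem Covers.conj {x g : G} (h : Covers x g) (j k : G) : Covers (j * x * j⁻¹) (k * g * k⁻¹) := by
  obtain ⟨u, v, rfl⟩ := h
  exact ⟨k * u * j⁻¹, k * v * j⁻¹, by group⟩

theorem covers_of_conj {x g j k : G} (h : Covers (j * x * j⁻¹) (k * g * k⁻¹)) : Covers x g := by
  have := h.conj j⁻¹ k⁻¹
  simpa [mul_assoc] using this

theorem covers_of_sum_ne [Fintype G] {x g : G} (h : ∑ χ : IrrCharacter G, (χ : G → ℂ) x * (χ : G → ℂ) x *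
    conj ((χ : G → ℂ) g) / (χ : G → ℂ) 1 ≠ 0) : Covers x g := by
  have hc := Cfsg.Agent.S0840.result x x g
  rw [finsum_eq_sum_of_fintype] at hc
  have hpos : (Nat.card {y : G // IsConj x y} : ℂ) ≠ 0 := by
    have : Nonempty {y : G // IsConj x y} := ⟨⟨x, IsConj.refl x⟩⟩
    exact Nat.cast_ne_zero.2 Nat.card_pos.ne'
  have hne : Nat.card {p : G × G // IsConj x p.1 ∧ IsConj x p.2 ∧ p.1 * p.2 = g} ≠ 0 := by
    intro h0
    rw [h0, Nat.cast_zero] at hc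
    exact mul_ne_zero (div_ne_zero (mul_ne_zero hpos hpos)
      (Nat.cast_ne_zero.2 Nat.card_pos.ne')) h hc.symm
  obtain ⟨⟨⟨p₁, p₂⟩, h₁, h₂, h₃⟩⟩ := (Nat.card_ne_zero.1 hne).1
  obtain ⟨u, rfl⟩ := isConj_iff.1 h₁
  obtain ⟨v, rfl⟩ := isConj_iff.1 h₂
  exact ⟨u, v, h₃.symm⟩

/-- Elements of an odd torus with normaliser quotient of even order are real. -/
theorem Torus.real [Finite G] {K : Subgroup G} {e : ℕ} (hK : Torus K e) (he : 2 ∣ e)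
    (hodd : ¬ 2 ∣ Nat.card K) {a : G} (ha : a ∈ K) : IsConj a a⁻¹ := by
  have : Fact (Nat.Prime 2) := ⟨Nat.prime_two⟩
  obtain ⟨⟨t, htN⟩, ht⟩ := exists_prime_orderOf_dvd_card' (G := Subgroup.normalizer (K : Set G)) 2
    (by rw [hK.card_normalizer]; exact he.mul_right _)
  rw [Subgroup.orderOf_mk] at ht
  have htK : t ∉ K := fun h => hodd (ht ▸ Subgroup.orderOf_dvd_natCard K h)
  have htt : t * t = 1 := by rw [← pow_two, ← ht, pow_orderOf_eq_one]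
  have hta : t * a * t⁻¹ ∈ K := (Subgroup.mem_normalizer_iff.1 htN a).1 ha
  refine isConj_iff.2 ⟨t, eq_inv_of_mul_eq_one_right ?_⟩
  by_contra hy
  have hti : t⁻¹ = t := inv_eq_of_mul_eq_one_right htt
  have hcomm := hK.comm a ha _ hta
  have hfix : t * (a * (t * a * t⁻¹)) = a * (t * a * t⁻¹) * t := by
    calc t * (a * (t * a * t⁻¹)) = t * a * t * a * t⁻¹ := by group
      _ = t * a * t⁻¹ * a * t := by rw [hti]
      _ = a * (t * a * t⁻¹) * t := by rw [← hcomm]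
  exact htK ((SetLike.ext_iff.1 (hK.cent _ (mul_mem ha hta) hy) t).1
    (Subgroup.mem_centralizer_singleton_iff.2 hfix))

variable [Fintype G]

theorem col_ne {g h : G} (hne : ¬ IsConj g h) :
    ∑ χ : IrrCharacter G, (χ : G → ℂ) g * conj ((χ : G → ℂ) h) = 0 := by
  rw [second_orthogonality, if_neg hne]

theorem col_self (g : G) :
    ∑ χ : IrrCharacter G, (‖(χ : G → ℂ) g‖ ^ 2 : ℝ) =
      (Nat.card (Subgroup.centralizer ({g} : Set G)) : ℝ) := by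
  have h := second_orthogonality g g
  rw [if_pos (IsConj.refl g)] at h
  have h2 : ((∑ χ : IrrCharacter G, (‖(χ : G → ℂ) g‖ ^ 2 : ℝ) : ℝ) : ℂ) =
      (((Nat.card (Subgroup.centralizer ({g} : Set G)) : ℝ)) : ℂ) := by
    push_cast
    rw [← h]
    exact Finset.sum_congr rfl fun χ _ => (Complex.mul_conj' _).symm
  exact_mod_cast h2

theorem sq_eq_norm {x : G} (hx : IsConj x x⁻¹) (χ : IrrCharacter G) :
    (χ : G → ℂ) x * (χ : G → ℂ) x = ((‖(χ : G → ℂ) x‖ ^ 2 : ℝ) : ℂ) := by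
  obtain ⟨k, hk⟩ := isConj_iff.1 hx
  have h : conj ((χ : G → ℂ) x) = (χ : G → ℂ) x := by
    rw [← IsChar.inv_eq_conj (IsIrr.isCharacter χ.2) x, ← hk]
    exact isClassFunction_of_isIrr χ.2 x k
  have h2 := Complex.mul_conj' ((χ : G → ℂ) x)
  rw [h] at h2
  rw [h2]; push_cast; rfl

variable {one st : IrrCharacter G} {r : ℕ} {K₀ Kp Km : Subgroup G}

theorem Table.decompR (t : Table one st r K₀ Kp Km) (φ : IrrCharacter G → ℝ) :
    ∑ χ, φ χ = φ one + φ st + ∑ χ ∈ t.E₀, φ χ + ∑ χ ∈ t.Ep, φ χ + ∑ χ ∈ t.Em, φ χ +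
      (φ t.w₁ + φ t.w₂) := by
  have h := t.decomp fun χ => (φ χ : ℂ)
  simp only [← Complex.ofReal_sum, ← Complex.ofReal_add] at h
  exact_mod_cast h

/-- An element conjugate into no torus, killed by the Steinberg character. -/
structure TwoEl (st : IrrCharacter G) (K₀ Kp Km : Subgroup G) (g : G) : Prop where
  off : ∀ h, h ∈ K₀ ∨ h ∈ Kp ∨ h ∈ Km → h ≠ 1 → ¬ IsConj h g
  zero : (st : G → ℂ) g = 0

/-- The sum of the values of the two characters of degree `r (q - 1)`. -/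
noncomputable def Table.B (t : Table one st r K₀ Kp Km) (g : G) : ℂ :=
  (t.w₁ : G → ℂ) g + (t.w₂ : G → ℂ) g

section

variable (D : Data one st r K₀ Kp Km) (t : Table one st r K₀ Kp Km) (hr : 2 ≤ r)

include D hr

omit hr in
theorem dg_one : (one : G → ℂ) 1 = 1 := D.hone 1

theorem Table.reals : (Nat.card K₀ : ℝ) = 2 * (r : ℝ) ^ 2 - 1 ∧
    (Nat.card Kp : ℝ) = 2 * (r : ℝ) ^ 2 + 2 * r + 1 ∧
    (Nat.card Km : ℝ) = 2 * (r : ℝ) ^ 2 - 2 * r + 1 := by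
  have h₁ : ((Nat.card K₀ + 1 : ℕ) : ℝ) = ((2 * r ^ 2 : ℕ) : ℝ) := by rw [D.c₀]
  have h₂ : ((Nat.card Kp : ℕ) : ℝ) = ((2 * r ^ 2 + 2 * r + 1 : ℕ) : ℝ) := by rw [D.cp]
  have h₃ : ((Nat.card Km + 2 * r : ℕ) : ℝ) = ((2 * r ^ 2 + 1 : ℕ) : ℝ) := by rw [D.cm]
  push_cast at h₁ h₂ h₃
  exact ⟨by linarith, by linarith, by linarith⟩

theorem odd_cards : ¬ 2 ∣ Nat.card K₀ ∧ ¬ 2 ∣ Nat.card Kp ∧ ¬ 2 ∣ Nat.card Km := by
  have := D.c₀
  have := D.cp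
  have := D.cm
  have : 0 < r ^ 2 := pow_pos (by omega) 2
  omega

omit D hr in
theorem Table.cardsR : (t.E₀.card : ℝ) + 1 = (r : ℝ) ^ 2 ∧ 2 * (t.Ep.card : ℝ) = (r : ℝ) ^ 2 + r ∧
    2 * (t.Em.card : ℝ) + r = (r : ℝ) ^ 2 :=
  ⟨by exact_mod_cast t.card₀, by exact_mod_cast t.cardp, by exact_mod_cast t.cardm⟩

omit hr in
theorem Table.degs : (st : G → ℂ) 1 = 4 * (r : ℂ) ^ 4 ∧
    (∀ χ ∈ t.E₀, (χ : G → ℂ) 1 = 4 * (r : ℂ) ^ 4 + 1) ∧
    (∀ χ ∈ t.Ep, (χ : G → ℂ) 1 = (2 * (r : ℂ) ^ 2 - 1) * (2 * (r : ℂ) ^ 2 - 2 * r + 1)) ∧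
    (∀ χ ∈ t.Em, (χ : G → ℂ) 1 = (2 * (r : ℂ) ^ 2 - 1) * (2 * (r : ℂ) ^ 2 + 2 * r + 1)) ∧
    (∀ χ, χ = t.w₁ ∨ χ = t.w₂ → (χ : G → ℂ) 1 = (r : ℂ) * (2 * (r : ℂ) ^ 2 - 1)) := by
  refine ⟨?_, fun χ h => ?_, fun χ h => ?_, fun χ h => ?_, fun χ h => ?_⟩
  · rw [(dg_spec st).2, D.st1]; push_cast; rfl
  · rw [(dg_spec χ).2, t.deg₀ χ h]; push_cast; rfl
  · rw [(dg_spec χ).2, ← Int.cast_natCast, t.degp χ h]; push_cast; rfl
  · rw [(dg_spec χ).2, ← Int.cast_natCast, t.degm χ h]; push_cast; rfl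
  · rw [(dg_spec χ).2, ← Int.cast_natCast, t.degw χ h]; push_cast; rfl

theorem degs_ne : (r : ℂ) ≠ 0 ∧ (2 * (r : ℂ) ^ 2 - 1) ≠ 0 ∧ (2 * (r : ℂ) ^ 2 - 2 * r + 1) ≠ 0 ∧
    (2 * (r : ℂ) ^ 2 + 2 * r + 1) ≠ 0 ∧ (4 * (r : ℂ) ^ 4 + 1) ≠ 0 := by
  have hR : (2 : ℝ) ≤ r := by exact_mod_cast hr
  have h1 : (2 * (r : ℝ) ^ 2 - 1) ≠ 0 := by nlinarith
  have h2 : (2 * (r : ℝ) ^ 2 - 2 * r + 1) ≠ 0 := by nlinarith
  refine ⟨Nat.cast_ne_zero.2 (by omega), ?_, ?_, ?_, ?_⟩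
  · exact_mod_cast h1
  · exact_mod_cast h2
  · exact_mod_cast Nat.succ_ne_zero (2 * r ^ 2 + 2 * r)
  · exact_mod_cast Nat.succ_ne_zero (4 * r ^ 4)

/-- On the split torus. -/
theorem Table.moments₀ {a : G} (ha : a ∈ K₀) (h1 : a ≠ 1) :
    ∑ χ ∈ t.E₀, (χ : G → ℂ) a = -1 ∧
    ∑ χ ∈ t.E₀, ‖(χ : G → ℂ) a‖ ^ 2 = (Nat.card K₀ : ℝ) - 2 := by
  obtain ⟨dst, d0, -, -, -⟩ := t.degs D
  obtain ⟨-, -, -, -, hne⟩ := degs_ne D hr
  refine ⟨?_, ?_⟩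
  · have h := col_ne (g := a) (h := (1 : G)) (fun h => h1 (isConj_one_left.1 h))
    rw [t.decomp, D.hone, D.hone, D.st₀ a ha h1, dst,
      Finset.sum_congr rfl (fun (χ : IrrCharacter G) hχ => show (χ : G → ℂ) a * conj ((χ : G → ℂ) 1) =
        (χ : G → ℂ) a * (4 * (r : ℂ) ^ 4 + 1) by rw [d0 χ hχ]; simp [map_ofNat]) (s₁ := t.E₀),
      ← Finset.sum_mul,
      Finset.sum_eq_zero (fun χ hχ => by rw [t.zero₀ a ha h1 χ (Or.inl hχ), zero_mul]) (s := t.Ep),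
      Finset.sum_eq_zero (fun χ hχ => by rw [t.zero₀ a ha h1 χ (Or.inr (Or.inl hχ)), zero_mul])
        (s := t.Em),
      t.zero₀ a ha h1 t.w₁ (by tauto), t.zero₀ a ha h1 t.w₂ (by tauto)] at h
    simp [map_ofNat] at h
    refine mul_right_cancel₀ hne ?_
    linear_combination h
  · have h := col_self a
    rw [t.decompR, D.t₀.cent a ha h1, D.hone, D.st₀ a ha h1,
      Finset.sum_eq_zero (fun χ hχ => by rw [t.zero₀ a ha h1 χ (Or.inl hχ)]; simp) (s := t.Ep),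
      Finset.sum_eq_zero (fun χ hχ => by rw [t.zero₀ a ha h1 χ (Or.inr (Or.inl hχ))]; simp)
        (s := t.Em),
      t.zero₀ a ha h1 t.w₁ (by tauto), t.zero₀ a ha h1 t.w₂ (by tauto)] at h
    simp [map_ofNat] at h
    linarith

omit D hr in
theorem unit_sum {Q A : ℂ} {M : ℂ} {R S k : ℤ} (hM : IsIntegral ℤ M) (hA : A ≠ 0) (hk : A = k)
    (hQ : Q ≠ 0) (h : Q * (A * M) = Q * (k + R + S)) (hsmall : k ∣ R + S → R + S = 0) : M = 1 := by
  have hA' : (k : ℚ) ≠ 0 := by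
    intro e
    exact hA (by rw [hk]; exact_mod_cast e)
  have hM' : M = ((((k : ℚ) + R + S) / k : ℚ) : ℂ) := by
    have := mul_left_cancel₀ hQ h
    push_cast
    rw [hk] at this hA
    rw [eq_div_iff hA]
    linear_combination this
  obtain ⟨n, hn⟩ := exists_int_of_isIntegral_rat (hM' ▸ hM)
  rw [eq_div_iff hA'] at hn
  have hn' : n * k = k + R + S := by exact_mod_cast hn
  have h0 := hsmall ⟨n - 1, by linear_combination -hn'⟩
  rw [hM']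
  push_cast
  rw [← hk, div_eq_one_iff_eq hA, hk]
  exact_mod_cast (by linarith : k + R + S = k)

/-- On the torus of order `q + 2r + 1`. -/
theorem Table.momentsp {a : G} (ha : a ∈ Kp) (h1 : a ≠ 1) :
    ∑ χ ∈ t.Ep, (χ : G → ℂ) a = 1 ∧
    ∑ χ ∈ t.Ep, ‖(χ : G → ℂ) a‖ ^ 2 = (Nat.card Kp : ℝ) - 4 ∧
    (t.w₁ : G → ℂ) a = 1 ∧ (t.w₂ : G → ℂ) a = 1 := by
  obtain ⟨dst, -, dp, -, dw⟩ := t.degs D
  obtain ⟨hr0, hQ, hA, -, -⟩ := degs_ne D hr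
  have hs : ∃ S : ℤ, (t.w₁ : G → ℂ) a + (t.w₂ : G → ℂ) a = S ∧ (S = 2 ∨ S = 0 ∨ S = -2) ∧
      (S = 2 → (t.w₁ : G → ℂ) a = 1 ∧ (t.w₂ : G → ℂ) a = 1) := by
    rcases t.unitp a ha h1 t.w₁ (Or.inl rfl) with e | e <;>
      rcases t.unitp a ha h1 t.w₂ (Or.inr rfl) with e' | e' <;> rw [e, e']
    · exact ⟨2, by norm_num, Or.inl rfl, fun _ => ⟨rfl, rfl⟩⟩
    · exact ⟨0, by norm_num, Or.inr (Or.inl rfl), fun h => absurd h (by norm_num)⟩
    · exact ⟨0, by norm_num, Or.inr (Or.inl rfl), fun h => absurd h (by norm_num)⟩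
    · exact ⟨-2, by norm_num, Or.inr (Or.inr rfl), fun h => absurd h (by norm_num)⟩
  obtain ⟨S, hS, hS3, hS2⟩ := hs
  set M := ∑ χ ∈ t.Ep, (χ : G → ℂ) a with hM
  have hint : IsIntegral ℤ M :=
    IsIntegral.sum _ fun χ _ => IsChar.isIntegral (IsIrr.isCharacter χ.2) a
  have hid : (2 * (r : ℂ) ^ 2 - 1) * ((2 * (r : ℂ) ^ 2 - 2 * r + 1) * M) =
      (2 * (r : ℂ) ^ 2 - 1) * (((2 * (r : ℤ) ^ 2 - 2 * r + 1 : ℤ) : ℂ) + ((2 * r : ℤ) : ℂ) +
        ((-(r * S) : ℤ) : ℂ)) := by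
    have h := col_ne (g := a) (h := (1 : G)) (fun h => h1 (isConj_one_left.1 h))
    rw [t.decomp, D.hone, D.hone, D.stp a ha h1, dst,
      Finset.sum_congr rfl (fun (χ : IrrCharacter G) hχ => show (χ : G → ℂ) a * conj ((χ : G → ℂ) 1) =
        (χ : G → ℂ) a * ((2 * (r : ℂ) ^ 2 - 1) * (2 * (r : ℂ) ^ 2 - 2 * r + 1)) by
          rw [dp χ hχ]; simp [map_ofNat]) (s₁ := t.Ep),
      ← Finset.sum_mul, ← hM,
      Finset.sum_eq_zero (fun χ hχ => by rw [t.zerop a ha h1 χ (Or.inl hχ), zero_mul]) (s := t.E₀),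
      Finset.sum_eq_zero (fun χ hχ => by rw [t.zerop a ha h1 χ (Or.inr hχ), zero_mul]) (s := t.Em),
      dw t.w₁ (Or.inl rfl), dw t.w₂ (Or.inr rfl)] at h
    simp [map_ofNat] at h
    push_cast
    linear_combination h - (r : ℂ) * (2 * (r : ℂ) ^ 2 - 1) * hS
  have hsmall : (2 * (r : ℤ) ^ 2 - 2 * r + 1) ∣ (2 * r : ℤ) + -(r * S) →
      (2 * r : ℤ) + -(r * S) = 0 := by
    intro hd
    have hR : (2 : ℤ) ≤ r := by exact_mod_cast hr
    rcases hS3 with rfl | rfl | rfl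
    · ring
    · have h0 := Int.eq_zero_of_abs_lt_dvd hd (by
        rw [abs_of_nonneg (by simp)]; nlinarith)
      linarith
    · rcases eq_or_lt_of_le hR with e | e
      · rw [← e] at hd; norm_num at hd
      · have h0 := Int.eq_zero_of_abs_lt_dvd hd (by
          rw [abs_of_nonneg (by linarith)]; nlinarith)
        linarith
  have hM1 := unit_sum hint hA (by push_cast; rfl) hQ hid hsmall
  have hS' : S = 2 := by
    rw [hM1, mul_one] at hid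
    have h2 := mul_left_cancel₀ hQ hid
    push_cast at h2
    have h3 : (r : ℂ) * (S : ℂ) = (r : ℂ) * 2 := by linear_combination h2
    exact_mod_cast mul_left_cancel₀ hr0 h3
  obtain ⟨e1, e2⟩ := hS2 hS'
  refine ⟨hM1, ?_, e1, e2⟩
  have h := col_self a
  rw [t.decompR, D.tp.cent a ha h1, D.hone, D.stp a ha h1, e1, e2,
    Finset.sum_eq_zero (fun χ hχ => by rw [t.zerop a ha h1 χ (Or.inl hχ)]; simp) (s := t.E₀),
    Finset.sum_eq_zero (fun χ hχ => by rw [t.zerop a ha h1 χ (Or.inr hχ)]; simp) (s := t.Em)] at h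
  simp at h
  linarith

/-- On the torus of order `q - 2r + 1`. -/
theorem Table.momentsm {a : G} (ha : a ∈ Km) (h1 : a ≠ 1) :
    ∑ χ ∈ t.Em, (χ : G → ℂ) a = 1 ∧
    ∑ χ ∈ t.Em, ‖(χ : G → ℂ) a‖ ^ 2 = (Nat.card Km : ℝ) - 4 ∧
    (t.w₁ : G → ℂ) a = -1 ∧ (t.w₂ : G → ℂ) a = -1 := by
  obtain ⟨dst, -, -, dm, dw⟩ := t.degs D
  obtain ⟨hr0, hQ, -, hA, -⟩ := degs_ne D hr
  have hs : ∃ S : ℤ, (t.w₁ : G → ℂ) a + (t.w₂ : G → ℂ) a = S ∧ (S = 2 ∨ S = 0 ∨ S = -2) ∧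
      (S = -2 → (t.w₁ : G → ℂ) a = -1 ∧ (t.w₂ : G → ℂ) a = -1) := by
    rcases t.unitm a ha h1 t.w₁ (Or.inl rfl) with e | e <;>
      rcases t.unitm a ha h1 t.w₂ (Or.inr rfl) with e' | e' <;> rw [e, e']
    · exact ⟨2, by norm_num, Or.inl rfl, fun h => absurd h (by norm_num)⟩
    · exact ⟨0, by norm_num, Or.inr (Or.inl rfl), fun h => absurd h (by norm_num)⟩
    · exact ⟨0, by norm_num, Or.inr (Or.inl rfl), fun h => absurd h (by norm_num)⟩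
    · exact ⟨-2, by norm_num, Or.inr (Or.inr rfl), fun _ => ⟨rfl, rfl⟩⟩
  obtain ⟨S, hS, hS3, hS2⟩ := hs
  set M := ∑ χ ∈ t.Em, (χ : G → ℂ) a with hM
  have hint : IsIntegral ℤ M :=
    IsIntegral.sum _ fun χ _ => IsChar.isIntegral (IsIrr.isCharacter χ.2) a
  have hid : (2 * (r : ℂ) ^ 2 - 1) * ((2 * (r : ℂ) ^ 2 + 2 * r + 1) * M) =
      (2 * (r : ℂ) ^ 2 - 1) * (((2 * (r : ℤ) ^ 2 + 2 * r + 1 : ℤ) : ℂ) + ((-(2 * r) : ℤ) : ℂ) +
        ((-(r * S) : ℤ) : ℂ)) := by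
    have h := col_ne (g := a) (h := (1 : G)) (fun h => h1 (isConj_one_left.1 h))
    rw [t.decomp, D.hone, D.hone, D.stm a ha h1, dst,
      Finset.sum_congr rfl (fun (χ : IrrCharacter G) hχ => show (χ : G → ℂ) a * conj ((χ : G → ℂ) 1) =
        (χ : G → ℂ) a * ((2 * (r : ℂ) ^ 2 - 1) * (2 * (r : ℂ) ^ 2 + 2 * r + 1)) by
          rw [dm χ hχ]; simp [map_ofNat]) (s₁ := t.Em),
      ← Finset.sum_mul, ← hM,
      Finset.sum_eq_zero (fun χ hχ => by rw [t.zerom a ha h1 χ (Or.inl hχ), zero_mul]) (s := t.E₀),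
      Finset.sum_eq_zero (fun χ hχ => by rw [t.zerom a ha h1 χ (Or.inr hχ), zero_mul]) (s := t.Ep),
      dw t.w₁ (Or.inl rfl), dw t.w₂ (Or.inr rfl)] at h
    simp [map_ofNat] at h
    push_cast
    linear_combination h - (r : ℂ) * (2 * (r : ℂ) ^ 2 - 1) * hS
  have hsmall : (2 * (r : ℤ) ^ 2 + 2 * r + 1) ∣ (-(2 * r) : ℤ) + -(r * S) →
      (-(2 * r) : ℤ) + -(r * S) = 0 := by
    intro hd
    have hR : (2 : ℤ) ≤ r := by exact_mod_cast hr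
    refine Int.eq_zero_of_abs_lt_dvd hd ?_
    rcases hS3 with rfl | rfl | rfl <;> rw [abs_lt] <;> constructor <;> nlinarith
  have hM1 := unit_sum hint hA (by push_cast; rfl) hQ hid hsmall
  have hS' : S = -2 := by
    rw [hM1, mul_one] at hid
    have h2 := mul_left_cancel₀ hQ hid
    push_cast at h2
    have h3 : (r : ℂ) * (S : ℂ) = (r : ℂ) * (-2) := by linear_combination h2
    exact_mod_cast mul_left_cancel₀ hr0 h3
  obtain ⟨e1, e2⟩ := hS2 hS'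
  refine ⟨hM1, ?_, e1, e2⟩
  have h := col_self a
  rw [t.decompR, D.tm.cent a ha h1, D.hone, D.stm a ha h1, e1, e2,
    Finset.sum_eq_zero (fun χ hχ => by rw [t.zerom a ha h1 χ (Or.inl hχ)]; simp) (s := t.E₀),
    Finset.sum_eq_zero (fun χ hχ => by rw [t.zerom a ha h1 χ (Or.inr hχ)]; simp) (s := t.Ep)] at h
  simp at h
  linarith

/-- The values of the families off the tori. -/
theorem Table.two_values {g : G} (hg : TwoEl st K₀ Kp Km g) :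
    (∀ χ ∈ t.E₀, (χ : G → ℂ) g = 1) ∧ (∀ χ ∈ t.Ep, (χ : G → ℂ) g = -1 - t.B g) ∧
    (∀ χ ∈ t.Em, (χ : G → ℂ) g = t.B g - 1) := by
  obtain ⟨h7, h13, h5, -⟩ := D.sizes hr
  have pick : ∀ K : Subgroup G, 2 ≤ Nat.card K → ∃ a ∈ K, a ≠ 1 := fun K hK => by
    obtain ⟨⟨a, ha⟩, ha'⟩ := Subgroup.ne_bot_iff_exists_ne_one.1 (bot_ne hK)
    exact ⟨a, ha, fun h => ha' (Subtype.ext h)⟩
  refine ⟨fun ψ hψ => ?_, fun ψ hψ => ?_, fun ψ hψ => ?_⟩
  · obtain ⟨a, ha, h1⟩ := pick K₀ (by omega)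
    have h := col_ne (g := g) (h := a) (fun h => hg.off a (Or.inl ha) h1 h.symm)
    rw [t.decomp, D.hone, D.hone, hg.zero,
      Finset.sum_congr rfl (fun (χ : IrrCharacter G) hχ => show (χ : G → ℂ) g * conj ((χ : G → ℂ) a) =
        (ψ : G → ℂ) g * conj ((χ : G → ℂ) a) by
          rw [t.same g hg.off χ ψ (Or.inl ⟨hχ, hψ⟩)]) (s₁ := t.E₀),
      ← Finset.mul_sum, ← map_sum, (t.moments₀ D hr ha h1).1,
      Finset.sum_eq_zero (fun χ hχ => by rw [t.zero₀ a ha h1 χ (Or.inl hχ)]; simp) (s := t.Ep),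
      Finset.sum_eq_zero (fun χ hχ => by rw [t.zero₀ a ha h1 χ (Or.inr (Or.inl hχ))]; simp)
        (s := t.Em),
      t.zero₀ a ha h1 t.w₁ (by tauto), t.zero₀ a ha h1 t.w₂ (by tauto)] at h
    simp [map_ofNat] at h
    linear_combination -h
  · obtain ⟨a, ha, h1⟩ := pick Kp (by omega)
    have h := col_ne (g := g) (h := a) (fun h => hg.off a (Or.inr (Or.inl ha)) h1 h.symm)
    obtain ⟨m1, -, w1, w2⟩ := t.momentsp D hr ha h1
    rw [t.decomp, D.hone, D.hone, hg.zero,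
      Finset.sum_congr rfl (fun (χ : IrrCharacter G) hχ => show (χ : G → ℂ) g * conj ((χ : G → ℂ) a) =
        (ψ : G → ℂ) g * conj ((χ : G → ℂ) a) by
          rw [t.same g hg.off χ ψ (Or.inr (Or.inl ⟨hχ, hψ⟩))]) (s₁ := t.Ep),
      ← Finset.mul_sum, ← map_sum, m1, w1, w2,
      Finset.sum_eq_zero (fun χ hχ => by rw [t.zerop a ha h1 χ (Or.inl hχ)]; simp) (s := t.E₀),
      Finset.sum_eq_zero (fun χ hχ => by rw [t.zerop a ha h1 χ (Or.inr hχ)]; simp) (s := t.Em)] at h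
    simp [map_ofNat] at h
    rw [Table.B]
    linear_combination h
  · obtain ⟨a, ha, h1⟩ := pick Km (by omega)
    have h := col_ne (g := g) (h := a) (fun h => hg.off a (Or.inr (Or.inr ha)) h1 h.symm)
    obtain ⟨m1, -, w1, w2⟩ := t.momentsm D hr ha h1
    rw [t.decomp, D.hone, D.hone, hg.zero,
      Finset.sum_congr rfl (fun (χ : IrrCharacter G) hχ => show (χ : G → ℂ) g * conj ((χ : G → ℂ) a) =
        (ψ : G → ℂ) g * conj ((χ : G → ℂ) a) by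
          rw [t.same g hg.off χ ψ (Or.inr (Or.inr ⟨hχ, hψ⟩))]) (s₁ := t.Em),
      ← Finset.mul_sum, ← map_sum, m1, w1, w2,
      Finset.sum_eq_zero (fun χ hχ => by rw [t.zerom a ha h1 χ (Or.inl hχ)]; simp) (s := t.E₀),
      Finset.sum_eq_zero (fun χ hχ => by rw [t.zerom a ha h1 χ (Or.inr hχ)]; simp) (s := t.Ep)] at h
    simp [map_ofNat] at h
    rw [Table.B]
    linear_combination h

/-- The order of the centraliser of an element conjugate into no torus. -/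
theorem Table.two_norm {g : G} (hg : TwoEl st K₀ Kp Km g) :
    (Nat.card (Subgroup.centralizer ({g} : Set G)) : ℝ) = (r : ℝ) ^ 2 +
      t.Ep.card * ‖-1 - t.B g‖ ^ 2 + t.Em.card * ‖t.B g - 1‖ ^ 2 +
      (‖(t.w₁ : G → ℂ) g‖ ^ 2 + ‖(t.w₂ : G → ℂ) g‖ ^ 2) := by
  obtain ⟨v0, vp, vm⟩ := t.two_values D hr hg
  rw [← col_self g, t.decompR, D.hone, hg.zero,
    Finset.sum_congr rfl (fun χ hχ => show ‖(χ : G → ℂ) g‖ ^ 2 = (1 : ℝ) by rw [v0 χ hχ]; simp)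
      (s₁ := t.E₀),
    Finset.sum_congr rfl (fun χ hχ => show ‖(χ : G → ℂ) g‖ ^ 2 = ‖-1 - t.B g‖ ^ 2 by rw [vp χ hχ])
      (s₁ := t.Ep),
    Finset.sum_congr rfl (fun χ hχ => show ‖(χ : G → ℂ) g‖ ^ 2 = ‖t.B g - 1‖ ^ 2 by rw [vm χ hχ])
      (s₁ := t.Em),
    Finset.sum_const, Finset.sum_const, Finset.sum_const, ← (t.cardsR).1]
  simp [nsmul_eq_mul]
  ring

end

end Cfsg.Agent.Suzuki.Degree
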