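import Cfsg.Agent.RankOne.SuzukiOvoid
import Cfsg.Agent.PrimeGraph.SuzukiFixed

/-!
The generators of the Suzuki groups as matrices, the description of the ovoid by the polarity, and
its invariance under the twisted group.
-/

set_option autoImplicit false

namespace Cfsg.Agent.Suzuki

open Matrix Cfsg.Agent.RankOne.Ovoid

variable {F : Type*} [Field F] {m : ℕ}

/-- Translation matrices. -/
def translMat (m : ℕ) (a b : F) : Matrix (Fin 4) (Fin 4) F :=
  !![1, a, b + a * a ^ (2 ^ (m + 1)), vPt m a b 0; 0, 1, a ^ (2 ^ (m + 1)), b; 0, 0, 1, a;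
    0, 0, 0, 1]

/-- The inversion matrix. -/
def revMat (F : Type*) [Field F] : Matrix (Fin 4) (Fin 4) F :=
  !![0, 0, 0, 1; 0, 0, 1, 0; 0, 1, 0, 0; 1, 0, 0, 0]

/-- The diagonal of the torus element with parameter `a`. -/
def torVec (m : ℕ) (a : F) : Fin 4 → F :=
  ![a, a ^ (2 ^ (m + 1)) / a, a / a ^ (2 ^ (m + 1)), a⁻¹]

/-- The torus matrices. -/
def torMat (m : ℕ) (a : F) : Matrix (Fin 4) (Fin 4) F := Matrix.diagonal (torVec m a)

theorem translMat_mulVec (a b : F) (v : Fin 4 → F) : translMat m a b *ᵥ v = transl m a b v := by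
  funext i
  fin_cases i <;>
    simp [translMat, transl, Matrix.mulVec, dotProduct, Fin.sum_univ_four]

theorem revMat_mulVec (v : Fin 4 → F) : revMat F *ᵥ v = inver v := by
  funext i
  fin_cases i <;> simp [revMat, inver, Matrix.mulVec, dotProduct, Fin.sum_univ_four]

theorem det_translMat (a b : F) : (translMat m a b).det = 1 := by
  simp [translMat, Matrix.det_succ_row_zero, Fin.sum_univ_succ, Fin.succAbove]

theorem det_revMat : (revMat F).det = 1 := by
  simp [revMat, Matrix.det_succ_row_zero, Fin.sum_univ_succ, Fin.succAbove] <;> norm_num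

theorem det_torMat {a : F} (ha : a ≠ 0) : (torMat m a).det = 1 := by
  simp [torMat, Matrix.det_diagonal, Fin.prod_univ_four, torVec]
  field_simp

theorem revMat_eq_J4 : revMat F = PrimeGraph.J4 F := rfl

/-- `σ` is injective. -/
theorem sigma_inj (hG : Good F m) {x y : F} (h : x ^ (2 ^ (m + 1)) = y ^ (2 ^ (m + 1))) : x = y := by
  have h2 := congrArg (fun z => z ^ (2 ^ (m + 1))) h
  simp only [hG.sq] at h2
  have h3 : (x - y) ^ 2 = 0 := by
    have := hG.two
    grind
  exact sub_eq_zero.mp (eq_zero_of_pow_eq_zero h3)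

/-- A fixed element of `σ` is `0` or `1`. -/
theorem sigma_fix (hG : Good F m) {x : F} (h : x ^ (2 ^ (m + 1)) = x) : x = 0 ∨ x = 1 := by
  have h2 := hG.sq x
  rw [h, h, pow_two] at h2
  rcases eq_or_ne x 0 with h0 | h0
  · exact Or.inl h0
  · exact Or.inr (mul_left_cancel₀ h0 (h2.symm.trans (mul_one x).symm))

theorem sigma_ne_zero : (2 : ℕ) ^ (m + 1) ≠ 0 := by positivity

/-- `σ` is additive on sums. -/
theorem sigma_sum (hG : Good F m) {ι : Type*} (s : Finset ι) (f : ι → F) :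
    (∑ i ∈ s, f i) ^ (2 ^ (m + 1)) = ∑ i ∈ s, f i ^ (2 ^ (m + 1)) := by
  classical
  induction s using Finset.induction with
  | empty => simp
  | insert a s ha ih => simp [Finset.sum_insert ha, hG.add, ih]

/-- The twisted minors of two vectors. -/
def minors (v u : Fin 4 → F) : Fin 4 → F := fun p =>
  v (Lie.pairOf p).1 * u (Lie.pairOf p).2 - v (Lie.pairOf p).2 * u (Lie.pairOf p).1

/-- `v` is absolute for the polarity. -/
def Polar (m : ℕ) (v : Fin 4 → F) : Prop :=
  ∃ (u : Fin 4 → F) (c : F), c ≠ 0 ∧ B v u = 0 ∧ ∀ p, minors v u p = c * v p ^ (2 ^ (m + 1))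

theorem polar_of_onOvoid (hG : Good F m) {v : Fin 4 → F} (hv : OnOvoid m v) : Polar m v := by
  have h2 := hG.two
  obtain ⟨d, hd, rfl | ⟨x, y, rfl⟩⟩ := hv
  · refine ⟨![0, 1, 0, 0], d / d ^ (2 ^ (m + 1)), by simp [hd], by simp [B, vInf], ?_⟩
    intro p
    fin_cases p <;> simp [minors, Lie.pairOf, vInf, hd]
  · refine ⟨![y + x * x ^ (2 ^ (m + 1)), x ^ (2 ^ (m + 1)), 1, 0], d / d ^ (2 ^ (m + 1)),
      by simp [hd], ?_, ?_⟩
    · simp [B, vPt]; grind
    · intro p
      have hpx : (x * y) ^ (2 ^ (m + 1)) = x ^ (2 ^ (m + 1)) * y ^ (2 ^ (m + 1)) := mul_pow _ _ _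
      have hp1 : (x ^ 2) ^ (2 ^ (m + 1)) = (x ^ (2 ^ (m + 1))) ^ 2 := by
        rw [← pow_mul, ← pow_mul, mul_comm]
      fin_cases p <;> simp [minors, Lie.pairOf, vPt, mul_pow, hd]
      · rw [pow_add x _ 2, hG.add, hG.add, mul_pow, mul_pow, hG.sq, hG.sq, hp1]
        field_simp
        grind
      all_goals field_simp
      all_goals grind

theorem onOvoid_of_polar (hG : Good F m) {v : Fin 4 → F} (hv : v ≠ 0) (h : Polar m v) :
    OnOvoid m v := by
  have h2 := hG.two
  obtain ⟨u, c, hc, hB, hp⟩ := h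
  have e0 : v 0 * u 1 - v 1 * u 0 = c * v 0 ^ (2 ^ (m + 1)) := hp 0
  have e1 : v 0 * u 2 - v 2 * u 0 = c * v 1 ^ (2 ^ (m + 1)) := hp 1
  have e2 : v 1 * u 3 - v 3 * u 1 = c * v 2 ^ (2 ^ (m + 1)) := hp 2
  have e3 : v 2 * u 3 - v 3 * u 2 = c * v 3 ^ (2 ^ (m + 1)) := hp 3
  simp only [B] at hB
  by_cases h3 : v 3 = 0
  · rw [h3, zero_mul, sub_zero] at e2
    rw [h3, zero_mul, sub_zero, zero_pow sigma_ne_zero, mul_zero] at e3
    rw [h3, zero_mul, add_zero] at hB
    have hx : v 2 = 0 := by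
      rcases mul_eq_zero.mp e3 with hx | hu
      · exact hx
      · rw [hu, mul_zero, eq_comm, mul_eq_zero, or_iff_right hc] at e2
        exact eq_zero_of_pow_eq_zero e2
    rw [hx, zero_pow sigma_ne_zero, mul_zero] at e2
    rw [hx, zero_mul, sub_zero] at e1
    rw [hx, zero_mul, add_zero] at hB
    have hy : v 1 = 0 := by
      rcases mul_eq_zero.mp e2 with hy | hu
      · exact hy
      · rw [hu, mul_zero, zero_add, mul_eq_zero] at hB
        rcases hB with hy | hu2
        · exact hy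
        · rw [hu2, mul_zero, eq_comm, mul_eq_zero, or_iff_right hc] at e1
          exact eq_zero_of_pow_eq_zero e1
    have h0 : v 0 ≠ 0 := fun h0 => hv (by funext i; fin_cases i <;> assumption)
    refine ⟨v 0, h0, Or.inl ?_⟩
    funext i
    fin_cases i <;> simp [vInf, h3, hx, hy]
  · obtain ⟨z, hz⟩ : ∃ z, v 0 = v 3 * z := ⟨v 0 / v 3, by field_simp⟩
    obtain ⟨y, hy⟩ : ∃ y, v 1 = v 3 * y := ⟨v 1 / v 3, by field_simp⟩
    obtain ⟨x, hx⟩ : ∃ x, v 2 = v 3 * x := ⟨v 2 / v 3, by field_simp⟩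
    obtain ⟨d, hd, hdd⟩ : ∃ d, d ≠ 0 ∧ c * v 3 ^ (2 ^ (m + 1)) = v 3 * d :=
      ⟨c * v 3 ^ (2 ^ (m + 1)) / v 3,
        div_ne_zero (mul_ne_zero hc (pow_ne_zero _ h3)) h3, by field_simp⟩
    rw [hz, hy, mul_pow] at e0
    rw [hz, hx, hy, mul_pow] at e1
    rw [hy, hx, mul_pow] at e2
    rw [hx] at e3
    rw [hz, hy, hx] at hB
    have f0 : z * u 1 - y * u 0 = d * z ^ (2 ^ (m + 1)) := by
      apply mul_left_cancel₀ h3; linear_combination e0 + z ^ (2 ^ (m + 1)) * hdd
    have f1 : z * u 2 - x * u 0 = d * y ^ (2 ^ (m + 1)) := by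
      apply mul_left_cancel₀ h3; linear_combination e1 + y ^ (2 ^ (m + 1)) * hdd
    have f2 : y * u 3 - u 1 = d * x ^ (2 ^ (m + 1)) := by
      apply mul_left_cancel₀ h3; linear_combination e2 + x ^ (2 ^ (m + 1)) * hdd
    have f3 : x * u 3 - u 2 = d := by
      apply mul_left_cancel₀ h3; linear_combination e3 + hdd
    have f4 : z * u 3 + y * u 2 + x * u 1 + u 0 = 0 := by
      apply mul_left_cancel₀ h3; linear_combination hB
    refine ⟨v 3, h3, Or.inr ⟨x, y, ?_⟩⟩
    have hzf : z = vPt m x y 0 := by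
      apply mul_left_cancel₀ hd
      rw [vPt_zero, pow_add x _ 2]
      grind
    funext i
    fin_cases i <;> simp [hz, hy, hx, hzf, vPt]

theorem polar_image (hG : Good F m) [CharP F 2] {g : Matrix (Fin 4) (Fin 4) F}
    (hs : PrimeGraph.IsSymp g)
    (hst : Lie.star4 g = g.map fun x => x ^ (2 ^ (m + 1))) {v : Fin 4 → F} (h : Polar m v) :
    Polar m (g *ᵥ v) := by
  obtain ⟨u, c, hc, hB, hp⟩ := h
  refine ⟨g *ᵥ u, c, hc, ?_, fun p => ?_⟩
  · rw [← hB]
    have hB' : ∀ u v : Fin 4 → F, B u v = u ⬝ᵥ (PrimeGraph.J4 F *ᵥ v) := fun u v => by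
      simp [B, PrimeGraph.J4, dotProduct, Matrix.mulVec, Fin.sum_univ_four]
    rw [hB', hB', Matrix.mulVec_mulVec, Matrix.dotProduct_mulVec, Matrix.vecMul_mulVec,
      ← mul_assoc, hs, ← Matrix.dotProduct_mulVec]
  · have h1 := PrimeGraph.minor_mul (g (Lie.pairOf p).1) (g (Lie.pairOf p).2) v u
      (by rw [hs.rows, PrimeGraph.J4_pair]) hB
    have hrow : ∀ r, Lie.star4 g p r = g p r ^ (2 ^ (m + 1)) := fun r => by rw [hst]; rfl
    have hfin : g (Lie.pairOf p).1 ⬝ᵥ v * g (Lie.pairOf p).2 ⬝ᵥ u -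
        g (Lie.pairOf p).2 ⬝ᵥ v * g (Lie.pairOf p).1 ⬝ᵥ u =
        ∑ r, Lie.star4 g p r * minors v u r := by
      rw [h1, Fin.sum_univ_four]
      simp [Lie.star4, minors, Lie.pairOf]
    show g (Lie.pairOf p).1 ⬝ᵥ v * g (Lie.pairOf p).2 ⬝ᵥ u -
      g (Lie.pairOf p).2 ⬝ᵥ v * g (Lie.pairOf p).1 ⬝ᵥ u = c * (g p ⬝ᵥ v) ^ (2 ^ (m + 1))
    rw [hfin, dotProduct, sigma_sum hG, Finset.mul_sum]
    exact Finset.sum_congr rfl fun r _ => by rw [hrow, hp, mul_pow]; ring

theorem translMat_symp (hG : Good F m) (a b : F) : PrimeGraph.IsSymp (translMat m a b) := by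
  ext i j
  rw [PrimeGraph.gram_apply]
  show B (fun k => translMat m a b k i) (fun k => translMat m a b k j) = _
  have h : ∀ i, (fun k => translMat m a b k i) = transl m a b (Pi.single i 1) := fun i => by
    rw [← translMat_mulVec, Matrix.mulVec_single_one]; rfl
  rw [h, h, transl_B hG]
  fin_cases i <;> fin_cases j <;> simp [B, PrimeGraph.J4]

theorem translMat_star (hG : Good F m) (a b : F) :
    Lie.star4 (translMat m a b) = (translMat m a b).map fun x => x ^ (2 ^ (m + 1)) := by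
  have h2 := hG.two
  have hp1 : (a ^ 2) ^ (2 ^ (m + 1)) = (a ^ (2 ^ (m + 1))) ^ 2 := by
    rw [← pow_mul, ← pow_mul, mul_comm]
  ext i j
  fin_cases i <;> fin_cases j <;>
    simp [Lie.star4, translMat, Lie.pairOf, vPt, hG.add, hG.sq, mul_pow, pow_add a (2 ^ (m + 1)) 2, hp1,
      zero_pow sigma_ne_zero] <;>
    grind

theorem torMat_symp {a : F} (ha : a ≠ 0) : PrimeGraph.IsSymp (torMat m a) := by
  ext i j
  rw [PrimeGraph.gram_apply]
  fin_cases i <;> fin_cases j <;>
    simp [torMat, torVec, Matrix.diagonal, Lie.altForm4, PrimeGraph.J4] <;> field_simp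

theorem torMat_star (hG : Good F m) {a : F} (ha : a ≠ 0) :
    Lie.star4 (torMat m a) = (torMat m a).map fun x => x ^ (2 ^ (m + 1)) := by
  have he := hG.sq a
  have hne : a ^ (2 ^ (m + 1)) ≠ 0 := pow_ne_zero _ ha
  ext i j
  fin_cases i <;> fin_cases j <;>
    simp [torMat, torVec, Lie.star4, Lie.pairOf, Matrix.diagonal, zero_pow sigma_ne_zero,
      div_pow, he] <;> field_simp

theorem revMat_symp : PrimeGraph.IsSymp (revMat F) := by
  ext i j
  fin_cases i <;> fin_cases j <;>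
    simp [revMat, PrimeGraph.J4, Matrix.mul_apply, Fin.sum_univ_four]

theorem revMat_star (hG : Good F m) :
    Lie.star4 (revMat F) = (revMat F).map fun x => x ^ (2 ^ (m + 1)) := by
  have h2 := hG.two
  ext i j
  fin_cases i <;> fin_cases j <;>
    simp [revMat, Lie.star4, Lie.pairOf, zero_pow sigma_ne_zero] <;> grind

/-- The linear maps preserving the ovoid and fixing both base points are the torus elements. -/
theorem diag_of_fix [Fintype F] (hm : 1 ≤ m) (hF : Fintype.card F = 2 ^ (2 * m + 1))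
    {α δ P Q R S : F} (hαδ : α * δ = 1)
    (h : ∀ x y : F, OnOvoid m ![α * vPt m x y 0, P * y + Q * x, R * y + S * x, δ]) :
    P = α ^ (2 ^ (m + 1)) / α ∧ Q = 0 ∧ R = 0 ∧ S = α / α ^ (2 ^ (m + 1)) := by
  have hG := good_of_card (m := m) hF
  have h2 := hG.two
  have hα : α ≠ 0 := left_ne_zero_of_mul_eq_one hαδ
  have hkey : ∀ x y : F,
      (R * y + S * x) * α * ((P * y + Q * x) * α) +
        ((R * y + S * x) * α) ^ (2 ^ (m + 1) + 2) + ((P * y + Q * x) * α) ^ (2 ^ (m + 1)) =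
      α ^ 2 * (x * y + x ^ (2 ^ (m + 1) + 2) + y ^ (2 ^ (m + 1))) := by
    intro x y
    obtain ⟨c, hc, e | ⟨x', y', e⟩⟩ := h x y
    · have h3 : δ = 0 := by simpa [vInf] using congrFun e 3
      rw [h3, mul_zero] at hαδ
      exact absurd hαδ zero_ne_one
    · have e3 : δ = c := by simpa [vPt] using congrFun e 3
      have e2 : R * y + S * x = c * x' := by simpa [vPt] using congrFun e 2
      have e1 : P * y + Q * x = c * y' := by simpa [vPt] using congrFun e 1
      have e0 : α * vPt m x y 0 = c * vPt m x' y' 0 := by simpa [vPt] using congrFun e 0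
      subst e3
      rw [e2, e1, show δ * x' * α = x' by linear_combination x' * hαδ,
        show δ * y' * α = y' by linear_combination y' * hαδ]
      rw [vPt_zero, vPt_zero] at e0
      linear_combination
        (-α) * e0 - (x' * y' + x' ^ (2 ^ (m + 1) + 2) + y' ^ (2 ^ (m + 1))) * hαδ
  have hcard : 2 ^ (m + 1) + 2 < Fintype.card F := by
    rw [hF]
    have h4 : 2 ^ 2 ≤ 2 ^ (m + 1) := Nat.pow_le_pow_right (by norm_num) (by omega)
    have h8 : 2 ^ (m + 2) ≤ 2 ^ (2 * m + 1) := Nat.pow_le_pow_right (by norm_num) (by omega)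
    rw [pow_succ 2 (m + 1)] at h8
    omega
  have hne : (2 : ℕ) ^ (m + 1) ≠ 2 := by
    have : 2 ^ 2 ≤ 2 ^ (m + 1) := Nat.pow_le_pow_right (by norm_num) (by omega)
    omega
  have coeff : ∀ A B' C : F,
      (∀ y : F, A * y ^ 2 + B' * y ^ (2 ^ (m + 1) + 2) + C * y ^ (2 ^ (m + 1)) = 0) →
      A = 0 ∧ B' = 0 ∧ C = 0 := by
    intro A B' C hz
    classical
    let p : Polynomial F := Polynomial.C A * Polynomial.X ^ 2 +
      Polynomial.C B' * Polynomial.X ^ (2 ^ (m + 1) + 2) + Polynomial.C C * Polynomial.X ^ (2 ^ (m + 1))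
    have hdeg : p.natDegree ≤ 2 ^ (m + 1) + 2 := by
      simp only [p]
      refine (Polynomial.natDegree_add_le _ _).trans (max_le ((Polynomial.natDegree_add_le _ _).trans
        (max_le ?_ (Polynomial.natDegree_C_mul_X_pow_le _ _))) ?_) <;>
        refine (Polynomial.natDegree_C_mul_X_pow_le _ _).trans ?_ <;>
        generalize (2 : ℕ) ^ (m + 1) = s <;> omega
    have hp : p = 0 := by
      refine Polynomial.eq_zero_of_natDegree_lt_card_of_eval_eq_zero p
        (f := (id : F → F)) Function.injective_id (fun y => ?_) (hdeg.trans_lt hcard)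
      simpa [p] using hz y
    have c1 := congrArg (fun r => Polynomial.coeff r 2) hp
    have c2 := congrArg (fun r => Polynomial.coeff r (2 ^ (m + 1) + 2)) hp
    have c3 := congrArg (fun r => Polynomial.coeff r (2 ^ (m + 1))) hp
    simp only [p, Polynomial.coeff_add, Polynomial.coeff_C_mul_X_pow, Polynomial.coeff_zero] at c1 c2 c3
    simp [hne.symm, hne, sigma_ne_zero] at c1 c2 c3
    exact ⟨c1, c2, c3⟩
  have hpow : ∀ u w : F, (u * w) ^ (2 ^ (m + 1)) = u ^ (2 ^ (m + 1)) * w ^ (2 ^ (m + 1)) :=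
    fun u w => mul_pow u w _
  have hy := coeff (R * α * (P * α)) ((R * α) ^ (2 ^ (m + 1) + 2))
    ((P * α) ^ (2 ^ (m + 1)) - α ^ 2) fun y => by
      have e := hkey 0 y
      simp only [zero_pow (by positivity : 2 ^ (m + 1) + 2 ≠ 0), mul_zero, add_zero,
        zero_add, zero_mul] at e
      rw [show R * y * α = R * α * y by ring, show P * y * α = P * α * y by ring, mul_pow, hpow] at e
      linear_combination e
  have hx := coeff (S * α * (Q * α)) ((S * α) ^ (2 ^ (m + 1) + 2) - α ^ 2)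
    ((Q * α) ^ (2 ^ (m + 1))) fun x => by
      have e := hkey x 0
      simp only [zero_pow sigma_ne_zero, mul_zero, add_zero, zero_add] at e
      rw [show S * x * α = S * α * x by ring, show Q * x * α = Q * α * x by ring, mul_pow, hpow] at e
      linear_combination e
  have hR : R = 0 := by simpa [hα] using eq_zero_of_pow_eq_zero hy.2.1
  have hQ : Q = 0 := by simpa [hα] using eq_zero_of_pow_eq_zero hx.2.2
  have hP : P * α = α ^ (2 ^ (m + 1)) := sigma_inj hG (by rw [hG.sq]; exact sub_eq_zero.mp hy.2.2)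
  have hSP : S * α * (P * α) = α ^ 2 := by
    have e := hkey 1 1
    have e0 := hkey 0 1
    have e1 := hkey 1 0
    simp only [hR, hQ, mul_one, mul_zero, zero_mul, add_zero, zero_add, one_pow,
      zero_pow (by positivity : 2 ^ (m + 1) + 2 ≠ 0), zero_pow sigma_ne_zero] at e e0 e1
    linear_combination e - e0 - e1
  refine ⟨by rw [eq_div_iff hα, hP], hQ, hR, ?_⟩
  rw [hP] at hSP
  rw [eq_div_iff (pow_ne_zero _ hα)]
  apply mul_left_cancel₀ hα
  linear_combination hSP

end Cfsg.Agent.Suzuki
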