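import Cfsg.Agent.Suzuki.Solubilizer
import Mathlib.Combinatorics.Enumerative.DoubleCounting

/-!
Counting the torus normalizers through a pair of non-commuting elements.
-/

set_option autoImplicit false

namespace Cfsg.Agent.Suzuki

open Matrix Cfsg.Agent.RankOne.Ovoid MulAction
open OddTori (IsTor)
open scoped Pointwise

universe u

/-- The normalizer of the centralizer of `c`. -/
abbrev NC {G : Type*} [Group G] (c : G) : Subgroup G :=
  Subgroup.normalizer (Subgroup.centralizer {c} : Set G)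

/-- The non-commuting pairs with first entry of order `o` in a torus normalizer of size `a`. -/
def Pairs {G : Type*} [Group G] (o a : ℕ) : Set (G × G) :=
  {p | orderOf p.1 = o ∧ p.1 * p.2 ≠ p.2 * p.1 ∧ ∃ c : G, IsTor c ∧
    Nat.card (Subgroup.centralizer {c}) = a ∧ p.1 ∈ NC c ∧ p.2 ∈ NC c}

/-- The non-commuting partners of `x` in torus normalizers. -/
def Out {G : Type*} [Group G] (x : G) : Set G :=
  {y | x * y ≠ y * x ∧ ∃ c : G, IsTor c ∧ x ∈ NC c ∧ y ∈ NC c}

theorem class_card {G : Type*} [Group G] [Finite G] (x : G) :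
    Set.ncard {y : G | ∃ g, g * x * g⁻¹ = y} * Nat.card (Subgroup.centralizer {x}) = Nat.card G := by
  have hb : ∀ g h : G, g * x * g⁻¹ = h * x * h⁻¹ ↔ h⁻¹ * g ∈ Subgroup.centralizer {x} := by
    intro g h
    rw [Subgroup.mem_centralizer_singleton_iff]
    constructor
    · intro e
      calc h⁻¹ * g * x = h⁻¹ * (g * x * g⁻¹) * g := by simp [mul_assoc]
        _ = x * (h⁻¹ * g) := by rw [e]; simp [mul_assoc]
    · intro e
      calc g * x * g⁻¹ = h * (h⁻¹ * g * x) * g⁻¹ := by simp [mul_assoc]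
        _ = h * x * h⁻¹ := by rw [e]; simp [mul_assoc]
  let f : G ⧸ Subgroup.centralizer {x} → {y : G | ∃ g, g * x * g⁻¹ = y} :=
    Quotient.lift (fun g => ⟨g * x * g⁻¹, g, rfl⟩) fun g h e => Subtype.ext
      ((hb h g).mpr (QuotientGroup.leftRel_apply.mp e)).symm
  have hf : Function.Bijective f := by
    constructor
    · intro p q
      induction p using QuotientGroup.induction_on with | _ g => ?_
      induction q using QuotientGroup.induction_on with | _ h => ?_
      intro e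
      exact (QuotientGroup.eq.mpr ((hb g h).mp (congrArg Subtype.val e))).symm
    · rintro ⟨y, g, rfl⟩
      exact ⟨(g : G ⧸ Subgroup.centralizer {x}), rfl⟩
  rw [← Nat.card_coe_set_eq, ← Nat.card_eq_of_bijective f hf,
    ← Subgroup.card_eq_card_quotient_mul_card_subgroup]

variable {F : Type u} [Field F] [Fintype F] {m : ℕ} (hm : 1 ≤ m)
  (hF : Fintype.card F = 2 ^ (2 * m + 1))

include hm hF

theorem eq_torus {c u : Cfsg.Sz F m} (hc : IsTor c) (hu : u ∈ Subgroup.centralizer {c}) (h1 : u ≠ 1) :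
    Subgroup.centralizer {u} = Subgroup.centralizer {c} :=
  oddToriTop hm hF c u hc.1 hc.2 hu h1

/-- The centralizer in a torus normalizer of an element outside the torus. -/
theorem card_comm {c x : Cfsg.Sz F m} (hc : IsTor c) (hx : x ∈ NC c)
    (hn : x ∉ Subgroup.centralizer {c}) :
    Nat.card (NC c ⊓ Subgroup.centralizer {x} : Subgroup (Cfsg.Sz F m)) *
      Nat.card (Subgroup.centralizer {c}) = Nat.card (NC c) := by
  classical
  set A := Subgroup.centralizer {c} with hA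
  set K := NC c ⊓ Subgroup.centralizer {x}
  apply le_antisymm
  · rw [← Nat.card_prod]
    refine Nat.card_le_card_of_injective (fun p => (⟨(p.1 : Cfsg.Sz F m) * (p.2 : Cfsg.Sz F m),
      (NC c).mul_mem p.1.2.1 (Subgroup.le_normalizer p.2.2)⟩ : NC c)) ?_
    rintro ⟨⟨y, hy⟩, ⟨u, hu⟩⟩ ⟨⟨y', hy'⟩, ⟨u', hu'⟩⟩ e
    have e' : y * u = y' * u' := congrArg Subtype.val e
    have h1 : y'⁻¹ * y = u' * u⁻¹ := by
      rw [inv_mul_eq_iff_eq_mul, ← mul_assoc, ← e', mul_inv_cancel_right]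
    have h2 : y'⁻¹ * y = 1 := by
      by_contra h
      refine hn ?_
      rw [hA, ← eq_torus hm hF hc (h1 ▸ A.mul_mem hu' (A.inv_mem hu)) h]
      exact Subgroup.mem_centralizer_singleton_iff.mpr (Subgroup.mem_centralizer_singleton_iff.mp
        ((K.mul_mem (K.inv_mem hy') hy).2)).symm
    obtain rfl : y = y' := (inv_mul_eq_one.mp h2).symm
    obtain rfl : u = u' := mul_left_cancel e'
    rfl
  · rw [mul_comm, ← Nat.card_prod]
    let φ : NC c → A := fun y => ⟨(y : Cfsg.Sz F m) * x * (y : Cfsg.Sz F m)⁻¹ * x⁻¹,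
      comm_mem hm hF hc y.2 hx⟩
    have hφ : ∀ y z : NC c, φ y = φ z → (z : Cfsg.Sz F m)⁻¹ * y ∈ K := fun y z e => by
      refine ⟨(NC c).mul_mem ((NC c).inv_mem z.2) y.2, Subgroup.mem_centralizer_singleton_iff.mpr ?_⟩
      have e' := mul_right_cancel (congrArg Subtype.val e)
      rw [mul_inv_eq_iff_eq_mul] at e'
      rw [mul_assoc, e']
      simp [mul_assoc]
    have hinv : ∀ y : NC c, φ (Function.invFun φ (φ y)) = φ y := fun y => Function.invFun_eq ⟨y, rfl⟩
    refine Nat.card_le_card_of_injective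
      (fun y => (φ y, (⟨_, hφ y (Function.invFun φ (φ y)) (hinv y).symm⟩ : K))) ?_
    intro y z e
    simp only [Prod.mk.injEq, Subtype.mk.injEq] at e
    obtain ⟨e1, e2⟩ := e
    rw [e1] at e2
    exact Subtype.ext (mul_left_cancel e2)

omit hm hF in
theorem orderOf_two_iff {x : Cfsg.Sz F m} : orderOf x = 2 ↔ x ≠ 1 ∧ x * x = 1 := by
  have : Fact (Nat.Prime 2) := ⟨Nat.prime_two⟩
  constructor
  · intro h
    exact ⟨fun e => by rw [e, orderOf_one] at h; omega, by rw [← pow_two, ← h, pow_orderOf_eq_one]⟩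
  · rintro ⟨h1, h2⟩
    exact orderOf_eq_prime (by rw [pow_two]; exact h2) h1

/-- Involutions invert the torus they normalize. -/
theorem inverts {c z u : Cfsg.Sz F m} (hc : IsTor c) (hz : z ∈ NC c) (hz2 : orderOf z = 2)
    (hu : u ∈ Subgroup.centralizer {c}) : z * u * z⁻¹ = u⁻¹ := by
  obtain ⟨hz1, hzz⟩ := orderOf_two_iff.mp hz2
  have hzi : z⁻¹ = z := inv_eq_of_mul_eq_one_right hzz
  set w := z * u * z⁻¹ with hw
  have hwA : w ∈ Subgroup.centralizer {c} := (Subgroup.mem_normalizer_iff.mp hz u).mp hu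
  by_contra hne
  have hv1 : w * u ≠ 1 := fun e => hne (eq_inv_of_mul_eq_one_left e)
  have hv : w * u ∈ Subgroup.centralizer {c} := Subgroup.mul_mem _ hwA hu
  have hzc : z ∈ Subgroup.centralizer {w * u} := by
    have hcomm : w * u = u * w := (oddToriSelf hm hF).comm c hc.1 hc.2 w hwA u hu
    have h : z * (w * u) * z⁻¹ = w * u := by
      rw [← conj_mul, show z * w * z⁻¹ = u by
        rw [hw, hzi]; simp only [mul_assoc]; rw [hzz, mul_one, ← mul_assoc, hzz, one_mul]]
      exact hcomm.symm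
    exact Subgroup.mem_centralizer_singleton_iff.mpr (mul_inv_eq_iff_eq_mul.mp h)
  rw [eq_torus hm hF hc hv hv1] at hzc
  exact not_mem_of_four hm hF hc hz1 (hz2 ▸ by norm_num) hzc

theorem card_order_two {c : Cfsg.Sz F m} (hc : IsTor c) :
    Set.ncard {x : Cfsg.Sz F m | orderOf x = 2 ∧ x ∈ NC c} =
      Nat.card (Subgroup.centralizer {c}) ∧
    Set.ncard {x : Cfsg.Sz F m | orderOf x = 4 ∧ x ∈ NC c} + 2 * Nat.card (Subgroup.centralizer {c}) =
      Nat.card (NC c) := by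
  classical
  have : Fact (Nat.Prime 2) := ⟨Nat.prime_two⟩
  set A := Subgroup.centralizer {c} with hA
  obtain ⟨⟨z, hzN⟩, hz⟩ : ∃ z : NC c, orderOf z = 2 := exists_prime_orderOf_dvd_card' 2 (by
    rcases tor_cases hm hF hc with ⟨-, h⟩ | ⟨-, h⟩ <;> rw [h]
    · exact dvd_mul_right _ _
    · exact Dvd.dvd.mul_right (by norm_num) _)
  rw [Subgroup.orderOf_mk] at hz
  have hzA : z ∉ A := not_mem_of_four hm hF hc (orderOf_two_iff.mp hz).1 (hz ▸ by norm_num)
  have hinv : {x : Cfsg.Sz F m | orderOf x = 2 ∧ x ∈ NC c} = (fun u => z * u) '' (A : Set (Cfsg.Sz F m)) := by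
    ext y
    constructor
    · rintro ⟨hy, hyN⟩
      refine ⟨z⁻¹ * y, ?_, by simp⟩
      have h1 := inverts hm hF hc hzN hz (Subgroup.mem_centralizer_singleton_iff.mpr rfl : c ∈ A)
      have h2 := inverts hm hF hc hyN hy (Subgroup.mem_centralizer_singleton_iff.mpr rfl : c ∈ A)
      refine Subgroup.mem_centralizer_singleton_iff.mpr ?_
      rw [← mul_inv_eq_iff_eq_mul] at *
      calc z⁻¹ * y * c * (z⁻¹ * y)⁻¹ = z⁻¹ * (y * c * y⁻¹) * z := by simp [mul_assoc]
        _ = c := by rw [h2, ← h1]; simp [mul_assoc]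
    · rintro ⟨u, hu, rfl⟩
      refine ⟨orderOf_two_iff.mpr ⟨fun e => hzA ?_, ?_⟩, (NC c).mul_mem hzN (Subgroup.le_normalizer hu)⟩
      · rw [eq_inv_of_mul_eq_one_left e]
        exact A.inv_mem hu
      · have h1 := inverts hm hF hc hzN hz hu
        have hzi : z⁻¹ = z := inv_eq_of_mul_eq_one_right (orderOf_two_iff.mp hz).2
        rw [hzi] at h1
        rw [← mul_assoc, h1, inv_mul_cancel]
  have hcard : Set.ncard ((fun u => z * u) '' (A : Set (Cfsg.Sz F m))) = Nat.card A := by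
    rw [Set.ncard_image_of_injective _ (mul_right_injective z), ← Nat.card_coe_set_eq]; rfl
  refine ⟨hinv ▸ hcard, ?_⟩
  have hN : ((NC c : Subgroup _) : Set (Cfsg.Sz F m)) = (A : Set (Cfsg.Sz F m)) ∪
      ({x : Cfsg.Sz F m | orderOf x = 2 ∧ x ∈ NC c} ∪ {x : Cfsg.Sz F m | orderOf x = 4 ∧ x ∈ NC c}) := by
    ext y
    constructor
    · intro hy
      by_cases hyA : y ∈ A
      · exact Or.inl hyA
      refine Or.inr ?_
      have h4 : orderOf y ∣ 2 ^ 2 := four_of_not_mem hm hF hc hy hyA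
      obtain ⟨j, hj, e⟩ := (Nat.dvd_prime_pow Nat.prime_two).mp h4
      interval_cases j
      · exact absurd (orderOf_eq_one_iff.mp e) fun e' => hyA (e' ▸ A.one_mem)
      · exact Or.inl ⟨e, hy⟩
      · exact Or.inr ⟨e, hy⟩
    · rintro (h | h | h)
      · exact Subgroup.le_normalizer h
      · exact h.2
      · exact h.2
  have hd1 : Disjoint (A : Set (Cfsg.Sz F m))
      ({x : Cfsg.Sz F m | orderOf x = 2 ∧ x ∈ NC c} ∪ {x : Cfsg.Sz F m | orderOf x = 4 ∧ x ∈ NC c}) := by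
    rw [Set.disjoint_left]
    rintro y hy (h | h) <;>
      exact not_mem_of_four hm hF hc (fun e => by simp [e] at h) (by rw [h.1] <;> norm_num) hy
  have hd2 : Disjoint {x : Cfsg.Sz F m | orderOf x = 2 ∧ x ∈ NC c}
      {x : Cfsg.Sz F m | orderOf x = 4 ∧ x ∈ NC c} :=
    Set.disjoint_left.mpr fun y h h' => by have := h.1.symm.trans h'.1; omega
  have := congrArg Set.ncard hN
  rw [Set.ncard_union_eq hd1, Set.ncard_union_eq hd2, hinv, hcard] at this
  rw [← Nat.card_coe_set_eq] at this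
  simp only [SetLike.coe_sort_coe] at this
  rw [this, ← Nat.card_coe_set_eq (A : Set (Cfsg.Sz F m))]
  simp only [SetLike.coe_sort_coe]
  omega

/-- Tori of equal size are conjugate: their non-identity elements form one class. -/
theorem card_torClass {c₀ : Cfsg.Sz F m} (h₀ : IsTor c₀) :
    Set.ncard {c : Cfsg.Sz F m | IsTor c ∧
        Nat.card (Subgroup.centralizer {c}) = Nat.card (Subgroup.centralizer {c₀})} * Nat.card (NC c₀) =
      (Nat.card (Subgroup.centralizer {c₀}) - 1) * Nat.card (Cfsg.Sz F m) := by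
  have h := oddToriSelf hm hF
  obtain ⟨e, -, hN, hcard⟩ := h.card_tcls h₀
  rw [← hcard, hN]
  congr 1
  rw [Nat.card_coe_set_eq]
  congr 1
  ext v
  constructor
  · rintro ⟨hv, he⟩
    by_contra hn
    have hco := h.coprime h₀ hv hn
    rw [he, Nat.coprime_self] at hco
    have := h.five c₀ h₀.1 h₀.2
    omega
  · intro hv
    exact ⟨h.tcls_tor h₀ hv, h.card_eq_of_mem h₀ hv⟩

theorem NC_card_eq {c c' : Cfsg.Sz F m} (hc : IsTor c) (hc' : IsTor c')
    (h : Nat.card (Subgroup.centralizer {c}) = Nat.card (Subgroup.centralizer {c'})) :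
    Nat.card (NC c) = Nat.card (NC c') := by
  obtain ⟨-, -, hlt⟩ := torus_facts hm
  have h2 := Nat.two_pow_pos (m + 1)
  rcases tor_cases hm hF hc with ⟨a1, a2⟩ | ⟨a1, a2⟩ <;>
    rcases tor_cases hm hF hc' with ⟨b1, b2⟩ | ⟨b1, b2⟩ <;> rw [a2, b2, h] <;> exfalso
  · have key : ∀ Q s : ℕ, s < Q → 0 < s → Q - 1 ≠ Q + s + 1 ∧ (Q - 1 = Q - s + 1 → s = 2) :=
      fun Q s _ _ => by omega
    obtain ⟨k1, k2⟩ := key _ _ hlt h2
    rcases b1 with b1 | b1
    · exact k1 (a1.symm.trans (h.trans b1))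
    · have h4 : 2 ^ 2 ≤ 2 ^ (m + 1) := Nat.pow_le_pow_right (by norm_num) (by omega)
      have := k2 (a1.symm.trans (h.trans b1))
      omega
  · have key : ∀ Q s : ℕ, s < Q → 0 < s → Q - 1 ≠ Q + s + 1 ∧ (Q - 1 = Q - s + 1 → s = 2) :=
      fun Q s _ _ => by omega
    obtain ⟨k1, k2⟩ := key _ _ hlt h2
    rcases a1 with a1 | a1
    · exact k1 (b1.symm.trans (h.symm.trans a1))
    · have h4 : 2 ^ 2 ≤ 2 ^ (m + 1) := Nat.pow_le_pow_right (by norm_num) (by omega)
      have := k2 (b1.symm.trans (h.symm.trans a1))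
      omega

theorem card_pairs {o : ℕ} (ho : o ∣ 4) (ho1 : o ≠ 1) {c₀ : Cfsg.Sz F m} (h₀ : IsTor c₀) {n : ℕ}
    (hn : ∀ c : Cfsg.Sz F m, IsTor c →
      Nat.card (Subgroup.centralizer {c}) = Nat.card (Subgroup.centralizer {c₀}) →
      Set.ncard {x : Cfsg.Sz F m | orderOf x = o ∧ x ∈ NC c} =
        n * Nat.card (Subgroup.centralizer {c})) :
    Set.ncard (Pairs o (Nat.card (Subgroup.centralizer {c₀})) : Set (Cfsg.Sz F m × Cfsg.Sz F m)) =
      n * (Nat.card (Subgroup.centralizer {c₀}) - 1) * Nat.card (Cfsg.Sz F m) := by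
  classical
  have := Fintype.ofFinite (Cfsg.Sz F m)
  set a := Nat.card (Subgroup.centralizer {c₀}) with ha
  set N := Nat.card (NC c₀) with hN
  set P : Set (Cfsg.Sz F m × Cfsg.Sz F m) := Pairs o a
  set C := {c : Cfsg.Sz F m | IsTor c ∧ Nat.card (Subgroup.centralizer {c}) = a}
  have hfib : ∀ c ∈ C, Set.ncard {p ∈ P | p.1 ∈ NC c ∧ p.2 ∈ NC c} = n * a * (N - N / a) := by
    rintro c ⟨hc, hca⟩
    have hS := hn c hc hca
    rw [hca] at hS
    rw [Set.ncard_eq_toFinset_card', Finset.card_eq_sum_card_fiberwise (f := Prod.fst)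
      (t := {x : Cfsg.Sz F m | orderOf x = o ∧ x ∈ NC c}.toFinset) (fun p hp => by
        simp only [Finset.mem_coe, Set.mem_toFinset, Set.mem_setOf_eq] at hp ⊢
        exact ⟨hp.1.1, hp.2.1⟩)]
    rw [Finset.sum_const_nat (m := N - N / a), ← Set.ncard_eq_toFinset_card', hS]
    intro x hx
    simp only [Set.mem_toFinset, Set.mem_setOf_eq] at hx
    have hxA : x ∉ Subgroup.centralizer {c} := not_mem_of_four hm hF hc
      (fun e => ho1 (by rw [← hx.1, e, orderOf_one])) (hx.1 ▸ ho)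
    set K := NC c ⊓ Subgroup.centralizer {x}
    have hK := card_comm hm hF hc hx.2 hxA
    rw [hca, NC_card_eq hm hF hc h₀ hca, ← hN] at hK
    have e : Finset.filter (fun p => p.1 = x) {p ∈ P | p.1 ∈ NC c ∧ p.2 ∈ NC c}.toFinset =
        ((NC c : Set (Cfsg.Sz F m)) \ (K : Set (Cfsg.Sz F m))).toFinset.image (fun y => (x, y)) := by
      ext ⟨u, y⟩
      simp only [Finset.mem_filter, Set.mem_toFinset, Set.mem_setOf_eq, Finset.mem_image,
        Prod.mk.injEq, Set.mem_diff, SetLike.mem_coe]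
      constructor
      · rintro ⟨⟨hp, -, hy⟩, rfl⟩
        exact ⟨y, ⟨hy, fun hk => hp.2.1 (Subgroup.mem_centralizer_singleton_iff.mp hk.2).symm⟩, rfl, rfl⟩
      · rintro ⟨y', ⟨hy, hk⟩, rfl, rfl⟩
        exact ⟨⟨⟨hx.1, fun e => hk ⟨hy, Subgroup.mem_centralizer_singleton_iff.mpr e.symm⟩,
          c, hc, hca, hx.2, hy⟩, hx.2, hy⟩, rfl⟩
    rw [e, Finset.card_image_of_injective _ (Prod.mk_right_injective x), ← Set.ncard_eq_toFinset_card',
      Set.ncard_sdiff (show (K : Set (Cfsg.Sz F m)) ⊆ NC c from fun y hy => hy.1),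
      ← Nat.card_coe_set_eq, ← Nat.card_coe_set_eq]
    show Nat.card (NC c) - Nat.card K = _
    rw [NC_card_eq hm hF hc h₀ hca, ← hN, ← hK, Nat.mul_div_cancel _ (ha ▸ Nat.card_pos)]
  have hbelow : ∀ p ∈ P, Set.ncard {c ∈ C | p.1 ∈ NC c ∧ p.2 ∈ NC c} = a - 1 := by
    rintro ⟨x, y⟩ ⟨-, hne, c', hc', hca', hx', hy'⟩
    have hu : x * y * x⁻¹ * y⁻¹ ≠ 1 := fun e => hne (by
      have e1 := mul_inv_eq_one.mp e
      exact mul_inv_eq_iff_eq_mul.mp e1)
    have hu' := comm_mem hm hF hc' hx' hy'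
    have e : {c ∈ C | (x, y).1 ∈ NC c ∧ (x, y).2 ∈ NC c} =
        ((Subgroup.centralizer {c'} : Subgroup _) : Set (Cfsg.Sz F m)) \ {1} := by
      ext c
      constructor
      · rintro ⟨⟨hc, -⟩, hx, hy⟩
        refine ⟨?_, hc.1⟩
        rw [SetLike.mem_coe, ← eq_torus hm hF hc' hu' hu, eq_torus hm hF hc (comm_mem hm hF hc hx hy) hu]
        exact Subgroup.mem_centralizer_singleton_iff.mpr rfl
      · rintro ⟨hcA, hc1⟩
        have hC := eq_torus hm hF hc' hcA hc1
        refine ⟨⟨(oddToriSelf hm hF).tor_mem hc' hcA hc1, by rw [hC, hca']⟩, ?_, ?_⟩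
        · show x ∈ Subgroup.normalizer _; rw [hC]; exact hx'
        · show y ∈ Subgroup.normalizer _; rw [hC]; exact hy'
    rw [e, Set.ncard_sdiff_singleton_of_mem (Subgroup.one_mem _), ← Nat.card_coe_set_eq]
    exact congrArg (· - 1) hca'
  have key := Finset.card_mul_eq_card_mul (s := C.toFinset) (t := P.toFinset)
    (fun c p => p.1 ∈ NC c ∧ p.2 ∈ NC c) (m := n * a * (N - N / a)) (n := a - 1)
    (fun c hc => by
      rw [← hfib c (Set.mem_toFinset.mp hc), Set.ncard_eq_toFinset_card']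
      congr 1; ext p; simp [Finset.bipartiteAbove]; tauto)
    (fun p hp => by
      rw [← hbelow p (Set.mem_toFinset.mp hp), Set.ncard_eq_toFinset_card']
      congr 1; ext c; simp [Finset.bipartiteBelow]; tauto)
  rw [← Set.ncard_eq_toFinset_card', ← Set.ncard_eq_toFinset_card'] at key
  have hC : Set.ncard C * N = (a - 1) * Nat.card (Cfsg.Sz F m) := card_torClass hm hF h₀
  have h5 : 5 ≤ a := (oddToriSelf hm hF).five c₀ h₀.1 h₀.2
  obtain ⟨f, hf, hNf⟩ : ∃ f, 2 ≤ f ∧ N = f * a := by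
    rcases tor_cases hm hF h₀ with ⟨-, h⟩ | ⟨-, h⟩
    · exact ⟨2, le_rfl, h⟩
    · exact ⟨4, by norm_num, h⟩
  rw [hNf, Nat.mul_div_cancel _ (by omega)] at key
  rw [hNf] at hC
  have hsub : f * a - f = f * (a - 1) := by rw [Nat.mul_sub, mul_one]
  rw [hsub] at key
  refine Nat.eq_of_mul_eq_mul_right (show 0 < a - 1 by omega) ?_
  rw [← key]
  calc Set.ncard C * (n * a * (f * (a - 1))) = n * (a - 1) * (Set.ncard C * (f * a)) := by ring
    _ = _ := by rw [hC]; ring

end Cfsg.Agent.Suzuki
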