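import Cfsg.Agent.Suzuki.Tori3
import Cfsg.Agent.Suzuki.Subfield
import Cfsg.Agent.Suzuki.Counting

/-!
The subgroups of the Suzuki group.
-/

set_option autoImplicit false

namespace Cfsg.Agent.Suzuki

open Matrix Cfsg.Agent.RankOne.Ovoid MulAction
open scoped Pointwise

universe u

variable {F : Type u} [Field F] [Fintype F] {m : ℕ} (hm : 1 ≤ m)
  (hF : Fintype.card F = 2 ^ (2 * m + 1))

/-- The three standard kinds of overgroup. -/
def Listed (M : Subgroup (Cfsg.Sz F m)) : Prop :=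
  (∃ P : Sylow 2 (Cfsg.Sz F m),
      M ≤ Subgroup.normalizer ((P : Subgroup (Cfsg.Sz F m)) : Set (Cfsg.Sz F m))) ∨
  (∃ A : Subgroup (Cfsg.Sz F m), IsCyclic A ∧ Nat.card A ∈ ({2 ^ (2 * m + 1) - 1,
      2 ^ (2 * m + 1) + 2 ^ (m + 1) + 1, 2 ^ (2 * m + 1) - 2 ^ (m + 1) + 1} : Set ℕ) ∧
    M ≤ Subgroup.normalizer (A : Set (Cfsg.Sz F m))) ∨
  (∃ (K : Type) (_ : Field K) (_ : Fintype K) (k : ℕ), 1 ≤ k ∧ k < m ∧
    Fintype.card K = 2 ^ (2 * k + 1) ∧ 2 * k + 1 ∣ 2 * m + 1 ∧
      ∃ S : Subgroup (Cfsg.Sz F m), Nonempty (S ≃* Cfsg.Sz K k) ∧ M ≤ S)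

theorem map_normalizer_le {M A : Subgroup (Cfsg.Sz F m)} (g : Cfsg.Sz F m)
    (h : M.map (MulAut.conj g).toMonoidHom ≤ Subgroup.normalizer (A : Set (Cfsg.Sz F m))) :
    M ≤ Subgroup.normalizer ((A.map (MulAut.conj g⁻¹).toMonoidHom : Subgroup (Cfsg.Sz F m)) :
      Set (Cfsg.Sz F m)) := by
  intro x hx
  have hx' := Subgroup.mem_normalizer_iff.mp (h ⟨x, hx, rfl⟩)
  refine Subgroup.mem_normalizer_iff.mpr fun y => ?_
  rw [Subgroup.mem_map_equiv, Subgroup.mem_map_equiv]
  simp only [MulAut.conj_symm_apply, inv_inv]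
  have := hx' (g * y * g⁻¹)
  simpa [MulAut.conj_apply, mul_assoc] using this

theorem Listed.of_conj {M : Subgroup (Cfsg.Sz F m)} (g : Cfsg.Sz F m)
    (h : Listed (M.map (MulAut.conj g).toMonoidHom)) : Listed M := by
  have : Fact (Nat.Prime 2) := ⟨Nat.prime_two⟩
  rcases h with ⟨P, hP⟩ | ⟨A, hA, hc, hM⟩ | ⟨K, iF, iT, k, h1, h2, h3, h4, S, ⟨e⟩, hM⟩
  · refine Or.inl ⟨g⁻¹ • P, ?_⟩
    rw [Sylow.coe_subgroup_smul]
    exact map_normalizer_le g hP
  · refine Or.inr (Or.inl ⟨A.map (MulAut.conj g⁻¹).toMonoidHom, ?_, ?_, map_normalizer_le g hM⟩)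
    · exact (A.equivMapOfInjective _ (MulAut.conj g⁻¹).injective).isCyclic.mp hA
    · rw [Subgroup.card_map_of_injective (MulAut.conj g⁻¹).injective]
      exact hc
  · refine Or.inr (Or.inr ⟨K, iF, iT, k, h1, h2, h3, h4, S.map (MulAut.conj g⁻¹).toMonoidHom,
      ⟨(S.equivMapOfInjective _ (MulAut.conj g⁻¹).injective).symm.trans e⟩, fun x hx => ?_⟩)
    exact ⟨_, hM ⟨x, hx, rfl⟩, by simp [mul_assoc]⟩

theorem normalizer_H_cases (hG : Good F m) (hm : 1 ≤ m) (hF : Fintype.card F = 2 ^ (2 * m + 1))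
    {n : Cfsg.Sz F m} {c : Fˣ} (hc : c ≠ 1) (h : n * H hG c * n⁻¹ ∈ (H hG).range) :
    n ∈ (H hG).range ∨ ∃ d, n = J hG * H hG d := by
  obtain ⟨c', hc'⟩ := h
  have hc'1 : c' ≠ 1 := fun e => hc (H_injective hG (by
    rw [e, map_one, eq_comm, mul_inv_eq_one, mul_eq_left] at hc'
    rw [hc', map_one]))
  have hfix : ∀ p : Cfsg.suzukiOvoid F m, H hG c • p = p → n • p = pI ∨ n • p = pP 0 0 :=
    fun p hp => H_fixes_two hG hc'1 (by rw [hc', mul_smul, mul_smul, inv_smul_smul, hp])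
  rcases hfix _ (H_pI hG c) with e1 | e1 <;> rcases hfix _ (H_pP_zero hG c) with e2 | e2
  · exact absurd (MulAction.injective n (e2.trans e1.symm)) (pP_ne_pI 0 0)
  · obtain ⟨d, hd⟩ := eq_H_of_fix hG hm hF e1 e2
    exact Or.inl ⟨d, hd.symm⟩
  · obtain ⟨d, hd⟩ := eq_H_of_fix hG hm hF (g := J hG * n)
      (by rw [mul_smul, e1, J_pP_zero]) (by rw [mul_smul, e2, J_pI])
    exact Or.inr ⟨d, by rw [← hd, ← mul_assoc, J_mul_J, one_mul]⟩
  · exact absurd (MulAction.injective n (e2.trans e1.symm)) (pP_ne_pI 0 0)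

theorem card_normalizer_H (hG : Good F m) (hm : 1 ≤ m) (hF : Fintype.card F = 2 ^ (2 * m + 1)) :
    Nat.card (Subgroup.normalizer ((H hG).range : Set (Cfsg.Sz F m))) =
      2 * Nat.card (H hG).range := by
  obtain ⟨c, hc0, hc1, -⟩ := exists_sigma_ne hm hF
  set u := Units.mk0 c hc0
  have hu : u ≠ 1 := fun e => hc1 (congrArg Units.val e)
  have hR : ((H hG).range : Set (Cfsg.Sz F m)).ncard = Nat.card (H hG).range :=
    (Nat.card_coe_set_eq _).symm
  have hset : (Subgroup.normalizer ((H hG).range : Set (Cfsg.Sz F m)) : Set (Cfsg.Sz F m)) =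
      ((H hG).range : Set (Cfsg.Sz F m)) ∪ (fun x => J hG * x) '' (H hG).range := by
    ext n
    constructor
    · intro hn
      rcases normalizer_H_cases hG hm hF hu ((Subgroup.mem_normalizer_iff.mp hn _).mp ⟨u, rfl⟩) with
        h | ⟨d, hd⟩
      · exact Or.inl h
      · exact Or.inr ⟨_, ⟨d, rfl⟩, hd.symm⟩
    · rintro (h | ⟨_, ⟨d, rfl⟩, rfl⟩)
      · exact Subgroup.le_normalizer h
      · refine (Subgroup.normalizer _).mul_mem ?_ (Subgroup.le_normalizer ⟨d, rfl⟩)
        refine Subgroup.mem_normalizer_iff.mpr fun x => ⟨?_, ?_⟩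
        · rintro ⟨e, rfl⟩
          exact ⟨e⁻¹, by rw [← J_H_J hG e, inv_eq_of_mul_eq_one_right (J_mul_J hG)]⟩
        · rintro ⟨e, he⟩
          refine ⟨e⁻¹, ?_⟩
          rw [← J_H_J hG e, he, inv_eq_of_mul_eq_one_right (J_mul_J hG), ← mul_assoc, ← mul_assoc,
            J_mul_J, one_mul, mul_assoc, J_mul_J, mul_one]
  have hd : Disjoint ((H hG).range : Set (Cfsg.Sz F m))
      ((fun x => J hG * x) '' (H hG).range) := by
    rw [Set.disjoint_left]
    rintro _ ⟨a, rfl⟩ ⟨_, ⟨d, rfl⟩, e⟩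
    have := congrArg (fun z : Cfsg.Sz F m => z • (pI : Cfsg.suzukiOvoid F m)) e
    simp only [mul_smul, H_pI, J_pI] at this
    exact pP_ne_pI 0 0 this
  rw [← SetLike.coe_sort_coe, Nat.card_coe_set_eq, hset, Set.ncard_union_eq hd,
    Set.ncard_image_of_injective _ (mul_right_injective _), hR, two_mul]

include hm hF

theorem odd_or_two {x : Cfsg.Sz F m} (hx : x ≠ 1) : orderOf x ∣ 4 ∨ Odd (orderOf x) := by
  rcases elt_cases hm hF x with h | ⟨k, hk⟩ | ⟨k, c, -, hk⟩
  · refine Or.inr (Nat.not_even_iff_odd.mp fun he => ?_)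
    exact (dvd_of_fpf (good_of_card (m := m) hF) hm hF h Nat.prime_two (even_iff_two_dvd.mp he)).1 rfl
  · exact Or.inl (orderOf_dvd_four hF hk)
  · refine Or.inr (Odd.of_dvd_nat ?_ (orderOf_dvd_sub_one hF hk))
    obtain ⟨j, hj⟩ := even_q hm hF
    have := eight_le hm hF
    exact ⟨j - 1, by omega⟩

theorem not_odd_and_four {x : Cfsg.Sz F m} (hx : x ≠ 1) (h : orderOf x ∣ 4) :
    ¬ Odd (orderOf x) := fun ho => by
  obtain ⟨j, hj, e⟩ := (Nat.dvd_prime_pow Nat.prime_two).mp (show orderOf x ∣ 2 ^ 2 from h)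
  rcases j with _ | j
  · exact hx (orderOf_eq_one_iff.mp (by rw [e, pow_zero]))
  · rw [e, pow_succ] at ho
    exact Nat.not_even_iff_odd.mpr ho (even_two.mul_left _)

theorem mem_U_of_fix {x : Cfsg.Sz F m} (hfix : x • (pI : Cfsg.suzukiOvoid F m) = pI)
    (h : orderOf x ∣ 4) : x ∈ U (good_of_card (m := m) hF) := by
  have hG := good_of_card (m := m) hF
  obtain ⟨a, b, c, rfl⟩ := eq_T_mul_H hG hm hF hfix
  by_cases hc : c = 1
  · rw [hc, map_one, mul_one]; exact T_mem hG a b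
  exfalso
  obtain ⟨w, -, d, hd⟩ := exists_U_conj hG hm hF (a := a) (b := b) hc
  by_cases hx : T hG a b * H hG c = 1
  · exact hc (T_H_inj hG (c' := 1) (hx.trans (by rw [map_one, mul_one, T_zero]) :
      T hG a b * H hG c = T hG 0 0 * H hG 1)).2.2
  refine not_odd_and_four hm hF hx h ?_
  refine Odd.of_dvd_nat ?_ (orderOf_dvd_sub_one hF hd)
  obtain ⟨j, hj⟩ := even_q hm hF
  have := eight_le hm hF
  exact ⟨j - 1, by omega⟩

theorem torus_pack {x : Cfsg.Sz F m} (hx : x ≠ 1) (ho : Odd (orderOf x)) :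
    IsCyclic (Subgroup.centralizer {x}) ∧
      Nat.card (Subgroup.centralizer {x}) ∈ ({2 ^ (2 * m + 1) - 1,
        2 ^ (2 * m + 1) + 2 ^ (m + 1) + 1, 2 ^ (2 * m + 1) - 2 ^ (m + 1) + 1} : Set ℕ) ∧
      ∃ f, (f = 2 ∨ f = 4) ∧
        Nat.card (Subgroup.normalizer (Subgroup.centralizer {x} : Set (Cfsg.Sz F m))) =
          f * Nat.card (Subgroup.centralizer {x}) := by
  have hG := good_of_card (m := m) hF
  rcases elt_cases hm hF x with h | ⟨k, hk⟩ | ⟨k, c, hc, hk⟩
  · obtain ⟨-, -, -, -, -, -, -, hN⟩ := torus_structure hm hF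
    refine ⟨centralizer_isCyclic hm hF h, ?_, 4, Or.inr rfl, hN x h⟩
    rcases torus_card_cases hm hF h with e | e
    · exact Or.inr (Or.inr e)
    · exact Or.inr (Or.inl e)
  · exact absurd ho (not_odd_and_four hm hF hx (orderOf_dvd_four hF hk))
  · obtain ⟨h1, h2⟩ := centralizer_of_conj_H hm hF hc hk
    refine ⟨h1, Or.inl (by rw [h2, Nat.card_eq_fintype_card, hF]), 2, Or.inl rfl, ?_⟩
    have hmap : (Subgroup.centralizer {x}).map (MulAut.conj k).toMonoidHom = (H hG).range := by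
      rw [← centralizer_conj, hk]
      exact centralizer_H _ hm hF hc
    have hNmap : (Subgroup.normalizer (Subgroup.centralizer {x} : Set (Cfsg.Sz F m))).map
        (MulAut.conj k).toMonoidHom = Subgroup.normalizer ((H hG).range : Set (Cfsg.Sz F m)) := by
      rw [← hmap, Subgroup.map_equiv_normalizer_eq]
    rw [← Subgroup.card_map_of_injective (f := (MulAut.conj k).toMonoidHom)
      (MulAut.conj k).injective, hNmap,
      card_normalizer_H hG hm hF, ← hmap,
      Subgroup.card_map_of_injective (f := (MulAut.conj k).toMonoidHom) (MulAut.conj k).injective]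

theorem oddToriTop (x u : Cfsg.Sz F m) (hx : x ≠ 1) (ho : Odd (orderOf x))
    (hu : u ∈ Subgroup.centralizer {x}) (hu1 : u ≠ 1) :
    Subgroup.centralizer {u} = Subgroup.centralizer {x} := by
  obtain ⟨hcy, hc, -⟩ := torus_pack hm hF hx ho
  have hou : Odd (orderOf u) := by
    refine (Nat.not_even_iff_odd.mp fun he => ?_)
    have hd : 2 ∣ Nat.card (Subgroup.centralizer {x}) :=
      (even_iff_two_dvd.mp he).trans (Subgroup.orderOf_mk u hu ▸ orderOf_dvd_natCard _)
    have h1 : 2 ∣ 2 ^ (2 * m + 1) := dvd_pow_self 2 (by omega)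
    have h2 : 2 ∣ 2 ^ (m + 1) := dvd_pow_self 2 (by omega)
    obtain ⟨-, -, hlt⟩ := torus_facts hm
    have := Nat.two_pow_pos (2 * m + 1)
    rcases hc with e | e | e <;> rw [e] at hd <;> omega
  have hcyu := (torus_pack hm hF hu1 hou).1
  have hcomm : ∀ (z : Cfsg.Sz F m), IsCyclic (Subgroup.centralizer {z}) →
      ∀ a ∈ Subgroup.centralizer {z}, ∀ b ∈ Subgroup.centralizer {z}, a * b = b * a :=
    fun z hz a ha b hb => congrArg Subtype.val
      ((IsCyclic.commutative (α := Subgroup.centralizer {z})).is_comm.comm ⟨a, ha⟩ ⟨b, hb⟩)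
  ext z
  refine ⟨fun hz => ?_, fun hz => ?_⟩
  · rw [Subgroup.mem_centralizer_singleton_iff]
    exact hcomm u hcyu z hz x (Subgroup.mem_centralizer_singleton_iff.mpr
      (Subgroup.mem_centralizer_singleton_iff.mp hu).symm)
  · rw [Subgroup.mem_centralizer_singleton_iff]
    exact hcomm x hcy z hz u hu

theorem oddTori (M : Subgroup (Cfsg.Sz F m)) : OddTori M := by
  classical
  have hcoe : ∀ x : M, orderOf x = orderOf (x : Cfsg.Sz F m) := fun x => (Subgroup.orderOf_coe x).symm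
  have hne : ∀ x : M, x ≠ 1 → (x : Cfsg.Sz F m) ≠ 1 := fun x hx e => hx (Subtype.ext e)
  have hle : ∀ x u : M, u ∈ Subgroup.centralizer {x} →
      (u : Cfsg.Sz F m) ∈ Subgroup.centralizer {(x : Cfsg.Sz F m)} := fun x u hu =>
    Subgroup.mem_centralizer_singleton_iff.mpr
      (congrArg Subtype.val (Subgroup.mem_centralizer_singleton_iff.mp hu))
  refine ⟨fun x hx => by rw [hcoe]; exact odd_or_two hm hF (hne x hx), fun x hx ho u hu v hv => ?_,
    fun x hx ho => ?_, fun x hx ho => ?_, fun x hx ho => ?_⟩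
  · have := (torus_pack hm hF (hne x hx) (hcoe x ▸ ho)).1
    have h' := congrArg Subtype.val
      ((IsCyclic.commutative (α := Subgroup.centralizer {(x : Cfsg.Sz F m)})).is_comm.comm
        ⟨_, hle x u hu⟩ ⟨_, hle x v hv⟩)
    exact Subtype.ext h'
  · refine Nat.not_even_iff_odd.mp fun he => ?_
    obtain ⟨⟨u, hu⟩, hu2⟩ := exists_prime_orderOf_dvd_card' 2 (even_iff_two_dvd.mp he)
    rw [Subgroup.orderOf_mk] at hu2
    obtain ⟨hcy, hc, -⟩ := torus_pack hm hF (hne x hx) (hcoe x ▸ ho)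
    have hd : 2 ∣ Nat.card (Subgroup.centralizer {(x : Cfsg.Sz F m)}) := by
      rw [← hu2, hcoe u, ← Subgroup.orderOf_mk _ (hle x u hu)]
      exact orderOf_dvd_natCard _
    have h1 : 2 ∣ 2 ^ (2 * m + 1) := dvd_pow_self 2 (by omega)
    have h2 : 2 ∣ 2 ^ (m + 1) := dvd_pow_self 2 (by omega)
    obtain ⟨-, -, hlt⟩ := torus_facts hm
    have := Nat.two_pow_pos (2 * m + 1)
    rcases hc with e | e | e <;> rw [e] at hd <;> omega
  · have hmem : x ∈ Subgroup.centralizer {x} := Subgroup.mem_centralizer_singleton_iff.mpr rfl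
    have hd : orderOf x ∣ Nat.card (Subgroup.centralizer {x}) :=
      Subgroup.orderOf_mk x hmem ▸ orderOf_dvd_natCard _
    refine le_trans ?_ (Nat.le_of_dvd Nat.card_pos hd)
    have h1 : orderOf x ≠ 1 := fun e => hx (orderOf_eq_one_iff.mp e)
    have h3 : orderOf x ≠ 3 := fun e => three_not_dvd hm hF (by
      rw [← e, hcoe]; exact orderOf_dvd_natCard _)
    obtain ⟨j, hj⟩ := ho
    omega
  · obtain ⟨hcy, -, f, hf, hN⟩ := torus_pack hm hF (hne x hx) (hcoe x ▸ ho)
    set A := Subgroup.centralizer {x}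
    set C := Subgroup.centralizer {(x : Cfsg.Sz F m)}
    set NG := Subgroup.normalizer (C : Set (Cfsg.Sz F m))
    have hcentral : ∀ u : Cfsg.Sz F m, u ∈ C → u ≠ 1 → Subgroup.centralizer {u} = C := by
      intro u hu hu1
      have hT := oddToriTop hm hF
      exact hT (x : Cfsg.Sz F m) u (hne x hx) (hcoe x ▸ ho) hu hu1
    have hin : ∀ n : Subgroup.normalizer (A : Set M), ((n : M) : Cfsg.Sz F m) ∈ NG := fun n => by
      have hx' : (n : M) * x * (n : M)⁻¹ ∈ A :=
        (Subgroup.mem_normalizer_iff.mp n.2 x).mp (Subgroup.mem_centralizer_singleton_iff.mpr rfl)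
      have hne' : ((n : M) : Cfsg.Sz F m) * x * ((n : M) : Cfsg.Sz F m)⁻¹ ≠ 1 := fun e =>
        hne x hx (by simpa [mul_inv_eq_one, mul_eq_left] using e)
      have hmap : C.map (MulAut.conj ((n : M) : Cfsg.Sz F m)).toMonoidHom = C := by
        show (Subgroup.centralizer {(x : Cfsg.Sz F m)}).map _ = C
        rw [← centralizer_conj]
        exact hcentral _ (hle x _ hx') hne'
      refine Subgroup.mem_normalizer_iff.mpr fun z => ?_
      conv_rhs => rw [← hmap]
      rw [Subgroup.mem_map_equiv, MulAut.conj_symm_apply]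
      simp [mul_assoc]
    let ψ : Subgroup.normalizer (A : Set M) →* NG ⧸ C.subgroupOf NG :=
      (QuotientGroup.mk' _).comp
        { toFun := fun n => ⟨_, hin n⟩
          map_one' := rfl
          map_mul' := fun _ _ => rfl }
    have hker : ψ.ker = A.subgroupOf (Subgroup.normalizer (A : Set M)) := by
      ext n
      rw [MonoidHom.mem_ker, Subgroup.mem_subgroupOf]
      show QuotientGroup.mk _ = (1 : NG ⧸ C.subgroupOf NG) ↔ _
      rw [QuotientGroup.eq_one_iff, Subgroup.mem_subgroupOf]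
      show ((n : M) : Cfsg.Sz F m) ∈ C ↔ _
      rw [Subgroup.mem_centralizer_singleton_iff, Subgroup.mem_centralizer_singleton_iff]
      exact ⟨fun h => Subtype.ext h, fun h => congrArg Subtype.val h⟩
    have hAN : A ≤ Subgroup.normalizer (A : Set M) := Subgroup.le_normalizer
    refine ⟨Nat.card ψ.range, ?_, ?_⟩
    · have hq : Nat.card (NG ⧸ C.subgroupOf NG) = f := by
        have e := Subgroup.card_eq_card_quotient_mul_card_subgroup (C.subgroupOf NG)
        rw [hN, Nat.card_congr (Subgroup.subgroupOfEquivOfLe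
          (Subgroup.le_normalizer : C ≤ NG)).toEquiv] at e
        exact (Nat.eq_of_mul_eq_mul_right Nat.card_pos e).symm
      have hd := ψ.range.card_subgroup_dvd_card
      rw [hq] at hd
      have h4 : Nat.card ψ.range ∣ 2 ^ 2 := by
        rcases hf with rfl | rfl
        · exact hd.trans (by norm_num)
        · exact hd
      obtain ⟨j, hj, e⟩ := (Nat.dvd_prime_pow Nat.prime_two).mp h4
      interval_cases j <;> rw [e] <;> norm_num
    · rw [Subgroup.card_eq_card_quotient_mul_card_subgroup ψ.ker,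
        Nat.card_congr (QuotientGroup.quotientKerEquivRange ψ).toEquiv, hker,
        Nat.card_congr (Subgroup.subgroupOfEquivOfLe hAN).toEquiv]

end Cfsg.Agent.Suzuki
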